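import Groth.Agent.Sga1.QuotBasic
import Mathlib.AlgebraicGeometry.Morphisms.Flat

/-!
# Flat base change and transitivity for quotients by finite groups (`SGA1.IsQuot`)

* `isQuot_of_flat_baseChange`: if `p : X ⟶ Y` is a quotient by `G`, `qY : Y' ⟶ Y` is flat and the square is
  cartesian, then `p' : X' ⟶ Y'` is a quotient by `G`.
* `isQuot_comp_prod`: composing a quotient by `G` and a quotient by `H`.
-/

set_option autoImplicit false
universe u

open CategoryTheory CategoryTheory.Limits AlgebraicGeometry TensorProduct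
open Groth.Agent.Sga1.QuotBasic

namespace K467.QuotFlat

section Alg

variable {A B A' B' : Type u} [CommRing A] [CommRing B] [CommRing A'] [CommRing B']
  [Algebra A B] [Algebra A A'] [Algebra B B'] [Algebra A' B'] [Algebra A B']
  [IsScalarTower A B B'] [IsScalarTower A A' B'] [Algebra.IsPushout A A' B B'] [Module.Flat A A']
  {ι : Type u} [Finite ι]

theorem invariants_of_flat (σ : ι → B →ₐ[A] B) (σ' : ι → B' →ₐ[A'] B')
    (compat : ∀ i b, σ' i (algebraMap B B' b) = algebraMap B B' (σ i b))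
    (hinj : Function.Injective (algebraMap A B))
    (hinv : ∀ b : B, (∀ i, σ i b = b) → b ∈ Set.range (algebraMap A B)) :
    Function.Injective (algebraMap A' B') ∧
      ∀ b' : B', (∀ i, σ' i b' = b') → b' ∈ Set.range (algebraMap A' B') := by
  classical
  let e : A' ⊗[A] B ≃ₐ[A'] B' := Algebra.IsPushout.equiv A A' B B'
  have he : ∀ a b, e (a ⊗ₜ b) = algebraMap A' B' a * algebraMap B B' b :=
    Algebra.IsPushout.equiv_tmul A A' B B'
  cases nonempty_fintype ι
  let Ψ : B →ₗ[A] (ι → B) := LinearMap.pi (fun i => (σ i).toLinearMap - LinearMap.id)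
  have hex : Function.Exact (Algebra.linearMap A B) Ψ := by
    intro b
    constructor
    · intro h
      exact hinv b (fun i => sub_eq_zero.mp (congrFun h i))
    · rintro ⟨a, rfl⟩
      ext i
      simp [Ψ]
  have hex' := Module.Flat.lTensor_exact (M := A') hex
  have hσ : ∀ (i : ι) (t : A' ⊗[A] B), e ((σ i).toLinearMap.lTensor A' t) = σ' i (e t) := by
    intro i t
    induction t with
    | zero => simp
    | add x y hx hy => simp only [map_add, hx, hy]
    | tmul a b =>
      rw [LinearMap.lTensor_tmul, he, he, map_mul, AlgHom.commutes, compat]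
      rfl
  constructor
  · have h1 : Function.Injective ((Algebra.linearMap A B).lTensor A') :=
      Module.Flat.lTensor_preserves_injective_linearMap _ hinj
    have h2 : ∀ a : A', algebraMap A' B' a = e ((Algebra.linearMap A B).lTensor A' (a ⊗ₜ 1)) := by
      intro a
      rw [LinearMap.lTensor_tmul, Algebra.linearMap_apply, map_one, he, map_one, mul_one]
    intro a₁ a₂ h
    rw [h2, h2] at h
    have h3 := h1 (e.injective h)
    have h4 := congrArg (TensorProduct.rid A A') h3
    simpa using h4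
  · intro b' hb'
    obtain ⟨t, rfl⟩ := e.surjective b'
    have h1 : ∀ i, (σ i).toLinearMap.lTensor A' t = t := by
      intro i
      apply e.injective
      rw [hσ, hb']
    have h2 : Ψ.lTensor A' t = 0 := by
      apply (TensorProduct.piRight A A A' (fun _ : ι => B)).injective
      rw [map_zero]
      ext i
      have h3 : ∀ t : A' ⊗[A] B, TensorProduct.piRight A A A' (fun _ : ι => B) (Ψ.lTensor A' t) i =
          (σ i).toLinearMap.lTensor A' t - t := by
        intro t
        induction t with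
        | zero => simp
        | add x y hx hy =>
          simp only [map_add, Pi.add_apply, hx, hy]; abel
        | tmul a b =>
          rw [LinearMap.lTensor_tmul, TensorProduct.piRight_apply, TensorProduct.piRightHom_tmul,
            LinearMap.lTensor_tmul]
          change a ⊗ₜ[A] (σ i b - b) = _
          rw [TensorProduct.tmul_sub]; rfl
      rw [h3, h1, sub_self]; rfl
    obtain ⟨s, hs⟩ := (hex' t).mp h2
    obtain ⟨a, ha⟩ := (TensorProduct.rid A A').symm.surjective s
    refine ⟨a, ?_⟩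
    rw [← hs, ← ha, TensorProduct.rid_symm_apply, LinearMap.lTensor_tmul, Algebra.linearMap_apply,
      map_one, he, map_one, mul_one]

end Alg

section Flat

variable {X Y X' Y' : Scheme.{u}} {G : Type u} [Group G] [Finite G]

theorem isQuot_of_flat_baseChange {ρ : G →* Aut X} {p : X ⟶ Y} (hp : SGA1.IsQuot ρ p)
    {qY : Y' ⟶ Y} [Flat qY] {pX : X' ⟶ X} {p' : X' ⟶ Y'} (hX : IsPullback pX p' p qY)
    {ρ' : G →* Aut X'} (hρ₁ : ∀ g : G, (ρ' g).hom ≫ pX = pX ≫ (ρ g).hom)
    (hρ₂ : ∀ g : G, (ρ' g).hom ≫ p' = p') : SGA1.IsQuot ρ' p' := by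
  have haff := hp.affine
  have haff' : IsAffineHom p' := MorphismProperty.of_isPullback hX ‹_›
  refine isQuot_of_affine_cover hρ₂ (fun y' => ?_)
  obtain ⟨V, hV, hyV⟩ := exists_affine_mem (qY y')
  obtain ⟨V', hV', hyV', hVV'⟩ := TopologicalSpace.Opens.isBasis_iff_nbhd.mp Y'.isBasis_affineOpens
      (show y' ∈ qY ⁻¹ᵁ V from hyV)
  refine ⟨V', hyV', hV', ?_⟩
  have hVX : IsAffineOpen (p ⁻¹ᵁ V) := hV.preimage p
  have hUY : p' ⁻¹ᵁ V' = pX ⁻¹ᵁ (p ⁻¹ᵁ V) ⊓ p' ⁻¹ᵁ V' := by
    refine le_antisymm (le_inf ?_ le_rfl) inf_le_right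
    rw [← Scheme.Hom.comp_preimage, hX.w, Scheme.Hom.comp_preimage]
    exact p'.preimage_mono hVV'
  have hle : p' ⁻¹ᵁ V' ≤ pX ⁻¹ᵁ (p ⁻¹ᵁ V) := hUY.le.trans inf_le_left
  have hiso := isIso_pushoutSection_of_isAffineOpen hX hVV' (le_refl (p ⁻¹ᵁ V)) hUY hV hV' hVX
  rw [isIso_pushoutSection_iff] at hiso
  algebraize [(p.appLE V (p ⁻¹ᵁ V) le_rfl).hom, (qY.appLE V V' hVV').hom,
    (pX.appLE (p ⁻¹ᵁ V) (p' ⁻¹ᵁ V') hle).hom, (p'.appLE V' (p' ⁻¹ᵁ V') le_rfl).hom,
    ((qY.appLE V V' hVV') ≫ (p'.appLE V' (p' ⁻¹ᵁ V') le_rfl)).hom]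
  have t1 : IsScalarTower Γ(Y, V) Γ(X, p ⁻¹ᵁ V) Γ(X', p' ⁻¹ᵁ V') := by
    refine IsScalarTower.of_algebraMap_eq' ?_
    have := congrArg (fun k => k.hom) hiso.w
    exact this.symm
  have t2 : IsScalarTower Γ(Y, V) Γ(Y', V') Γ(X', p' ⁻¹ᵁ V') :=
    IsScalarTower.of_algebraMap_eq' rfl
  have t3 : Algebra.IsPushout Γ(Y, V) Γ(Y', V') Γ(X, p ⁻¹ᵁ V) Γ(X', p' ⁻¹ᵁ V') := by
    have := (CommRingCat.isPushout_iff_isPushout (R := Γ(Y, V)) (S := Γ(Y', V')) (R' := Γ(X, p ⁻¹ᵁ V))
      (S' := Γ(X', p' ⁻¹ᵁ V'))).mp hiso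
    exact this.symm
  have t4 : Module.Flat Γ(Y, V) Γ(Y', V') := by
    have := Flat.flat_appLE qY hV hV' hVV'
    exact this
  have key := invariants_of_flat (A := Γ(Y, V)) (A' := Γ(Y', V')) (B := Γ(X, p ⁻¹ᵁ V))
    (B' := Γ(X', p' ⁻¹ᵁ V')) (ι := G)
    (fun g => { (act ρ (stable_preimage hp.inv V) g).hom with
      commutes' := fun a => by
        have h := act_app_apply hp.inv V g a
        rw [Scheme.Hom.app_eq_appLE] at h
        exact h })
    (fun g => { (act ρ' (stable_preimage hρ₂ V') g).hom with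
      commutes' := fun a => by
        have h := act_app_apply hρ₂ V' g a
        rw [Scheme.Hom.app_eq_appLE] at h
        exact h })
    (fun g b => by
      have h : pX.appLE (p ⁻¹ᵁ V) (p' ⁻¹ᵁ V') hle ≫ act ρ' (stable_preimage hρ₂ V') g =
          act ρ (stable_preimage hp.inv V) g ≫ pX.appLE (p ⁻¹ᵁ V) (p' ⁻¹ᵁ V') hle := by
        unfold act
        rw [Scheme.Hom.appLE_comp_appLE]
        refine Eq.trans ?_ (Scheme.Hom.appLE_comp_appLE _ _ _ _ _ _ _).symm
        exact appLE_congr_hom (hρ₁ g) _ _ _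
      exact congrArg (fun k => k.hom b) h)
    (by
      have h := hp.injective V
      rw [Scheme.Hom.app_eq_appLE] at h
      exact h)
    (fun b hb => by
      have h := (quotOn_of_isQuot hp V).surj b hb
      rw [Scheme.Hom.app_eq_appLE] at h
      exact h)
  refine ⟨?_, fun s hs => ?_⟩
  · rw [Scheme.Hom.app_eq_appLE]; exact key.1
  · rw [Scheme.Hom.app_eq_appLE]; exact key.2 s hs

end Flat

section Trans

variable {X Y Z : Scheme.{u}} {G H : Type u} [Group G] [Group H]

/-- Transitivity: if `p` is a quotient of `X` by `G`, `r` a quotient of `Y` by `H`, and `K` acts on `X` in such a way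
that the orbits of `G` and of lifts of `H` are among those of `K`, then `p ≫ r` is a quotient of `X` by `K`. -/
theorem isQuot_comp {K : Type u} [Group K] {ρ : G →* Aut X} {p : X ⟶ Y} (hp : SGA1.IsQuot ρ p)
    {σ : H →* Aut Y} {r : Y ⟶ Z} (hr : SGA1.IsQuot σ r) {θ : K →* Aut X}
    (hinv : ∀ k : K, (θ k).hom ≫ p ≫ r = p ≫ r)
    (h1 : ∀ g : G, ∃ k : K, (θ k).hom = (ρ g).hom)
    (h2 : ∀ h : H, ∃ k : K, (θ k).hom ≫ p = p ≫ (σ h).hom) : SGA1.IsQuot θ (p ≫ r) := by
  have := hp.affine
  have := hr.affine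
  refine isQuot_of_quotOn hinv (fun U => ⟨?_, fun s hs => ?_⟩)
  · intro a b hab
    apply hr.injective U
    apply hp.injective
    rw [Scheme.Hom.comp_app] at hab
    exact hab
  · obtain ⟨t, ht⟩ := (quotOn_of_isQuot hp (r ⁻¹ᵁ U)).surj s (fun g => by
      obtain ⟨k, hk⟩ := h1 g
      have h3 := hs k
      unfold act at h3 ⊢
      rw [appLE_congr_hom hk] at h3
      exact h3)
    obtain ⟨w, hw⟩ := (quotOn_of_isQuot hr U).surj t (fun h => by
      apply hp.injective
      obtain ⟨k, hk⟩ := h2 h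
      have h3 := hs k
      have h4 : act σ (stable_preimage hr.inv U) h ≫ p.app (r ⁻¹ᵁ U) =
          p.app (r ⁻¹ᵁ U) ≫ act θ (stable_preimage hinv U) k := by
        unfold act
        rw [Scheme.Hom.app_eq_appLE, Scheme.Hom.appLE_comp_appLE]
        refine Eq.trans ?_ (Scheme.Hom.appLE_comp_appLE _ _ _ _ _ _ _).symm
        exact appLE_congr_hom hk.symm _ _ _
      have h5 := congrArg (fun k => k.hom t) h4
      refine h5.trans ?_
      change (act θ (stable_preimage hinv U) k).hom ((p.app (r ⁻¹ᵁ U)).hom t) = _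
      rw [ht]
      exact h3)
    refine ⟨w, ?_⟩
    rw [Scheme.Hom.comp_app]
    change (p.app _).hom ((r.app U).hom w) = s
    rw [hw, ht]

end Trans

end K467.QuotFlat
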