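import Groth.Agent.Zeta.K467.ProjPt
import Mathlib.AlgebraicGeometry.FunctionField

/-!
# The homogeneous ideal of an integral closed subscheme of projective space
-/

set_option autoImplicit false
universe u

open CategoryTheory AlgebraicGeometry Limits TopologicalSpace Opposite

namespace K467.Cone

open Groth.Agent Groth.Agent.Sga5 K467.ProjPt Groth.Agent.FormalB.TwistExt
open Groth.Agent.Ega2.H291.ProjClosed

section gen

variable {R A : Type u} [CommRing R] [CommRing A] [Algebra R A] {𝒜 : ℕ → Submodule R A} [GradedAlgebra 𝒜]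
  {ι : Type*} [Finite ι] (f : ι → A) (hf : ∀ i, f i ∈ 𝒜 1)
  (hcov : (HomogeneousIdeal.irrelevant 𝒜).toIdeal ≤ Ideal.span (Set.range f)) {Z : Scheme.{u}}
  (i : Z ⟶ Proj 𝒜) [QuasiCompact i]

include hcov in
/-- For integral `Z`, a homogeneous element is in the homogeneous ideal iff it vanishes at the generic point. -/
theorem mem_idl_iff_generic [IsIntegral Z] {d : ℕ} {a : A} (ha : a ∈ 𝒜 d) :
    a ∈ idl f hf i.ker ↔
      a ∈ (ProjectiveSpectrum.asHomogeneousIdeal (𝒜 := 𝒜) (i (genericPoint Z))).toIdeal := by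
  rw [mem_idl_iff_of_mem f hf _ ha]
  have key : ∀ j, fr (f j) (hf j) ha ∈ i.ker.ideal (chart (f j) (hf j)) ↔
      ¬ (i (genericPoint Z) ∈ Proj.basicOpen 𝒜 (f j) ∧ i (genericPoint Z) ∈ Proj.basicOpen 𝒜 a) := by
    intro j
    rw [Scheme.Hom.ker_apply, RingHom.mem_ker]
    have h1 : (i.app (chart (f j) (hf j)).1).hom (fr (f j) (hf j) ha) = 0 ↔
        Z.basicOpen ((i.app (chart (f j) (hf j)).1).hom (fr (f j) (hf j) ha)) = ⊥ :=
      (basicOpen_eq_bot_iff _).symm
    rw [h1]
    have h2 : Z.basicOpen ((i.app (chart (f j) (hf j)).1).hom (fr (f j) (hf j) ha)) =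
        i ⁻¹ᵁ (Proj 𝒜).basicOpen (fr (f j) (hf j) ha) := (Scheme.preimage_basicOpen i _).symm
    have h3 : (Proj 𝒜).basicOpen (fr (f j) (hf j) ha) = Proj.basicOpen 𝒜 (f j) ⊓ Proj.basicOpen 𝒜 a :=
      basicOpen_ofrac _ _ _
    rw [h2, h3]
    constructor
    · rintro h ⟨h4, h5⟩
      have h6 : genericPoint Z ∈ i ⁻¹ᵁ (Proj.basicOpen 𝒜 (f j) ⊓ Proj.basicOpen 𝒜 a) := ⟨h4, h5⟩
      rw [h] at h6
      exact h6
    · intro h
      by_contra hne
      apply h
      have h6 := ((genericPoint_spec Z).mem_open_set_iff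
        (i ⁻¹ᵁ (Proj.basicOpen 𝒜 (f j) ⊓ Proj.basicOpen 𝒜 a)).isOpen).mpr
        (by simpa using (Opens.ne_bot_iff_nonempty _).mp hne)
      exact h6
  constructor
  · intro h
    by_contra hna
    have hcover : (⨆ j, Proj.basicOpen 𝒜 (f j)) = ⊤ := Proj.iSup_basicOpen_eq_top 𝒜 f hcov
    have hmem : i (genericPoint Z) ∈ (⨆ j, Proj.basicOpen 𝒜 (f j)) := by rw [hcover]; trivial
    obtain ⟨j, hj⟩ := Opens.mem_iSup.mp hmem
    exact (key j).mp (h j) ⟨hj, hna⟩
  · intro h j
    refine (key j).mpr fun h2 => h2.2 h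

include hcov in
theorem idl_eq_generic [IsIntegral Z] :
    idl f hf i.ker = (ProjectiveSpectrum.asHomogeneousIdeal (𝒜 := 𝒜) (i (genericPoint Z))).toIdeal := by
  ext a
  have h1 : a ∈ idl f hf i.ker ↔ ∀ d, (DirectSum.decompose 𝒜 a d : A) ∈ idl f hf i.ker := by
    constructor
    · intro h d
      exact idl_isHomogeneous f hf _ d h
    · intro h
      classical
      rw [← DirectSum.sum_support_decompose 𝒜 a]
      exact sum_mem fun d _ => h d
  have h2 : a ∈ (ProjectiveSpectrum.asHomogeneousIdeal (𝒜 := 𝒜) (i (genericPoint Z))).toIdeal ↔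
      ∀ d, (DirectSum.decompose 𝒜 a d : A) ∈
        (ProjectiveSpectrum.asHomogeneousIdeal (𝒜 := 𝒜) (i (genericPoint Z))).toIdeal := by
    constructor
    · intro h d
      exact (ProjectiveSpectrum.asHomogeneousIdeal (𝒜 := 𝒜) (i (genericPoint Z))).isHomogeneous d h
    · intro h
      classical
      rw [← DirectSum.sum_support_decompose 𝒜 a]
      exact sum_mem fun d _ => h d
  rw [h1, h2]
  exact forall_congr' fun d => mem_idl_iff_generic f hf hcov i (SetLike.coe_mem _)

end gen

variable {N : ℕ} {k : Type u} [Field k] {X : Scheme.{u}} (ι : X ⟶ CohB1.ProjSpace N k) [QuasiCompact ι]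

theorem hI_eq_generic [IsIntegral X] :
    hI ι = (ProjectiveSpectrum.asHomogeneousIdeal (𝒜 := CohB1.polyGrading N k)
      (ι (genericPoint X))).toIdeal :=
  haveI : @QuasiCompact X (Proj (CohB1.polyGrading N k)) ι := ‹QuasiCompact ι›
  idl_eq_generic (𝒜 := CohB1.polyGrading N k) (ι := Fin (N + 1)) (fun i => MvPolynomial.X i)
    (fun i => ProjChart.X_mem N k i) irrelevant_le_span (Z := X) ι

theorem hI_isPrime [IsIntegral X] : (hI ι).IsPrime := by
  rw [hI_eq_generic]
  exact ProjectiveSpectrum.isPrime (𝒜 := CohB1.polyGrading N k) (ι (genericPoint X))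

section coords

variable [IsClosedImmersion ι] [IsIntegral X]

theorem exists_coords [Algebra k (X.residueField (genericPoint X))]
    (h : Spec.map (CommRingCat.ofHom (algebraMap k (X.residueField (genericPoint X)))) =
      X.fromSpecResidueField (genericPoint X) ≫ ι ≫ CohB1.ProjSpace.toSpec N k) :
    ∃ (j : Fin (N + 1)) (v : Fin (N + 1) → X.residueField (genericPoint X)), v j = 1 ∧
      (∀ (d : ℕ) (F : MvPolynomial (Fin (N + 1)) k), F ∈ CohB1.polyGrading N k d →
        (F ∈ hI ι ↔ MvPolynomial.aeval v F = 0)) ∧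
      IntermediateField.adjoin k (Set.range v) = ⊤ := by
  let K := X.residueField (genericPoint X)
  let g : Spec (CommRingCat.of K) ⟶ X := X.fromSpecResidueField (genericPoint X)
  have hg' : (g ≫ ι) ≫ CohB1.ProjSpace.toSpec N k =
      Spec.map (CommRingCat.ofHom (algebraMap k K)) := by rw [Category.assoc]; exact h.symm
  obtain ⟨j, a, ha⟩ := Lefpen.H720.AffPt.exists_eq_apt (K := K) _ hg'
  let v : Fin (N + 1) → K := Fin.insertNth (α := fun _ => K) j 1 a
  have hvj : v j = 1 := by simp [v]
  have haff : aff j v = a := by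
    funext l
    simp [aff, v]
  have hvj' : v j ≠ 0 := by rw [hvj]; exact one_ne_zero
  have hpt' : g ≫ ι = hpt k j v := by rw [ha, hpt, haff]
  have hgen : ∀ x : Spec (CommRingCat.of K), (hpt k j v) x = ι (genericPoint X) := by
    intro x
    rw [← hpt', Scheme.Hom.comp_apply]
    congr 1
    exact Scheme.fromSpecResidueField_apply _ _
  have hF : ∀ (d : ℕ) (F : MvPolynomial (Fin (N + 1)) k), F ∈ CohB1.polyGrading N k d →
        (F ∈ hI ι ↔ MvPolynomial.aeval v F = 0) := by
    intro d F hF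
    rcases Nat.eq_zero_or_pos d with rfl | hd
    · have h1 : F = MvPolynomial.C (MvPolynomial.coeff 0 F) := by
        have h2 : F.IsHomogeneous 0 := hF
        rw [← MvPolynomial.totalDegree_zero_iff_isHomogeneous,
          MvPolynomial.totalDegree_eq_zero_iff_eq_C] at h2
        exact h2
      rw [h1, MvPolynomial.algHom_C]
      have h3 : algebraMap k K (MvPolynomial.coeff 0 F) = 0 ↔ MvPolynomial.coeff 0 F = 0 := by
        rw [map_eq_zero]
      refine Iff.trans ?_ h3.symm
      constructor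
      · intro h4
        by_contra hne
        apply one_notMem ι
        have h5 := (hI ι).mul_mem_left (MvPolynomial.C (MvPolynomial.coeff 0 F)⁻¹) h4
        rw [← MvPolynomial.C_mul, inv_mul_cancel₀ hne, MvPolynomial.C_1] at h5
        exact h5
      · intro h4
        rw [h4, MvPolynomial.C_0]
        exact zero_mem _
    · rw [hI_eq_generic, ← hgen default]
      exact mem_ideal_iff hvj' hd hF default
  refine ⟨j, v, hvj, hF, ?_⟩
  set E := IntermediateField.adjoin k (Set.range v) with hE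
  let vE : Fin (N + 1) → E := fun l => ⟨v l, IntermediateField.subset_adjoin k _ ⟨l, rfl⟩⟩
  have haE : ∀ l, ((aff (K := E) j vE l : E) : K) = aff j v l := by
    intro l
    simp [aff, vE]
  have h1 : Spec.map (CommRingCat.ofHom (E.val : E →ₐ[k] K).toRingHom) ≫ hpt (K := E) k j vE = g ≫ ι := by
    rw [hpt', hpt, Lefpen.H720.AffPt.map_apt]
    rw [hpt]
    exact congrArg _ (funext haE)
  have h2 : (hpt (K := E) k j vE) default = ι (genericPoint X) := by
    have h3 := congrArg (fun f : Spec (CommRingCat.of K) ⟶ CohB1.ProjSpace N k => f default) h1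
    simp only [Scheme.Hom.comp_apply] at h3
    rw [← Subsingleton.elim ((Spec.map (CommRingCat.ofHom (E.val : E →ₐ[k] K).toRingHom)) default)
      (default : Spec (CommRingCat.of E))]
    refine h3.trans ?_
    congr 1
    exact Scheme.fromSpecResidueField_apply _ _
  obtain ⟨q, hq, hq'⟩ := Etrest.EtExtStalk.exists_fac_of_mem_range ι (hpt (K := E) k j vE) (genericPoint X) h2
  obtain ⟨α, hα⟩ := Etrest.EtLocal.exists_fac_fromSpecResidueField q (genericPoint X) hq'
  have h4 : Spec.map (CommRingCat.ofHom (E.val : E →ₐ[k] K).toRingHom) ≫ α = 𝟙 _ := by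
    rw [← cancel_mono (X.fromSpecResidueField (genericPoint X)), ← cancel_mono ι, Category.id_comp]
    refine Eq.trans ?_ h1
    rw [← hq, ← hα]
    simp only [Category.assoc]
  obtain ⟨ψ, rfl⟩ := Spec.map_surjective α
  rw [← Spec.map_comp, ← Spec.map_id, Spec.map_inj] at h4
  rw [eq_top_iff]
  intro x _
  have h5 := congr($(h4).hom x)
  have h6 : ((ψ.hom x : E) : K) = x := h5
  rw [← h6]
  exact (ψ.hom x : E).2

end coords

end K467.Cone
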