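import Groth.Agent.Zeta.K467.FrobPts
import Groth.Agent.VarietyB.BaseExt3

/-!
# The geometric Frobenius endomorphism on the points of `X ×_k k̄`

For a finite field `k`, `X` of finite type over `k`, `F = Frob_{X,q} × id` on `X_{k̄}`:
* `exists_pow_eq`: two embeddings of a finite extension differ by a power of Frobenius;
* `galAct_F`: `F ∘ (id × Spec φ) = (id × Spec φ) ∘ F` is the identity on points (`φ` the arithmetic Frobenius);
* `exists_iterate_eq`: two closed points of `X_{k̄}` with the same image in `X` differ by an iterate of `F`.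
-/

set_option autoImplicit false
universe u

open CategoryTheory CategoryTheory.Limits AlgebraicGeometry FrobSch
open Groth.Agent.MiscA Groth.Agent.MiscA.PointCount

namespace K467.FrobOrbit

open K467.FrobPts

theorem exists_pow_eq {k L K : Type*} [Field k] [Finite k] [Field L] [Algebra k L]
    [FiniteDimensional k L] [Field K] [Algebra k K] (a b : L →ₐ[k] K) :
    ∃ m : ℕ, ∀ x, b x = a x ^ (Nat.card k ^ m) := by
  cases nonempty_fintype k
  have hL : Finite L := Module.finite_of_finite k
  letI : Algebra L K := a.toRingHom.toAlgebra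
  have : IsScalarTower k L K := IsScalarTower.of_algebraMap_eq (fun x => (a.commutes x).symm)
  have hn : Normal k L := inferInstance
  obtain ⟨n, hτ⟩ := (FiniteField.bijective_frobeniusAlgEquivOfAlgebraic_pow k L).2
    (Normal.algHomEquivAut k K L b)
  refine ⟨n, fun x => ?_⟩
  have h1 : b = (Normal.algHomEquivAut k K L).symm (Normal.algHomEquivAut k K L b) :=
    (Equiv.symm_apply_apply _ _).symm
  have h3 : ∀ (n : ℕ) (x : L), (FiniteField.frobeniusAlgEquivOfAlgebraic k L ^ n) x =
      x ^ (Nat.card k ^ n) := by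
    intro n
    induction n with
    | zero => intro x; simp
    | succ n ih =>
      intro x
      rw [pow_succ, AlgEquiv.mul_apply, ih, FiniteField.coe_frobeniusAlgEquivOfAlgebraic,
        Nat.card_eq_fintype_card]
      rw [← pow_mul, pow_succ, mul_comm]
  have h2 : b x = algebraMap L K ((Normal.algHomEquivAut k K L b) x) := by
    conv_lhs => rw [h1]
    rfl
  rw [h2, ← hτ, h3, map_pow]
  rfl

section

variable {k : Type u} [Field k] [Finite k] {X : Scheme.{u}} (f : X ⟶ Spec (CommRingCat.of k))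
  {K : Type u} [Field K] [Algebra k K]
  (FX : X ⟶ X) (hFb : FX.base = 𝟙 _) (hle : ∀ U : X.Opens, U ≤ FX ⁻¹ᵁ U)
  (hFapp : ∀ (U : X.Opens) (s : Γ(X, U)), (FX.appLE U U (hle U)).hom s = s ^ Nat.card k)

include hFb hFapp in
/-- The Frobenius endomorphism commutes with field valued points: `h ≫ FX = Spec(φ) ≫ h`. -/
theorem comp_FX {Y : Type u} [Field Y] [Algebra k Y] (h : Spec (CommRingCat.of Y) ⟶ X)
    (hf : h ≫ f = Spec.map (CommRingCat.ofHom (algebraMap k Y))) (φ : Y →+* Y)
    (hφ : ∀ x, φ x = x ^ Nat.card k) :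
    h ≫ FX = Spec.map (CommRingCat.ofHom φ) ≫ h := by
  obtain ⟨p, hp⟩ := CharP.exists k
  have hpp : Fact p.Prime := ⟨CharP.char_is_prime k p⟩
  cases nonempty_fintype k
  obtain ⟨a, -, ha⟩ := FiniteField.card k p
  rw [← Nat.card_eq_fintype_card] at ha
  have hX : IsCharP X p := IsCharP.of_hom f p
  have hY : CharP Y p := charP_of_injective_algebraMap (algebraMap k Y).injective p
  have h1 : FX = qFrob X p a := eq_qFrob p a FX hFb hle (by rw [← ha]; exact hFapp)
  have h2 := qFrob_Spec Y p a φ (by rw [← ha]; exact hφ)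
  rw [h1, ← h2, qFrob_comp]

end

section Ext

variable {k : Type u} [Field k] [Finite k] {X : Scheme.{u}} (f : X ⟶ Spec (CommRingCat.of k))
  {K : Type u} [Field K] [Algebra k K]
  (FX : X ⟶ X) (hFb : FX.base = 𝟙 _) (hle : ∀ U : X.Opens, U ≤ FX ⁻¹ᵁ U)
  (hFapp : ∀ (U : X.Opens) (s : Γ(X, U)), (FX.appLE U U (hle U)).hom s = s ^ Nat.card k)
  (F : FinFr.ext K f ⟶ FinFr.ext K f)
  (hF1 : F ≫ FinFr.extπ K f = FinFr.extπ K f ≫ FX) (hF2 : F ≫ FinFr.extStr K f = FinFr.extStr K f)

include hFb hFapp hF1 hF2 in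
/-- The composite of `F` with the arithmetic Frobenius is the identity on points. -/
theorem galAct_F (φ : K ≃ₐ[k] K) (hφ : ∀ x, φ x = x ^ Nat.card k) (y : FinFr.ext K f) :
    FinFr.galAct f φ (F y) = y := by
  obtain ⟨p, hp⟩ := CharP.exists k
  have hpp : Fact p.Prime := ⟨CharP.char_is_prime k p⟩
  cases nonempty_fintype k
  obtain ⟨a, -, ha⟩ := FiniteField.card k p
  rw [← Nat.card_eq_fintype_card] at ha
  have hX : IsCharP X p := IsCharP.of_hom f p
  have hY : CharP K p := charP_of_injective_algebraMap (algebraMap k K).injective p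
  have hP : IsCharP (FinFr.ext K f) p := IsCharP.of_hom (FinFr.extπ K f) p
  have h1 : FX = qFrob X p a := eq_qFrob p a FX hFb hle (by rw [← ha]; exact hFapp)
  have h2 := qFrob_Spec K p a (φ : K →+* K) (by rw [← ha]; exact hφ)
  have h3 : F ≫ FinFr.galAct f φ = qFrob (FinFr.ext K f) p a := by
    apply pullback.hom_ext
    · rw [Category.assoc, FinFr.galAct_fst, hF1, h1]
      exact (qFrob_comp p _ a).symm
    · rw [Category.assoc, FinFr.galAct_snd]
      change F ≫ FinFr.extStr K f ≫ _ = qFrob _ p a ≫ FinFr.extStr K f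
      rw [← Category.assoc, hF2, ← h2]
      exact (qFrob_comp p _ a).symm
  rw [← Scheme.Hom.comp_apply, h3, qFrob_apply]

/-- The iterates of `F`. -/
noncomputable def iter (F : FinFr.ext K f ⟶ FinFr.ext K f) : ℕ → (FinFr.ext K f ⟶ FinFr.ext K f)
  | 0 => 𝟙 _
  | m + 1 => iter F m ≫ F

include hFb hFapp hF1 hF2 in
theorem comp_iter (g : Spec (CommRingCat.of K) ⟶ FinFr.ext K f) (hg : g ≫ FinFr.extStr K f = 𝟙 _)
    (m : ℕ) (ψ : K →+* K) (hψ : ∀ x, ψ x = x ^ (Nat.card k ^ m)) :
    (g ≫ iter f F m) ≫ FinFr.extStr K f = 𝟙 _ ∧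
      (g ≫ iter f F m) ≫ FinFr.extπ K f = Spec.map (CommRingCat.ofHom ψ) ≫ g ≫ FinFr.extπ K f := by
  cases nonempty_fintype k
  induction m generalizing ψ with
  | zero =>
    have : ψ = RingHom.id K := by ext x; simp [hψ]
    subst this
    simp only [iter, Category.comp_id, hg, true_and]
    change _ = Spec.map (𝟙 _) ≫ _
    rw [Spec.map_id, Category.id_comp]
  | succ m ih =>
    let φ : K →+* K := (FiniteField.frobeniusAlgHom k K : K →ₐ[k] K)
    have hφ : ∀ x, φ x = x ^ Nat.card k := fun x => by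
      rw [Nat.card_eq_fintype_card]; rfl
    let χ : K →+* K := ((FiniteField.frobeniusAlgHom k K : K →ₐ[k] K) ^ m : K →ₐ[k] K)
    have hχ : ∀ x, χ x = x ^ (Nat.card k ^ m) := by
      intro x
      change ((FiniteField.frobeniusAlgHom k K) ^ m : K →ₐ[k] K) x = _
      rw [AlgHom.coe_pow, FiniteField.coe_frobeniusAlgHom, pow_iterate, Nat.card_eq_fintype_card]
    obtain ⟨h1, h2⟩ := ih χ hχ
    constructor
    · rw [iter, Category.assoc, Category.assoc, hF2, ← Category.assoc, h1]
    · rw [iter, Category.assoc, Category.assoc, hF1, ← Category.assoc (iter f F m), ← Category.assoc g,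
        ← Category.assoc g, h2]
      have h3 : ((g ≫ iter f F m) ≫ FinFr.extπ K f) ≫ f = Spec.map (CommRingCat.ofHom (algebraMap k K)) := by
        rw [Category.assoc]
        change (g ≫ iter f F m) ≫ pullback.fst _ _ ≫ f = _
        rw [pullback.condition, ← Category.assoc]
        change ((g ≫ iter f F m) ≫ FinFr.extStr K f) ≫ _ = _
        rw [h1, Category.id_comp]
      have h4 := comp_FX f FX hFb hle hFapp ((g ≫ iter f F m) ≫ FinFr.extπ K f) h3 φ hφ
      rw [h2] at h4
      rw [h4]
      have h5 : ψ = φ.comp χ := by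
        ext x
        rw [RingHom.comp_apply, hφ, hχ, hψ, ← pow_mul, pow_succ]
      rw [h5, CommRingCat.ofHom_comp, Spec.map_comp, Category.assoc]

include hFb hFapp hF1 hF2 in
/-- Two closed points of `X_{k̄}` over the same point of `X` differ by an iterate of `F`. -/
theorem exists_iterate_eq [IsAlgClosed K] [Algebra.IsAlgebraic k K] [LocallyOfFiniteType f]
    (w z : FinFr.ext K f) (hw : IsClosed ({w} : Set (FinFr.ext K f)))
    (hz : IsClosed ({z} : Set (FinFr.ext K f)))
    (h : FinFr.extπ K f w = FinFr.extπ K f z) : ∃ m : ℕ, iter f F m w = z := by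
  let gw := pointOfClosedPoint (FinFr.extStr K f) w hw
  let gz := pointOfClosedPoint (FinFr.extStr K f) z hz
  have hgw : gw ≫ FinFr.extStr K f = 𝟙 _ := pointOfClosedPoint_comp _ _ _
  have hgz : gz ≫ FinFr.extStr K f = 𝟙 _ := pointOfClosedPoint_comp _ _ _
  have hpt : ∀ (g : Spec (CommRingCat.of K) ⟶ FinFr.ext K f) (hg : g ≫ FinFr.extStr K f = 𝟙 _),
      (g ≫ FinFr.extπ K f) ≫ f = Spec.map (CommRingCat.ofHom (algebraMap k K)) := by
    intro g hg
    rw [Category.assoc]
    change g ≫ pullback.fst _ _ ≫ f = _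
    rw [pullback.condition, ← Category.assoc]
    change (g ≫ FinFr.extStr K f) ≫ _ = _
    rw [hg, Category.id_comp]
  let x : X := FinFr.extπ K f w
  -- the two embeddings
  let ew := pointEquiv f K ⟨gw ≫ FinFr.extπ K f, hpt gw hgw⟩
  let ez := pointEquiv f K ⟨gz ≫ FinFr.extπ K f, hpt gz hgz⟩
  have hew : (pointEquiv f K).symm ew = ⟨gw ≫ FinFr.extπ K f, hpt gw hgw⟩ := Equiv.symm_apply_apply _ _
  have hez : (pointEquiv f K).symm ez = ⟨gz ≫ FinFr.extπ K f, hpt gz hgz⟩ := Equiv.symm_apply_apply _ _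
  have hsymm : ∀ e : Σ x : X, { φ : X.residueField x →+* K // φ.comp (resHom f x) = algebraMap k K },
      ((pointEquiv f K).symm e).1 = Spec.map (CommRingCat.ofHom e.2.1) ≫ X.fromSpecResidueField e.1 :=
    fun e => rfl
  have hpts : ∀ e : Σ x : X, { φ : X.residueField x →+* K // φ.comp (resHom f x) = algebraMap k K },
      ((pointEquiv f K).symm e).1 (IsLocalRing.closedPoint K) = e.1 := by
    intro e
    rw [hsymm, Scheme.Hom.comp_apply]
    exact Scheme.fromSpecResidueField_apply _ _
  have hw1 : ew.1 = x := by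
    rw [← hpts, hew]
    change (gw ≫ FinFr.extπ K f) _ = _
    rw [Scheme.Hom.comp_apply]
    congr 1
    exact pointOfClosedPoint_apply _ _ _ _
  have hz1 : ez.1 = x := by
    rw [← hpts, hez]
    change (gz ≫ FinFr.extπ K f) _ = _
    rw [Scheme.Hom.comp_apply]
    refine Eq.trans ?_ h.symm
    congr 1
    exact pointOfClosedPoint_apply _ _ _ _
  have hxcl : IsClosed ({ew.1} : Set X) := by
    rw [hw1]
    have hint : IsIntegralHom (FinFr.extπ K f) := by
      have : IsIntegralHom (Spec.map (CommRingCat.ofHom (algebraMap k K))) := by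
        rw [IsIntegralHom.SpecMap_iff]
        exact algebraMap_isIntegral_iff.mpr inferInstance
      change IsIntegralHom (pullback.fst _ _)
      infer_instance
    have := (FinFr.extπ K f).isClosedMap _ hw
    rwa [Set.image_singleton] at this
  have hwz : ew.1 = ez.1 := hw1.trans hz1.symm
  obtain ⟨xw, aw⟩ := ew
  obtain ⟨xz, az⟩ := ez
  obtain rfl : xw = xz := hwz
  change IsClosed ({xw} : Set X) at hxcl
  have hdeg := WCCount.degree_pos f xw hxcl
  letI : Algebra k (X.residueField xw) := (resHom f xw).toAlgebra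
  have : Module.Finite k (X.residueField xw) := Module.finite_of_finrank_pos hdeg
  let a : X.residueField xw →ₐ[k] K := { aw.1 with commutes' := fun r => RingHom.congr_fun aw.2 r }
  let b : X.residueField xw →ₐ[k] K := { az.1 with commutes' := fun r => RingHom.congr_fun az.2 r }
  obtain ⟨m, hm⟩ := exists_pow_eq a b
  cases nonempty_fintype k
  let χ : K →+* K := ((FiniteField.frobeniusAlgHom k K : K →ₐ[k] K) ^ m : K →ₐ[k] K)
  have hχ : ∀ x, χ x = x ^ (Nat.card k ^ m) := by
    intro x
    change ((FiniteField.frobeniusAlgHom k K) ^ m : K →ₐ[k] K) x = _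
    rw [AlgHom.coe_pow, FiniteField.coe_frobeniusAlgHom, pow_iterate, Nat.card_eq_fintype_card]
  obtain ⟨i1, i2⟩ := comp_iter f FX hFb hle hFapp F hF1 hF2 gw hgw m χ hχ
  refine ⟨m, ?_⟩
  have e1 : gw ≫ FinFr.extπ K f = Spec.map (CommRingCat.ofHom aw.1) ≫ X.fromSpecResidueField xw :=
    (congrArg Subtype.val hew).symm
  have e2 : gz ≫ FinFr.extπ K f = Spec.map (CommRingCat.ofHom az.1) ≫ X.fromSpecResidueField xw :=
    (congrArg Subtype.val hez).symm
  have key : gw ≫ iter f F m = gz := by
    apply pullback.hom_ext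
    · refine i2.trans (Eq.trans ?_ e2.symm)
      rw [e1, ← Category.assoc, ← Spec.map_comp, ← CommRingCat.ofHom_comp]
      congr 3
      ext t
      rw [RingHom.comp_apply, hχ]
      exact (hm t).symm
    · exact i1.trans hgz.symm
  have h7 := congrArg (fun g => g (IsLocalRing.closedPoint K)) key
  change (gw ≫ iter f F m) _ = gz _ at h7
  rw [Scheme.Hom.comp_apply] at h7
  have h8 : gw (IsLocalRing.closedPoint K) = w := pointOfClosedPoint_apply _ _ _ _
  have h9 : gz (IsLocalRing.closedPoint K) = z := pointOfClosedPoint_apply _ _ _ _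
  rw [h8, h9] at h7
  exact h7

end Ext

end K467.FrobOrbit
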