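import Groth.Agent.Zeta.K467.AffPts

/-!
# Upper bound for the number of points of an affine variety, uniform in terms of the degree
-/

set_option autoImplicit false
open MvPolynomial

namespace K467.AffUB

open LinNoether HilbDeg LinNorm AffPts

universe u v

variable {k : Type u} [Field k] {L : Type v} [Field L] [Algebra k L] {N R : ℕ} {y : Fin R → L}
  {b : Fin N → L}

theorem isIntegral_of_span (hN : Norm k b y) {z : L} (hz : z ∈ Submodule.span k (Set.range b)) :
    IsIntegral (Algebra.adjoin k (Set.range y)) z := by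
  have h : Submodule.span k (Set.range b) ≤
      Subalgebra.toSubmodule ((integralClosure (Algebra.adjoin k (Set.range y)) L).restrictScalars k) := by
    rw [Submodule.span_le]
    rintro _ ⟨j, rfl⟩
    exact hN.int j
  exact h hz

theorem isIntegral_of_mem (hN : Norm k b y) {z : L} (hz : z ∈ Algebra.adjoin k (Set.range b)) :
    IsIntegral (Algebra.adjoin k (Set.range y)) z := by
  have h : Algebra.adjoin k (Set.range b) ≤
      ((integralClosure (Algebra.adjoin k (Set.range y)) L).restrictScalars k) := by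
    refine Algebra.adjoin_le ?_
    rintro _ ⟨j, rfl⟩
    exact hN.int j
  exact h hz

/-- The values of the coordinates `y` at a point. -/
noncomputable def yv (hN : Norm k b y) (χ : Algebra.adjoin k (Set.range b) →ₐ[k] k) : Fin R → k :=
  fun i => χ ⟨y i, mem_adjoin_of_span b (hN.mem i)⟩

theorem eval_FZ_point (hN : Norm k b y) (hy : AlgebraicIndependent k y)
    (χ : Algebra.adjoin k (Set.range b) →ₐ[k] k) (z : Algebra.adjoin k (Set.range b)) :
    eval (Fin.cons (χ z) (yv hN χ) : Fin (R + 1) → k) (FZ hy (z : L)) = 0 := by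
  have h1 := eval_point χ (Fin.cons z (fun i => ⟨y i, mem_adjoin_of_span b (hN.mem i)⟩) :
    Fin (R + 1) → Algebra.adjoin k (Set.range b)) (FZ hy (z : L)) (by
      rw [← aeval_FZ hy (z := (z : L))]
      congr 2
      funext i
      refine Fin.cases ?_ (fun i => ?_) i
      · simp
      · simp)
  rw [← h1]
  congr 2
  funext i
  refine Fin.cases ?_ (fun i => ?_) i
  · simp
  · simp [yv]

/-- The fibres of the projection to affine space have at most `d` points. -/
theorem fibre_card_le [Finite k] (hN : Norm k b y) (hy : AlgebraicIndependent k y) {d : ℕ} (hDB : DB k b R d)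
    (hq : (d + 1) * (d + 1) < Nat.card k) (T : Finset (Algebra.adjoin k (Set.range b) →ₐ[k] k))
    (η : Fin R → k) (hT : ∀ χ ∈ T, yv hN χ = η) : T.card ≤ d := by
  classical
  by_contra hcon
  push Not at hcon
  obtain ⟨T', hT', hcard⟩ := Finset.exists_subset_card_eq (show d + 1 ≤ T.card by omega)
  let bb : Fin N → Algebra.adjoin k (Set.range b) := fun j => ⟨b j, Algebra.subset_adjoin ⟨j, rfl⟩⟩
  let P : (Algebra.adjoin k (Set.range b) →ₐ[k] k) → (Fin N → k) := fun χ j => χ (bb j)
  have hP : Function.Injective P := fun χ χ' h => hom_ext b χ χ' fun j => congrFun h j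
  obtain ⟨c, hc⟩ := exists_sep (Ω := k) (k := k) (T'.image P) (by
    rw [Finset.card_image_of_injective _ hP, hcard]
    exact hq)
  let z : Algebra.adjoin k (Set.range b) := ∑ j, c j • bb j
  have hχz : ∀ χ : Algebra.adjoin k (Set.range b) →ₐ[k] k, χ z = ∑ j, c j • P χ j := by
    intro χ
    simp [z, P, map_sum]
  have hzs : (z : L) ∈ Submodule.span k (Set.range b) := by
    have : (z : L) = ∑ j, c j • b j := by
      simp [z, bb]
    rw [this]
    exact sum_mem fun j _ => Submodule.smul_mem _ _ (Submodule.subset_span ⟨j, rfl⟩)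
  have hz := isIntegral_of_span hN hzs
  have hinj : Set.InjOn (fun χ => χ z) (T' : Set (Algebra.adjoin k (Set.range b) →ₐ[k] k)) := by
    intro χ hχ χ' hχ' h
    apply hP
    refine hc (P χ) (Finset.mem_image_of_mem _ hχ) (P χ') (Finset.mem_image_of_mem _ hχ') ?_
    rw [← hχz, ← hχz]
    exact h
  let g : Polynomial k := (mp hy (z : L)).map (eval η)
  have hgm : g.Monic := (monic_mp hy hz).map _
  have hgd : g.natDegree ≤ d := (Polynomial.natDegree_map_le).trans (natDegree_mp_le hy hz hDB hN.mem hzs)
  have hsub : T'.image (fun χ => χ z) ⊆ g.roots.toFinset := by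
    intro x hx
    obtain ⟨χ, hχ, rfl⟩ := Finset.mem_image.1 hx
    rw [Multiset.mem_toFinset, Polynomial.mem_roots hgm.ne_zero, Polynomial.IsRoot]
    have h1 := eval_FZ_point hN hy χ z
    rw [hT χ (hT' hχ), eval_FZ] at h1
    exact h1
  have h1 := Finset.card_le_card hsub
  rw [Finset.card_image_of_injOn hinj, hcard] at h1
  have h2 := (g.roots.toFinset_card_le.trans g.card_roots').trans hgd
  omega

/-- Points over a set of values of `y`. -/
theorem card_le_of_image [Finite k] (hN : Norm k b y) (hy : AlgebraicIndependent k y) {d : ℕ} (hDB : DB k b R d)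
    (hq : (d + 1) * (d + 1) < Nat.card k) (Z : Set (Fin R → k)) :
    Nat.card {χ : Algebra.adjoin k (Set.range b) →ₐ[k] k // yv hN χ ∈ Z} ≤ d * Nat.card Z := by
  classical
  cases nonempty_fintype k
  have := finite_hom (k := k) b
  cases nonempty_fintype (Algebra.adjoin k (Set.range b) →ₐ[k] k)
  let T : Finset (Algebra.adjoin k (Set.range b) →ₐ[k] k) := Finset.univ.filter (fun χ => yv hN χ ∈ Z)
  have h1 : Nat.card {χ : Algebra.adjoin k (Set.range b) →ₐ[k] k // yv hN χ ∈ Z} = T.card := by
    rw [Nat.card_eq_fintype_card, Fintype.card_subtype]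
  have h2 : T.card ≤ d * (Z.toFinset).card := by
    refine Finset.card_le_mul_card_image_of_maps_to (f := yv hN) (fun χ hχ => ?_) d (fun η _ => ?_)
    · simp only [T, Finset.mem_filter, Finset.mem_univ, true_and] at hχ
      exact Set.mem_toFinset.2 hχ
    · exact fibre_card_le hN hy hDB hq _ η (fun χ hχ => (Finset.mem_filter.1 hχ).2)
  rw [h1, Nat.card_eq_card_toFinset]
  exact h2

/-- **Uniform upper bound.** -/
theorem card_le_of_norm [Finite k] (hN : Norm k b y) (hy : AlgebraicIndependent k y) {d : ℕ} (hDB : DB k b R d)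
    (hq : (d + 1) * (d + 1) < Nat.card k) :
    Nat.card (Algebra.adjoin k (Set.range b) →ₐ[k] k) ≤ d * Nat.card k ^ R := by
  have h1 := card_le_of_image hN hy hDB hq Set.univ
  have h2 : Nat.card {χ : Algebra.adjoin k (Set.range b) →ₐ[k] k // yv hN χ ∈ (Set.univ : Set (Fin R → k))} =
      Nat.card (Algebra.adjoin k (Set.range b) →ₐ[k] k) :=
    Nat.card_congr (Equiv.subtypeUnivEquiv fun _ => Set.mem_univ _)
  have h3 : Nat.card (Set.univ : Set (Fin R → k)) = Nat.card k ^ R := by
    rw [Nat.card_congr (Equiv.Set.univ _), Nat.card_fun]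
    simp
  rw [h2, h3] at h1
  exact h1

/-- **Uniform upper bound** for affine varieties. -/
theorem card_le (N d R : ℕ) : ∃ A : ℕ, 0 < A ∧ ∀ (k : Type u) [Field k] [Finite k] (L : Type v) [Field L]
    [Algebra k L] (b : Fin N → L), IntermediateField.adjoin k (Set.range b) = ⊤ →
    Algebra.trdeg k L = R → DB k b R d →
      Nat.card (Algebra.adjoin k (Set.range b) →ₐ[k] k) ≤ A * Nat.card k ^ R := by
  refine ⟨d + ((d + 1) * (d + 1)) ^ N + 1, by omega, fun k _ _ L _ _ b hb hR hDB => ?_⟩
  have hqpos : 0 < Nat.card k ^ R := pow_pos Nat.card_pos _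
  by_cases hq : (d + 1) * (d + 1) < Nat.card k
  · obtain ⟨y, hN, hy⟩ := exists_norm b hb hR hDB (by nlinarith)
    refine (card_le_of_norm hN hy hDB hq).trans ?_
    exact Nat.mul_le_mul_right _ (by omega)
  · push Not at hq
    calc Nat.card (Algebra.adjoin k (Set.range b) →ₐ[k] k) ≤ Nat.card k ^ N := card_hom_le b
      _ ≤ ((d + 1) * (d + 1)) ^ N := Nat.pow_le_pow_left hq N
      _ ≤ (d + ((d + 1) * (d + 1)) ^ N + 1) * 1 := by omega
      _ ≤ _ := Nat.mul_le_mul_left _ hqpos

end K467.AffUB
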