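import Groth.Agent.Zeta.K467.Assem
import Groth.Agent.Zeta.K467.AffUB
import Groth.Statements.S13073

/-!
# The uniform bounds for projective varieties, given the Hilbert function
-/

set_option autoImplicit false
universe u

open CategoryTheory AlgebraicGeometry Filter Topology

namespace K467.Final

open Groth.Agent K467.ProjPt K467.HilbDeg K467.Assem

/-- The Hilbert function of closed subvarieties of projective space. -/
def HilbThm : Prop := ∀ (k : Type u) [Field k] {N : ℕ} {X : Scheme.{u}} (ι : X ⟶ CohB1.ProjSpace N k)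
    [IsClosedImmersion ι] [IsIntegral X] (r : ℕ) (_ : topologicalKrullDim X = r),
    letI : X.Over (Spec (CommRingCat.of k)) := ⟨ι ≫ CohB1.ProjSpace.toSpec N k⟩
    Tendsto (fun t : ℕ => (Module.finrank k ((MvPolynomial.homogeneousSubmodule (Fin (N + 1)) k t).map
        (Ideal.Quotient.mkₐ k (K467.ProjPt.hI ι)).toLinearMap) : ℝ) / (t : ℝ) ^ r) atTop
      (𝓝 ((FGA.intNum k X r (fun _ : Fin r => (Scheme.Modules.pullback ι).obj (Twist.twistProjSpace N k (-1)))
        (Coh.structureModule X) : ℝ) / (r.factorial : ℝ)))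

attribute [local instance] Curv2.resAlgebra

theorem s13074 (hT : HilbThm.{u}) (n d r : ℕ) (_hd : 0 < d) :
    ∃ A₁ : ℕ, 0 < A₁ ∧ ∀ (k : Type u) [Field k] [Finite k] (X : Scheme.{u})
      (ι : X ⟶ CohB1.ProjSpace n k) [IsClosedImmersion ι] [IsIntegral X],
      topologicalKrullDim X = r →
      letI : X.Over (Spec (CommRingCat.of k)) := ⟨ι ≫ CohB1.ProjSpace.toSpec n k⟩
      FGA.intNum k X r (fun _ : Fin r => (Scheme.Modules.pullback ι).obj (Twist.twistProjSpace n k (-1)))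
          (Coh.structureModule X) ≤ d →
        SgaExt.pointCount (ι ≫ CohB1.ProjSpace.toSpec n k) k ≤ A₁ * Nat.card k ^ r := by
  obtain ⟨A, hA, hmain⟩ := AffUB.card_le.{u, u} (n + 1) d (r + 1)
  refine ⟨2 * A, by omega, fun k _ _ X ι _ _ hdim => ?_⟩
  letI : X.Over (Spec (CommRingCat.of k)) := ⟨ι ≫ CohB1.ProjSpace.toSpec n k⟩
  intro hdeg
  obtain ⟨b, hb⟩ := exists_coneData (X := X) ι rfl hdim (hT k ι r hdim)
  have h1 := hmain k _ b hb.adjoin hb.trdeg (hb.DB d (by
    have : ((FGA.intNum k X r (fun _ : Fin r => (Scheme.Modules.pullback ι).obj (Twist.twistProjSpace n k (-1)))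
      (Coh.structureModule X) : ℤ) : ℝ) ≤ (d : ℤ) := by exact_mod_cast hdeg
    push_cast at this
    linarith))
  rw [hb.card_hom] at h1
  exact pc_le (Finite.one_lt_card (α := k)) h1

theorem s13073 (hT : HilbThm.{u}) (n d r : ℕ) (hd : 0 < d) :
    ∃ A : ℝ, 0 < A ∧ ∀ (k : Type u) [Field k] [Finite k] (X : Scheme.{u})
      (ι : X ⟶ CohB1.ProjSpace n k) [IsClosedImmersion ι] [IsReduced X]
      [GeometricallyIrreducible (ι ≫ CohB1.ProjSpace.toSpec n k)],
      topologicalKrullDim X = r →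
      letI : X.Over (Spec (CommRingCat.of k)) := ⟨ι ≫ CohB1.ProjSpace.toSpec n k⟩
      FGA.intNum k X r (fun _ : Fin r => (Scheme.Modules.pullback ι).obj (Twist.twistProjSpace n k (-1)))
          (Coh.structureModule X) = d →
        |(SgaExt.pointCount (ι ≫ CohB1.ProjSpace.toSpec n k) k : ℝ) - (Nat.card k : ℝ) ^ r| ≤
          ((d : ℝ) - 1) * ((d : ℝ) - 2) * (Nat.card k : ℝ) ^ ((r : ℝ) - 1 / 2) +
            A * (Nat.card k : ℝ) ^ ((r : ℝ) - 1) := by
  obtain ⟨A, hA, hmain⟩ := AffSharp.sharp_aff.{u, u} (n + 1) (r + 1) d (by omega) hd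
  refine ⟨2 * |((d : ℝ) - 1) * ((d : ℝ) - 2)| + 2 * A + 2 * 1 + 2, by positivity,
    fun k _ _ X ι _ _ _ hdim => ?_⟩
  letI : X.Over (Spec (CommRingCat.of k)) := ⟨ι ≫ CohB1.ProjSpace.toSpec n k⟩
  intro hdeg
  have hirr : IrreducibleSpace X :=
    (inferInstance : GeometricallyIrreducible (ι ≫ CohB1.ProjSpace.toSpec n k)).geometrically_irreducibleSpace
      (𝟙 _) (𝟙 _) (ι ≫ CohB1.ProjSpace.toSpec n k) IsPullback.of_id_fst
  have hint : IsIntegral X := isIntegral_of_irreducibleSpace_of_isReduced X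
  obtain ⟨b, hb⟩ := exists_coneData (X := X) ι rfl hdim (hT k ι r hdim)
  have hdeg' : ((FGA.intNum k X r (fun _ : Fin r => (Scheme.Modules.pullback ι).obj (Twist.twistProjSpace n k (-1)))
      (Coh.structureModule X) : ℤ) : ℝ) = d := by rw [hdeg]; rfl
  have h1 := hmain k _ b hb.adjoin hb.trdeg (hb.DB d (by rw [hdeg']; linarith))
    (isDomain_of_geomIrr (X := X) ι rfl)
  rw [hb.card_hom] at h1
  have hq : 1 < Nat.card k := Finite.one_lt_card (α := k)
  have hq2 : (2 : ℝ) ≤ Nat.card k := by exact_mod_cast hq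
  have h2 : (((SgaExt.pointCount (ι ≫ CohB1.ProjSpace.toSpec n k) k * (Nat.card k - 1) + 1 : ℕ)) : ℝ) =
      (SgaExt.pointCount (ι ≫ CohB1.ProjSpace.toSpec n k) k : ℝ) * ((Nat.card k : ℝ) - 1) + 1 := by
    rw [Nat.cast_add, Nat.cast_mul, Nat.cast_sub hq.le]
    push_cast; ring
  rw [h2, Nat.add_sub_cancel] at h1
  have h3 := conv hq2 r (n := (SgaExt.pointCount (ι ≫ CohB1.ProjSpace.toSpec n k) k : ℝ))
    (B := ((d : ℝ) - 1) * ((d : ℝ) - 2)) (A := A) (m := 1) hA zero_le_one (by rw [one_mul]; exact h1)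
  rw [one_mul] at h3
  exact h3

end K467.Final
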