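import Groth.Agent.Zeta.K467.Final
import Groth.Agent.S2525
import Groth.Agent.Flat2E.FinSepClosure
import Groth.Statements.S13077

/-!
# The bound for irreducible but geometrically reducible varieties, given the algebraic statement
-/

set_option autoImplicit false
universe u

open CategoryTheory AlgebraicGeometry Filter Topology Limits

namespace K467.Comp77

open Groth.Agent K467.ProjPt K467.HilbDeg K467.Assem K467.ConeAlg

section alg

variable {k K : Type u} [Field k] [Field K] [Algebra k K]

/-- The embedding of the constants. -/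
noncomputable def φ (k K : Type u) [Field k] [Field K] [Algebra k K] : K →ₐ[k] FractionRing (Polynomial K) :=
  (IsScalarTower.toAlgHom k (Polynomial K) (FractionRing (Polynomial K))).comp
    (Polynomial.CAlgHom (R := k) (A := K))

theorem map_separableClosure :
    (separableClosure k K).map (φ k K) = separableClosure k (FractionRing (Polynomial K)) := by
  apply le_antisymm
  · rintro _ ⟨x, hx, rfl⟩
    have h2 : minpoly k (φ k K x) = minpoly k x := minpoly.algHom_eq (φ k K) (φ k K).injective x
    have h1 : IsSeparable k x := mem_separableClosure_iff.mp hx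
    refine mem_separableClosure_iff.mpr ?_
    change IsSeparable k (φ k K x)
    rw [IsSeparable, h2]
    exact h1
  · intro x hx
    have hx' : IsSeparable k x := mem_separableClosure_iff.mp hx
    obtain ⟨a, rfl⟩ := mem_range_of_isAlgebraic x hx'.isIntegral.isAlgebraic
    refine ⟨a, ?_, rfl⟩
    refine mem_separableClosure_iff.mpr ?_
    have h2 : minpoly k (φ k K a) = minpoly k a := minpoly.algHom_eq (φ k K) (φ k K).injective a
    have h3 : IsSeparable k (φ k K a) := hx'
    rw [IsSeparable, h2] at h3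
    exact h3

theorem finrank_separableClosure :
    Module.finrank k (separableClosure k (FractionRing (Polynomial K))) =
      Module.finrank k (separableClosure k K) := by
  rw [← map_separableClosure]
  exact ((separableClosure k K).equivMap (φ k K)).toLinearEquiv.finrank_eq.symm

theorem finiteDimensional_sep {N : ℕ} (v : Fin N → K) (h : IntermediateField.adjoin k (Set.range v) = ⊤) :
    FiniteDimensional k (separableClosure k K) := by
  have h1 : (⊤ : IntermediateField k K).FG := by
    rw [← h]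
    exact IntermediateField.fg_adjoin_of_finite (Set.finite_range v)
  have h2 : Algebra.EssFiniteType k K := by
    rw [← IntermediateField.fg_top_iff]
    exact h1
  have h3 : Algebra.IsAlgebraic k (separableClosure k K) := inferInstance
  exact Flat2E.FinSepClosure.finiteDimensional_of_isAlgebraic _

end alg

/-- The algebraic statement of Lang–Weil with components. -/
def CompThm : Prop := ∀ (k : Type u) [Field k] [Finite k] (L : Type u) [Field L] [Algebra k L] {N : ℕ}
    (b : Fin N → L) (R d m : ℕ), 1 ≤ R → IntermediateField.adjoin k (Set.range b) = ⊤ →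
    Algebra.trdeg k L = (R : Cardinal.{u}) →
    Tendsto (fun t : ℕ => (hf k b t : ℝ) / (t : ℝ) ^ R) atTop (𝓝 ((d : ℝ) / (R.factorial : ℝ))) →
    m = Module.finrank k (separableClosure k L) →
    ∃ c : ℝ, ∀ (k' : Type u) [Field k'] [Algebra k k'] [Finite k'],
      (m ∣ Module.finrank k k' →
        |(Nat.card (Algebra.adjoin k (Set.range b) →ₐ[k] k') : ℝ) - m * (Nat.card k' : ℝ) ^ R| ≤
          (((d : ℝ) - m) * (d - 2 * m) / m) * ((Nat.card k' : ℝ) ^ (R - 1) * Real.sqrt (Nat.card k')) +
            c * (Nat.card k' : ℝ) ^ (R - 1)) ∧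
      (¬ m ∣ Module.finrank k k' →
        (Nat.card (Algebra.adjoin k (Set.range b) →ₐ[k] k') : ℝ) ≤ c * (Nat.card k' : ℝ) ^ (R - 1))

attribute [local instance] Curv2.resAlgebra

theorem rpow_card {k k' : Type u} [Field k] [Field k'] [Algebra k k'] [Finite k] [Finite k'] (x : ℝ) :
    (Nat.card k : ℝ) ^ ((Module.finrank k k' : ℝ) * x) = (Nat.card k' : ℝ) ^ x := by
  have h1 : Module.Finite k k' := inferInstance
  have h2 : Nat.card k' = Nat.card k ^ Module.finrank k k' := Module.natCard_eq_pow_finrank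
  rw [h2, Real.rpow_mul (Nat.cast_nonneg _), Real.rpow_natCast]
  push_cast
  rfl

theorem s13077 (hT : Final.HilbThm.{u}) (hC : CompThm.{u}) (k : Type u) [Field k] [Finite k] (n d r : ℕ)
    (X : Scheme.{u}) (ι : X ⟶ CohB1.ProjSpace n k) [IsClosedImmersion ι] [IsIntegral X]
    (hdim : topologicalKrullDim X = r)
    (hdeg : letI : X.Over (Spec (CommRingCat.of k)) := ⟨ι ≫ CohB1.ProjSpace.toSpec n k⟩
      FGA.intNum k X r (fun _ : Fin r => (Scheme.Modules.pullback ι).obj (Twist.twistProjSpace n k (-1)))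
        (Coh.structureModule X) = d)
    (m : ℕ) (hm : Nat.card (irreducibleComponents ↑(pullback (ι ≫ CohB1.ProjSpace.toSpec n k)
        (Spec.map (CommRingCat.ofHom (algebraMap k (AlgebraicClosure k)))))) = m) :
    ∃ c c' : ℝ, 0 < c ∧ 0 < c' ∧ ∀ (k' : Type u) [Field k'] [Algebra k k'] [Finite k'],
      (m ∣ Module.finrank k k' →
        |(SgaExt.pointCount (ι ≫ CohB1.ProjSpace.toSpec n k) k' : ℝ) -
            m * (Nat.card k : ℝ) ^ (Module.finrank k k' * r)| ≤
          (((d : ℝ) - m) * ((d : ℝ) - 2 * m) / m) *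
              (Nat.card k : ℝ) ^ ((Module.finrank k k' : ℝ) * ((r : ℝ) - 1 / 2)) +
            c * (Nat.card k : ℝ) ^ ((Module.finrank k k' : ℝ) * ((r : ℝ) - 1))) ∧
      (¬ m ∣ Module.finrank k k' →
        (SgaExt.pointCount (ι ≫ CohB1.ProjSpace.toSpec n k) k' : ℝ) ≤
          c' * (Nat.card k : ℝ) ^ ((Module.finrank k k' : ℝ) * ((r : ℝ) - 1))) := by
  letI : X.Over (Spec (CommRingCat.of k)) := ⟨ι ≫ CohB1.ProjSpace.toSpec n k⟩
  obtain ⟨j, v, -, -, hv⟩ := exists_coords' (X := X) ι rfl
  have hfin := finiteDimensional_sep v hv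
  obtain ⟨b, hb⟩ := exists_coneData (X := X) ι rfl hdim (hT k ι r hdim)
  -- the number of components
  have hm' : m = Module.finrank k (separableClosure k (FractionRing (Polynomial
      (X.residueField (genericPoint X))))) := by
    rw [finrank_separableClosure, ← hm]
    have h1 := S2525.result (k'' := AlgebraicClosure k) (ι ≫ CohB1.ProjSpace.toSpec n k)
    obtain ⟨ψ, hψ, h2⟩ := h1
    have h3 : ψ = Curv2.resMap k X (genericPoint X) := by
      have h4 := VarietyA.ResMap.specMap_resMap k X (genericPoint X)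
      have h5 : CommRingCat.ofHom ψ = CommRingCat.ofHom (Curv2.resMap k X (genericPoint X)) := by
        apply Spec.map_injective
        exact hψ.trans h4.symm
      exact congrArg CommRingCat.Hom.hom h5
    subst h3
    exact h2 hfin ⟨IsAlgClosed.lift⟩
  have hdeg' : ((FGA.intNum k X r (fun _ : Fin r => (Scheme.Modules.pullback ι).obj (Twist.twistProjSpace n k (-1)))
      (Coh.structureModule X) : ℤ) : ℝ) = d := by rw [hdeg]; rfl
  have htends := hb.tendsto
  rw [hdeg'] at htends
  obtain ⟨c, hc⟩ := hC k _ b (r + 1) d m (by omega) hb.adjoin hb.trdeg htends hm'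
  refine ⟨2 * |((d : ℝ) - m) * ((d : ℝ) - 2 * m) / m| + 2 * |c| + 2 * m + 2, 2 * |c| + 1, by positivity,
    by positivity, fun k' _ _ _ => ?_⟩
  have hq : 1 < Nat.card k' := Finite.one_lt_card (α := k')
  have hq2 : (2 : ℝ) ≤ Nat.card k' := by exact_mod_cast hq
  have hq0 : (0 : ℝ) < Nat.card k' := by linarith
  have h2 : (((SgaExt.pointCount (ι ≫ CohB1.ProjSpace.toSpec n k) k' * (Nat.card k' - 1) + 1 : ℕ)) : ℝ) =
      (SgaExt.pointCount (ι ≫ CohB1.ProjSpace.toSpec n k) k' : ℝ) * ((Nat.card k' : ℝ) - 1) + 1 := by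
    rw [Nat.cast_add, Nat.cast_mul, Nat.cast_sub hq.le]
    push_cast; ring
  have hcard : Nat.card k' = Nat.card k ^ Module.finrank k k' := Module.natCard_eq_pow_finrank
  have hpow : (Nat.card k : ℝ) ^ (Module.finrank k k' * r) = (Nat.card k' : ℝ) ^ r := by
    rw [hcard, pow_mul]; push_cast; rfl
  obtain ⟨hd1, hd2⟩ := hc k'
  rw [rpow_card, rpow_card, hpow]
  rw [hb.card_hom, h2, Nat.add_sub_cancel] at hd1 hd2
  constructor
  · intro hdvd
    have h1 := hd1 hdvd
    have h4 : c * (Nat.card k' : ℝ) ^ r ≤ |c| * (Nat.card k' : ℝ) ^ r :=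
      mul_le_mul_of_nonneg_right (le_abs_self c) (by positivity)
    exact conv hq2 r (n := (SgaExt.pointCount (ι ≫ CohB1.ProjSpace.toSpec n k) k' : ℝ))
      (B := ((d : ℝ) - m) * ((d : ℝ) - 2 * m) / m) (A := |c|) (m := m) (abs_nonneg c) (Nat.cast_nonneg m)
      (by linarith)
  · intro hdvd
    have h1 := hd2 hdvd
    set Q : ℝ := (Nat.card k' : ℝ) ^ ((r : ℝ) - 1) with hQ
    have hQ0 : 0 < Q := Real.rpow_pos_of_pos hq0 _
    have hQr : (Nat.card k' : ℝ) ^ r = Q * Nat.card k' := by
      rw [hQ, Real.rpow_sub hq0, Real.rpow_natCast, Real.rpow_one, div_mul_cancel₀ _ hq0.ne']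
    set q : ℝ := (Nat.card k' : ℝ) with hqq
    set P : ℝ := (SgaExt.pointCount (ι ≫ CohB1.ProjSpace.toSpec n k) k' : ℝ) with hP
    have hP0 : 0 ≤ P := Nat.cast_nonneg _
    rw [hQr] at h1
    have hc' := le_abs_self c
    have hcQ : c * (Q * q) ≤ |c| * (Q * q) := mul_le_mul_of_nonneg_right hc' (by positivity)
    have h5 : P * (q - 1) ≤ (2 * |c| + 1) * Q * (q - 1) := by
      have h6 : |c| * (Q * q) ≤ |c| * (Q * (2 * (q - 1))) := by
        refine mul_le_mul_of_nonneg_left (mul_le_mul_of_nonneg_left ?_ hQ0.le) (abs_nonneg c)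
        linarith
      have h7 : 0 ≤ Q * (q - 1) := mul_nonneg hQ0.le (by linarith)
      nlinarith
    exact le_of_mul_le_mul_right h5 (by linarith)

end K467.Comp77
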