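import Groth.Agent.Zeta.K467.AbsIrr
import Mathlib.RingTheory.TensorProduct.Basic
import Mathlib.LinearAlgebra.TensorProduct.Basis
import Mathlib.RingTheory.Polynomial.UniqueFactorization

/-!
# Absolute irreducibility from the function field
-/

set_option autoImplicit false
open MvPolynomial
open scoped TensorProduct

namespace K467.AbsIrr

universe u v w

variable {k : Type u} [Field k] {L : Type v} [Field L] [Algebra k L] {Ω : Type w} [Field Ω] [Algebra k Ω]
  {σ : Type*}

/-- A polynomial with coefficients in `Ω` as a combination of polynomials with coefficients in `k`. -/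
theorem dvd_of_forall_lam {F : MvPolynomial σ k} {G : MvPolynomial σ Ω}
    (h : ∀ l : Ω →ₗ[k] k, F ∣ lam l G) : map (algebraMap k Ω) F ∣ G := by
  classical
  let β := Module.Basis.ofVectorSpace k Ω
  let S := G.support.biUnion (fun m => (β.repr (coeff m G)).support)
  have hG : G = ∑ i ∈ S, C (β i) * map (algebraMap k Ω) (lam (β.coord i) G) := by
    ext m
    rw [coeff_sum]
    simp only [coeff_C_mul, coeff_map, coeff_lam]
    by_cases hm : m ∈ G.support
    · have h1 : (β.repr (coeff m G)).support ⊆ S := Finset.subset_biUnion_of_mem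
        (fun m => (β.repr (coeff m G)).support) hm
      have h2 : coeff m G = ∑ i ∈ S, (β.repr (coeff m G)) i • β i := by
        conv_lhs => rw [← β.linearCombination_repr (coeff m G), Finsupp.linearCombination_apply]
        exact Finsupp.sum_of_support_subset _ h1 _ (fun i _ => zero_smul _ _)
      conv_lhs => rw [h2]
      refine Finset.sum_congr rfl fun i _ => ?_
      rw [Module.Basis.coord_apply, Algebra.smul_def, mul_comm]
    · rw [mem_support_iff, not_not] at hm
      rw [hm]
      simp
  rw [hG]
  refine Finset.dvd_sum fun i _ => dvd_mul_of_dvd_right ?_ _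
  exact map_dvd _ (h _)

/-- evaluation in the tensor product and functionals -/
theorem lid_rTensor_aeval (l : Ω →ₗ[k] k) (w : σ → L) (G : MvPolynomial σ Ω) :
    (TensorProduct.lid k L) ((l.rTensor L) (aeval (fun i => (1 : Ω) ⊗ₜ[k] w i) G)) = aeval w (lam l G) := by
  classical
  have h1 : ∀ (m : σ →₀ ℕ) (a : Ω), aeval (fun i => (1 : Ω) ⊗ₜ[k] w i) (monomial m a) =
      a ⊗ₜ[k] (aeval w (monomial m (1 : k))) := by
    intro m a
    rw [aeval_monomial, aeval_monomial, map_one, one_mul]
    have h2 : (m.prod fun i k_1 => ((1 : Ω) ⊗ₜ[k] w i) ^ k_1) = (1 : Ω) ⊗ₜ[k] (m.prod fun i k_1 => w i ^ k_1) := by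
      have h3 := map_prod (Algebra.TensorProduct.includeRight : L →ₐ[k] Ω ⊗[k] L) (fun i => w i ^ m i) m.support
      rw [Algebra.TensorProduct.includeRight_apply] at h3
      unfold Finsupp.prod
      rw [h3]
      refine Finset.prod_congr rfl fun i _ => ?_
      rw [map_pow]
      rfl
    rw [h2, Algebra.TensorProduct.algebraMap_apply, Algebra.TensorProduct.tmul_mul_tmul, mul_one, one_mul]
    rfl
  conv_lhs => rw [← support_sum_monomial_coeff G, map_sum, map_sum, map_sum]
  unfold lam
  rw [map_sum]
  refine Finset.sum_congr rfl fun m _ => ?_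
  rw [h1, LinearMap.rTensor_tmul, TensorProduct.lid_tmul]
  rw [aeval_monomial, aeval_monomial, map_one, one_mul, Algebra.smul_def]

theorem aeval_tensor_eq_zero_iff (w : σ → L) (F : MvPolynomial σ k) (hF : aeval w F = 0)
    (hdvd : ∀ G : MvPolynomial σ k, aeval w G = 0 → F ∣ G) (G : MvPolynomial σ Ω) :
    aeval (fun i => (1 : Ω) ⊗ₜ[k] w i) G = 0 ↔ map (algebraMap k Ω) F ∣ G := by
  constructor
  · intro h
    refine dvd_of_forall_lam fun l => hdvd _ ?_
    rw [← lid_rTensor_aeval, h, map_zero, map_zero]
  · rintro ⟨H, rfl⟩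
    rw [map_mul]
    have h1 : aeval (fun i => (1 : Ω) ⊗ₜ[k] w i) (map (algebraMap k Ω) F) =
        (Algebra.TensorProduct.includeRight : L →ₐ[k] Ω ⊗[k] L) (aeval w F) := by
      rw [aeval_map_algebraMap]
      have h2 : (Algebra.TensorProduct.includeRight : L →ₐ[k] Ω ⊗[k] L).comp (aeval w) =
          aeval (fun i => (1 : Ω) ⊗ₜ[k] w i) := by
        ext i; simp
      exact (DFunLike.congr_fun h2 F).symm
    rw [h1, hF, map_zero, zero_mul]

/-- The generator of the relations stays irreducible over `Ω` if `Ω ⊗ L` is a domain. -/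
theorem irreducible_map_of_isDomain [IsDomain (Ω ⊗[k] L)]
    (w : σ → L) (F : MvPolynomial σ k) (hF0 : Irreducible F) (hF : aeval w F = 0)
    (hdvd : ∀ G : MvPolynomial σ k, aeval w G = 0 → F ∣ G) : Irreducible (map (algebraMap k Ω) F) := by
  have hp : Prime (map (algebraMap k Ω) F) := by
    refine ⟨?_, fun h => hF0.not_isUnit (isUnit_of_map h), fun G H hGH => ?_⟩
    · rw [ne_eq, map_eq_zero_iff _ (map_injective _ (algebraMap k Ω).injective)]
      exact hF0.ne_zero
    · rw [← aeval_tensor_eq_zero_iff w F hF hdvd, map_mul, mul_eq_zero] at hGH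
      rw [← aeval_tensor_eq_zero_iff w F hF hdvd, ← aeval_tensor_eq_zero_iff w F hF hdvd]
      exact hGH
  exact hp.irreducible

end K467.AbsIrr
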