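import Mathlib.Data.Fintype.BigOperators
import Mathlib.Algebra.BigOperators.Field
import Mathlib.Algebra.Module.Basic
import Mathlib.Analysis.SpecialFunctions.Pow.Real
import Mathlib.Algebra.Order.BigOperators.Ring.Finset

/-!
# Exact pairwise independence of the points of a random affine plane
-/

set_option autoImplicit false

namespace K467.Variance

variable {k V : Type*} [Field k] [Fintype k] [AddCommGroup V] [Module k V] [Fintype V]

/-- The point with parameter `(s, t)` of the plane `(a, b, c)`. -/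
def pt (p : V × V × V) (σ : k × k) : V := p.1 + σ.1 • p.2.1 + σ.2 • p.2.2

omit [Fintype k] in
theorem sum_single (w : V → ℝ) (σ : k × k) :
    ∑ p : V × V × V, w (pt p σ) = (Fintype.card V : ℝ) ^ 2 * ∑ x, w x := by
  rw [Fintype.sum_prod_type_right]
  have h : ∀ bc : V × V, ∑ a : V, w (pt (a, bc) σ) = ∑ x, w x := by
    intro bc
    have h1 : ∀ a, pt (a, bc) σ = (Equiv.addRight (σ.1 • bc.1 + σ.2 • bc.2)) a := by
      intro a
      simp [pt, add_assoc]
    simp only [h1]
    exact Equiv.sum_comp (Equiv.addRight (σ.1 • bc.1 + σ.2 • bc.2)) w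
  simp only [h]
  rw [Finset.sum_const, Finset.card_univ, Fintype.card_prod, nsmul_eq_mul]
  push_cast
  ring

/-- The bijection used for pairs of parameters with different first coordinates. -/
def pairEquiv (s s' t t' : k) (hs : s ≠ s') (c : V) : V × V ≃ V × V where
  toFun p := (p.1 + s • p.2 + t • c, p.1 + s' • p.2 + t' • c)
  invFun x := (x.1 - s • ((s - s')⁻¹ • (x.1 - x.2 - (t - t') • c)) - t • c,
    (s - s')⁻¹ • (x.1 - x.2 - (t - t') • c))
  left_inv p := by
    have h0 : s - s' ≠ 0 := sub_ne_zero.2 hs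
    have h1 : p.1 + s • p.2 + t • c - (p.1 + s' • p.2 + t' • c) - (t - t') • c = (s - s') • p.2 := by
      rw [sub_smul, sub_smul]
      abel
    ext
    · simp only [h1, smul_smul, inv_mul_cancel₀ h0, one_smul]
      abel
    · simp only [h1, smul_smul, inv_mul_cancel₀ h0, one_smul]
  right_inv x := by
    have h0 : s - s' ≠ 0 := sub_ne_zero.2 hs
    ext
    · simp only
      abel
    · simp only
      have h1 : x.1 - s • ((s - s')⁻¹ • (x.1 - x.2 - (t - t') • c)) - t • c +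
        s' • ((s - s')⁻¹ • (x.1 - x.2 - (t - t') • c)) + t' • c =
        x.1 - (s - s') • ((s - s')⁻¹ • (x.1 - x.2 - (t - t') • c)) - (t - t') • c := by
        rw [sub_smul (s), sub_smul t t' c]
        abel
      rw [h1, smul_smul, mul_inv_cancel₀ h0, one_smul]
      abel

omit [Fintype k] in
theorem sum_pair_aux (w : V → ℝ) (s s' t t' : k) (hs : s ≠ s') :
    ∑ p : V × V × V, w (p.1 + s • p.2.1 + t • p.2.2) * w (p.1 + s' • p.2.1 + t' • p.2.2) =
      (Fintype.card V : ℝ) * (∑ x, w x) ^ 2 := by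
  have h1 : ∑ p : V × V × V, w (p.1 + s • p.2.1 + t • p.2.2) * w (p.1 + s' • p.2.1 + t' • p.2.2) =
      ∑ c : V, ∑ p : V × V, w (p.1 + s • p.2 + t • c) * w (p.1 + s' • p.2 + t' • c) := by
    rw [Fintype.sum_prod_type, Finset.sum_comm' (t' := Finset.univ) (s' := fun _ => Finset.univ) (by simp)]
    rw [Fintype.sum_prod_type]
    rw [Finset.sum_comm]
    refine Finset.sum_congr rfl fun c _ => ?_
    rw [Fintype.sum_prod_type, Finset.sum_comm]
  rw [h1]
  have h2 : ∀ c : V, ∑ p : V × V, w (p.1 + s • p.2 + t • c) * w (p.1 + s' • p.2 + t' • c) =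
      (∑ x, w x) ^ 2 := by
    intro c
    have h3 := Equiv.sum_comp (pairEquiv s s' t t' hs c) (fun x : V × V => w x.1 * w x.2)
    simp only [pairEquiv, Equiv.coe_fn_mk] at h3
    rw [h3, Fintype.sum_prod_type, sq, Finset.sum_mul_sum]
  simp only [h2]
  rw [Finset.sum_const, Finset.card_univ, nsmul_eq_mul]

theorem sum_pair (w : V → ℝ) (σ τ : k × k) (h : σ ≠ τ) :
    ∑ p : V × V × V, w (pt p σ) * w (pt p τ) = (Fintype.card V : ℝ) * (∑ x, w x) ^ 2 := by
  by_cases hs : σ.1 = τ.1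
  · have ht : σ.2 ≠ τ.2 := fun h2 => h (Prod.ext hs h2)
    have h1 := sum_pair_aux w σ.2 τ.2 σ.1 τ.1 ht
    rw [← h1]
    let e : V × V × V ≃ V × V × V := (Equiv.refl V).prodCongr (Equiv.prodComm V V)
    rw [← Equiv.sum_comp e]
    refine Finset.sum_congr rfl fun p _ => ?_
    simp only [pt, e, Equiv.prodCongr_apply, Equiv.coe_refl, Equiv.coe_prodComm, Prod.map, id,
      Prod.fst_swap, Prod.snd_swap]
    congr 2 <;> abel
  · exact sum_pair_aux w σ.1 τ.1 σ.2 τ.2 hs

/-- The number of points of `Z` on the plane. -/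
noncomputable def cnt (k : Type*) {V : Type*} [Field k] [Fintype k] [AddCommGroup V] [Module k V]
    (w : V → ℝ) (p : V × V × V) : ℝ := ∑ σ : k × k, w (pt p σ)

theorem sum_cnt (w : V → ℝ) :
    ∑ p : V × V × V, cnt k w p = (Fintype.card k : ℝ) ^ 2 * (Fintype.card V : ℝ) ^ 2 * ∑ x, w x := by
  unfold cnt
  rw [Finset.sum_comm]
  simp only [sum_single]
  rw [Finset.sum_const, Finset.card_univ, Fintype.card_prod, nsmul_eq_mul]
  push_cast
  ring

theorem sum_cnt_sq (w : V → ℝ) :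
    ∑ p : V × V × V, cnt k w p ^ 2 =
      (Fintype.card k : ℝ) ^ 2 * (Fintype.card V : ℝ) ^ 2 * (∑ x, w x ^ 2) +
      ((Fintype.card k : ℝ) ^ 4 - (Fintype.card k : ℝ) ^ 2) * ((Fintype.card V : ℝ) * (∑ x, w x) ^ 2) := by
  classical
  have h1 : ∀ p : V × V × V, cnt k w p ^ 2 = ∑ σ : k × k, ∑ τ : k × k, w (pt p σ) * w (pt p τ) := by
    intro p
    rw [sq, cnt, Finset.sum_mul_sum]
  simp only [h1]
  rw [Finset.sum_comm]
  have h2 : ∀ σ : k × k, ∑ p : V × V × V, ∑ τ : k × k, w (pt p σ) * w (pt p τ) =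
      (Fintype.card V : ℝ) ^ 2 * (∑ x, w x ^ 2) +
      ((Fintype.card k : ℝ) ^ 2 - 1) * ((Fintype.card V : ℝ) * (∑ x, w x) ^ 2) := by
    intro σ
    rw [Finset.sum_comm, ← Finset.add_sum_erase _ _ (Finset.mem_univ σ)]
    congr 1
    · rw [← sum_single (fun x => w x ^ 2) σ]
      exact Finset.sum_congr rfl fun p _ => (sq _).symm
    · rw [Finset.sum_congr rfl (fun τ hτ => sum_pair w σ τ (Finset.ne_of_mem_erase hτ).symm),
        Finset.sum_const, Finset.card_erase_of_mem (Finset.mem_univ _), Finset.card_univ,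
        Fintype.card_prod, nsmul_eq_mul]
      congr 1
      have hpos : 1 ≤ Fintype.card k * Fintype.card k := Nat.mul_pos Fintype.card_pos Fintype.card_pos
      rw [Nat.cast_sub hpos]
      push_cast
      ring
  simp only [h2]
  rw [Finset.sum_const, Finset.card_univ, Fintype.card_prod, nsmul_eq_mul]
  push_cast
  ring

/-- **The variance bound.** -/
theorem variance_le (w : V → ℝ) (hw : ∀ x, w x ^ 2 = w x) (μ : ℝ)
    (hμ : μ * (Fintype.card V : ℝ) = (Fintype.card k : ℝ) ^ 2 * ∑ x, w x) :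
    ∑ p : V × V × V, (cnt k w p - μ) ^ 2 ≤ (Fintype.card V : ℝ) ^ 3 * μ := by
  have h1 : ∑ p : V × V × V, (cnt k w p - μ) ^ 2 =
      ∑ p : V × V × V, cnt k w p ^ 2 - 2 * μ * ∑ p : V × V × V, cnt k w p +
        (Fintype.card V : ℝ) ^ 3 * μ ^ 2 := by
    rw [Finset.mul_sum, ← Finset.sum_sub_distrib]
    have : (Fintype.card V : ℝ) ^ 3 * μ ^ 2 = ∑ _p : V × V × V, μ ^ 2 := by
      rw [Finset.sum_const, Finset.card_univ, Fintype.card_prod, Fintype.card_prod, nsmul_eq_mul]
      push_cast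
      ring
    rw [this, ← Finset.sum_add_distrib]
    refine Finset.sum_congr rfl fun p _ => ?_
    ring
  rw [h1, sum_cnt, sum_cnt_sq]
  simp only [hw]
  set N := ∑ x, w x with hN
  set q := (Fintype.card k : ℝ)
  set Q := (Fintype.card V : ℝ)
  have e1 : q ^ 2 * Q ^ 2 * N = Q ^ 3 * μ := by
    calc q ^ 2 * Q ^ 2 * N = Q ^ 2 * (q ^ 2 * N) := by ring
      _ = Q ^ 3 * μ := by rw [← hμ]; ring
  have e2 : q ^ 4 * (Q * N ^ 2) = Q ^ 3 * μ ^ 2 := by
    calc q ^ 4 * (Q * N ^ 2) = Q * (q ^ 2 * N) ^ 2 := by ring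
      _ = Q ^ 3 * μ ^ 2 := by rw [← hμ]; ring
  have e3 : 0 ≤ q ^ 2 * (Q * N ^ 2) := by positivity
  have e4 : (q ^ 4 - q ^ 2) * (Q * N ^ 2) = q ^ 4 * (Q * N ^ 2) - q ^ 2 * (Q * N ^ 2) := by ring
  rw [e4, e2, e1]
  nlinarith [e3]

end K467.Variance
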