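import Groth.Agent.Zeta.K467.Dicho
import Groth.Agent.Zeta.K467.Variance
import Groth.Agent.Zeta.K468.NS
import Groth.Agent.Zeta.K466.PlaneCurve

/-!
# The sharp Lang–Weil estimate for absolutely irreducible hypersurfaces

`sharp_hyp`: for an absolutely irreducible `f ∈ 𝔽_q[x_0, …, x_n]` of total degree `≤ d`, `n ≥ 1`,
`|N - q^n| ≤ (d - 1) (d - 2) q^(n - 1/2) + A q^(n - 1)`.
-/

set_option autoImplicit false
open MvPolynomial

namespace K467.SharpHyp

open K467.LinNoether K467.AbsIrr K467.Dicho K467.Variance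

universe u v

section restr

variable {k : Type u} [Field k] {n : ℕ}

/-- restriction to the plane `(a, b, c)` -/
noncomputable def restr (p : (Fin n → k) × (Fin n → k) × (Fin n → k)) (f : MvPolynomial (Fin n) k) :
    MvPolynomial (Fin 2) k :=
  aeval (fun i => C (p.1 i) + C (p.2.1 i) * X 0 + C (p.2.2 i) * X 1) f

theorem totalDegree_restr_le (p : (Fin n → k) × (Fin n → k) × (Fin n → k))
    (f : MvPolynomial (Fin n) k) : (restr p f).totalDegree ≤ f.totalDegree := by
  refine totalDegree_aeval_le _ (fun i => ?_) f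
  refine (totalDegree_add _ _).trans (max_le ((totalDegree_add _ _).trans (max_le ?_ ?_)) ?_)
  · rw [totalDegree_C]; exact Nat.zero_le _
  · refine (totalDegree_mul _ _).trans ?_
    simp
  · refine (totalDegree_mul _ _).trans ?_
    simp

theorem eval_restr (p : (Fin n → k) × (Fin n → k) × (Fin n → k))
    (f : MvPolynomial (Fin n) k) (x : Fin 2 → k) :
    eval x (restr p f) = eval (pt p (x 0, x 1)) f := by
  have h : ((aeval x : MvPolynomial (Fin 2) k →ₐ[k] k).comp
      (aeval (fun i => C (p.1 i) + C (p.2.1 i) * X 0 + C (p.2.2 i) * X 1))) =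
      (aeval (pt p (x 0, x 1)) : MvPolynomial (Fin n) k →ₐ[k] k) := by
    ext i
    simp [pt]
    ring
  have h2 := DFunLike.congr_fun h f
  simpa [aeval_eq_eval, restr] using h2

end restr

theorem sharp_hyp (n : ℕ) (hn : 1 ≤ n) (d : ℕ) (hd : 1 ≤ d) : ∃ A : ℝ, 0 ≤ A ∧ ∀ (k : Type u) [Field k] [Finite k]
    (f : MvPolynomial (Fin (n + 1)) k), f.totalDegree ≤ d →
    Irreducible (MvPolynomial.map (algebraMap k (AlgebraicClosure k)) f) →
    |(Nat.card {x : Fin (n + 1) → k // eval x f = 0} : ℝ) - (Nat.card k : ℝ) ^ n| ≤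
      ((d : ℝ) - 1) * (d - 2) * ((Nat.card k : ℝ) ^ (n - 1) * Real.sqrt (Nat.card k)) +
        A * (Nat.card k : ℝ) ^ (n - 1) := by
  classical
  obtain ⟨C, hC0, hNS⟩ := K468.Cnt.NS.{u} K466.PlaneCurve.planeCurve n d
  obtain ⟨A, q0, hA0, hdi⟩ := dicho.{u} d
  set q1 : ℝ := max q0 (16 * C ^ 2 + 2) with hq1
  have hq1pos : 0 ≤ q1 := le_max_of_le_right (by positivity)
  refine ⟨(A + 10) + q1 ^ 2, by positivity, ?_⟩
  intro k _ _ f hfd hf
  cases nonempty_fintype k
  set q : ℝ := (Nat.card k : ℝ) with hqdef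
  have hqn : (Nat.card k) = Fintype.card k := Nat.card_eq_fintype_card
  have hq1' : (1 : ℝ) < q := by
    have := Finite.one_lt_card (α := k)
    rw [hqdef]
    exact_mod_cast this
  have hq0 : 0 < q := by linarith
  set N : ℝ := (Nat.card {x : Fin (n + 1) → k // eval x f = 0} : ℝ) with hN
  have hN0 : 0 ≤ N := Nat.cast_nonneg _
  have hNle : N ≤ q ^ (n + 1) := by
    have h1 : Nat.card {x : Fin (n + 1) → k // eval x f = 0} ≤ Nat.card (Fin (n + 1) → k) :=
      Nat.card_le_card_of_injective _ Subtype.val_injective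
    have h2 : Nat.card (Fin (n + 1) → k) = Nat.card k ^ (n + 1) := by rw [Nat.card_pi]; simp
    rw [h2] at h1
    rw [hN, hqdef]
    exact_mod_cast h1
  have hs : Real.sqrt q ^ 2 = q := Real.sq_sqrt hq0.le
  have hs0 : 0 < Real.sqrt q := Real.sqrt_pos.2 hq0
  have hc1 : 0 ≤ ((d : ℝ) - 1) * (d - 2) := SharpPC.nonneg_of_pos hd
  have hpow : q ^ (n + 1) = q ^ 2 * q ^ (n - 1) := by
    rw [← pow_add]; congr 1; omega
  have hpow2 : q ^ n = q * q ^ (n - 1) := by
    rw [← pow_succ']; congr 1; omega
  have hqn1 : 0 < q ^ (n - 1) := pow_pos hq0 _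
  by_cases hq : q1 ≤ q
  · have hq' : q0 ≤ q := (le_max_left _ _).trans hq
    have hqC : 16 * C ^ 2 + 2 ≤ q := (le_max_right _ _).trans hq
    have hsC : 4 * C ≤ Real.sqrt q := by
      apply Real.le_sqrt_of_sq_le
      nlinarith
    let V := Fin (n + 1) → k
    let w : V → ℝ := fun x => if eval x f = 0 then 1 else 0
    have hw : ∀ x, w x ^ 2 = w x := by
      intro x
      simp only [w]
      split_ifs <;> simp
    have hsumw : ∑ x, w x = N := by
      simp only [w]
      rw [Finset.sum_boole, hN, Nat.card_eq_fintype_card, Fintype.card_subtype]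
    set Q : ℝ := (Fintype.card V : ℝ) with hQ
    have hQq : Q = q ^ (n + 1) := by
      rw [hQ, Fintype.card_fun, Fintype.card_fin, hqdef, hqn]
      push_cast
      rfl
    have hQ0 : 0 < Q := by rw [hQq]; positivity
    set μ : ℝ := q ^ 2 * N / Q with hμ
    have hμQ : μ * Q = q ^ 2 * N := by rw [hμ]; field_simp
    have hμ0 : 0 ≤ μ := by positivity
    have hkq : (Fintype.card k : ℝ) = q := by rw [hqdef, hqn]
    have hvar := variance_le (k := k) w hw μ (by rw [hsumw, hkq]; exact hμQ)
    have hsum := sum_cnt (k := k) w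
    rw [hsumw, hkq] at hsum
    have hcnt : ∀ p : V × V × V, cnt k w p = nz (restr p f) := by
      intro p
      unfold cnt nz
      simp only [w]
      rw [Finset.sum_boole]
      rw [Nat.card_eq_fintype_card, Fintype.card_subtype]
      congr 1
      refine Finset.card_bij' (fun σ _ => ![σ.1, σ.2]) (fun x _ => (x 0, x 1)) ?_ ?_ ?_ ?_
      · intro σ hσ
        rw [Finset.mem_filter] at hσ ⊢
        refine ⟨Finset.mem_univ _, ?_⟩
        rw [eval_restr]
        exact hσ.2
      · intro x hx
        rw [Finset.mem_filter] at hx ⊢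
        refine ⟨Finset.mem_univ _, ?_⟩
        rw [eval_restr] at hx
        exact hx.2
      · intro σ _; simp
      · intro x _
        ext i
        fin_cases i <;> rfl
    -- the mean is close to `q`
    have hμN : μ * q ^ (n - 1) = N := by
      have h1 : μ * q ^ (n - 1) * q ^ 2 = N * q ^ 2 := by
        calc μ * q ^ (n - 1) * q ^ 2 = μ * Q := by rw [hQq, hpow]; ring
          _ = N * q ^ 2 := by rw [hμQ]; ring
      exact mul_right_cancel₀ (pow_pos hq0 2).ne' h1
    have hclose : |μ - q| ≤ q / 4 := by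
      have h1 := hNS k f hfd hf
      have h2 : N - q ^ n = (μ - q) * q ^ (n - 1) := by rw [hpow2, ← hμN]; ring
      change |N - q ^ n| ≤ _ at h1
      rw [h2, abs_mul, abs_of_pos hqn1] at h1
      have h3 : C * (q ^ n / Real.sqrt q) = (C * Real.sqrt q) * q ^ (n - 1) := by
        rw [hpow2]
        field_simp
        rw [hs]
      change _ ≤ C * (q ^ n / Real.sqrt q) at h1
      rw [h3] at h1
      have h4 := le_of_mul_le_mul_right h1 hqn1
      nlinarith
    set B : ℝ := ((d : ℝ) - 1) * (d - 2) * Real.sqrt q + A with hB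
    have hB0 : 0 ≤ B := by positivity
    have hterm : ∀ p : V × V × V, |cnt k w p - q| ≤ B + 8 / q * (cnt k w p - μ) ^ 2 := by
      intro p
      have h1 := hdi k hq' (restr p f) ((totalDegree_restr_le p f).trans hfd)
      rw [← hcnt p] at h1
      have h0 : 0 ≤ 8 / q * (cnt k w p - μ) ^ 2 := by positivity
      rcases h1 with h1 | h1
      · exact h1.trans (le_add_of_nonneg_right h0)
      · have h2 : |cnt k w p - q| ≤ 8 / q * (cnt k w p - μ) ^ 2 := by
          set x := cnt k w p - q with hx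
          have h3 : cnt k w p - μ = x - (μ - q) := by rw [hx]; ring
          rw [h3]
          have h4 : |x| / 2 ≤ |x - (μ - q)| := by
            have := abs_sub_abs_le_abs_sub x (μ - q)
            change q / 2 ≤ |x| at h1
            linarith
          have h5 : (|x| / 2) ^ 2 ≤ (x - (μ - q)) ^ 2 := by
            rw [← sq_abs (x - (μ - q))]
            exact pow_le_pow_left₀ (by positivity) h4 2
          have h6 : |x| * (q / 8) ≤ (x - (μ - q)) ^ 2 := by
            refine le_trans ?_ h5
            change q / 2 ≤ |x| at h1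
            nlinarith [abs_nonneg x]
          calc |x| = 8 / q * (|x| * (q / 8)) := by field_simp
            _ ≤ 8 / q * (x - (μ - q)) ^ 2 := by gcongr
        exact h2.trans (le_add_of_nonneg_left hB0)
    have hQ3 : (0 : ℝ) < Q ^ 3 := pow_pos hQ0 3
    have hmean : Q ^ 3 * (μ - q) = ∑ p : V × V × V, (cnt k w p - q) := by
      rw [Finset.sum_sub_distrib, hsum, Finset.sum_const, Finset.card_univ, Fintype.card_prod,
        Fintype.card_prod, nsmul_eq_mul]
      push_cast
      have : Q ^ 3 * μ = Q ^ 2 * (μ * Q) := by ring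
      rw [mul_sub, this, hμQ]
      ring
    have hfinal : |μ - q| ≤ B + 10 := by
      have h1 : Q ^ 3 * |μ - q| ≤ Q ^ 3 * (B + 10) := by
        rw [← abs_of_pos hQ3, ← abs_mul, hmean, abs_of_pos hQ3]
        refine (Finset.abs_sum_le_sum_abs _ _).trans ?_
        refine (Finset.sum_le_sum fun p _ => hterm p).trans ?_
        rw [Finset.sum_add_distrib, ← Finset.mul_sum, Finset.sum_const, Finset.card_univ,
          Fintype.card_prod, Fintype.card_prod, nsmul_eq_mul]
        push_cast
        have h2 : 8 / q * ∑ p : V × V × V, (cnt k w p - μ) ^ 2 ≤ 8 / q * (Q ^ 3 * μ) := by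
          gcongr
        have h3 : 8 / q * (Q ^ 3 * μ) ≤ Q ^ 3 * 10 := by
          have h4 : μ ≤ q + q / 4 := by
            have := (abs_le.1 hclose).2
            linarith
          calc 8 / q * (Q ^ 3 * μ) = Q ^ 3 * (8 / q * μ) := by ring
            _ ≤ Q ^ 3 * (8 / q * (q + q / 4)) := by gcongr
            _ = Q ^ 3 * 10 := by field_simp; norm_num
        calc Q * (Q * Q) * B + 8 / q * ∑ p : V × V × V, (cnt k w p - μ) ^ 2 ≤
            Q * (Q * Q) * B + Q ^ 3 * 10 := by linarith
          _ = Q ^ 3 * (B + 10) := by ring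
      exact le_of_mul_le_mul_left h1 hQ3
    have h2 : N - q ^ n = (μ - q) * q ^ (n - 1) := by rw [hpow2, ← hμN]; ring
    rw [h2, abs_mul, abs_of_pos hqn1]
    calc |μ - q| * q ^ (n - 1) ≤ (B + 10) * q ^ (n - 1) := by gcongr
      _ ≤ _ := by
        rw [hB]
        have : 0 ≤ q1 ^ 2 * q ^ (n - 1) := by positivity
        nlinarith
  · have hq2 : q ≤ q1 := (not_le.1 hq).le
    have h1 : |N - q ^ n| ≤ q ^ (n + 1) := by
      have h2 : 0 ≤ q ^ n := by positivity
      have h3 : q ^ n ≤ q ^ (n + 1) := pow_le_pow_right₀ hq1'.le (Nat.le_succ n)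
      rw [abs_le]
      constructor <;> linarith
    refine h1.trans ?_
    rw [hpow]
    have h2 : q ^ 2 ≤ q1 ^ 2 := by gcongr
    have h3 : 0 ≤ ((d : ℝ) - 1) * (d - 2) * (q ^ (n - 1) * Real.sqrt q) := by positivity
    have h4 : q ^ 2 * q ^ (n - 1) ≤ q1 ^ 2 * q ^ (n - 1) := by gcongr
    have h5 : 0 ≤ (A + 10) * q ^ (n - 1) := by positivity
    linarith

end K467.SharpHyp
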