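import Groth.Agent.Zeta.K467.Conduct
import Groth.Agent.Zeta.K467.AbsIrr2
import Groth.Agent.Zeta.K467.SharpHyp

/-!
# The sharp Lang–Weil estimate for affine varieties
-/

set_option autoImplicit false
open MvPolynomial
open scoped TensorProduct

namespace K467.AffSharp

open LinNoether HilbDeg LinNorm AffPts AffUB Prim Conduct

universe u v

variable {k : Type u} [Field k] {L : Type v} [Field L] [Algebra k L] {N R : ℕ} {y : Fin R → L}
  {b : Fin N → L} {z : L}

/-- `k[y, z]` -/
abbrev CC (k : Type u) [Field k] {L : Type v} [Field L] [Algebra k L] {R : ℕ} (y : Fin R → L) (z : L) :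
    Subalgebra k L := Algebra.adjoin k (Set.range (Fin.cons z y : Fin (R + 1) → L))

theorem z_mem_CC : z ∈ CC k y z := Algebra.subset_adjoin ⟨0, rfl⟩

theorem y_mem_CC (i : Fin R) : y i ∈ CC k y z := Algebra.subset_adjoin ⟨i.succ, by simp⟩

theorem adjoin_le_CC : Algebra.adjoin k (Set.range y) ≤ CC k y z := by
  refine Algebra.adjoin_le ?_
  rintro _ ⟨i, rfl⟩
  exact y_mem_CC i

theorem mem_CC_of_mem {x : L} (hx : x ∈ Algebra.adjoin (Algebra.adjoin k (Set.range y)) {z}) : x ∈ CC k y z := by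
  induction hx using Algebra.adjoin_induction with
  | mem x hx =>
    rw [Set.mem_singleton_iff] at hx
    rw [hx]
    exact z_mem_CC
  | algebraMap r => exact adjoin_le_CC r.2
  | add x x' _ _ h h' => exact add_mem h h'
  | mul x x' _ _ h h' => exact mul_mem h h'

theorem CC_le (hyb : ∀ i, y i ∈ Submodule.span k (Set.range b)) (hzb : z ∈ Submodule.span k (Set.range b)) :
    CC k y z ≤ Algebra.adjoin k (Set.range b) := by
  refine Algebra.adjoin_le ?_
  rintro _ ⟨i, rfl⟩
  refine Fin.cases ?_ (fun i => ?_) i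
  · exact mem_adjoin_of_span b hzb
  · exact mem_adjoin_of_span b (hyb i)

variable (hy : AlgebraicIndependent k y)

/-- The derivative of the minimal polynomial as a polynomial in `R + 1` variables -/
noncomputable def GZ (z : L) : MvPolynomial (Fin (R + 1)) k :=
  (finSuccEquiv k R).symm (Polynomial.derivative (mp hy z))

theorem aeval_GZ (z : L) : aeval (Fin.cons z y : Fin (R + 1) → L) (GZ hy z) =
    Polynomial.aeval z (Polynomial.derivative (minpoly (Algebra.adjoin k (Set.range y)) z)) := by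
  rw [aeval_eq_eval₂, GZ, AlgEquiv.apply_symm_apply]
  simp only [Fin.cons_succ, Fin.cons_zero]
  rw [mp, Polynomial.derivative_map, Polynomial.eval₂_map, aeval_comp_symm, ← Polynomial.aeval_def]

theorem eval_GZ (z : L) (η : Fin R → k) (ζ : k) :
    eval (Fin.cons ζ η : Fin (R + 1) → k) (GZ hy z) =
      (Polynomial.derivative ((mp hy z).map (eval η))).eval ζ := by
  rw [eval_eq_eval_mv_eval', GZ, AlgEquiv.apply_symm_apply, Polynomial.derivative_map]

/-- the different element -/
noncomputable def hh (z : L) : CC k y z :=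
  ⟨Polynomial.aeval z (Polynomial.derivative (minpoly (Algebra.adjoin k (Set.range y)) z)), by
    rw [← aeval_GZ hy]
    exact aeval_mem_adjoin _ _⟩

theorem norm_CC (hN : Norm k b y) (hzb : z ∈ Submodule.span k (Set.range b)) :
    Norm k (Fin.cons z y : Fin (R + 1) → L) y where
  mem i := Submodule.subset_span ⟨i.succ, by simp⟩
  int j := by
    refine Fin.cases ?_ (fun i => ?_) j
    · exact isIntegral_of_span hN hzb
    · exact isIntegral_of_span hN (hN.mem i)
  sep := hN.sep

theorem DB_CC {d : ℕ} (hDB : DB k b R d) (hyb : ∀ i, y i ∈ Submodule.span k (Set.range b))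
    (hzb : z ∈ Submodule.span k (Set.range b)) : DB k (Fin.cons z y : Fin (R + 1) → L) R d := by
  intro w hw hind
  refine hDB w (fun i => ?_) hind
  have h : Submodule.span k (Set.range (Fin.cons z y : Fin (R + 1) → L)) ≤ Submodule.span k (Set.range b) := by
    rw [Submodule.span_le]
    rintro _ ⟨i, rfl⟩
    refine Fin.cases ?_ (fun i => ?_) i
    · exact hzb
    · exact hyb i
  exact h (hw i)

/-- The value of the derivative at a point of any algebra containing `k[y, z]`. -/
theorem point_hh {B : Subalgebra k L} (hB : CC k y z ≤ B) (χ : B →ₐ[k] k) :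
    χ (Subalgebra.inclusion hB (hh hy z)) =
      (Polynomial.derivative ((mp hy z).map (eval (fun i => χ ⟨y i, hB (y_mem_CC i)⟩)))).eval
        (χ ⟨z, hB z_mem_CC⟩) := by
  rw [← eval_GZ hy]
  let w : Fin (R + 1) → B := Fin.cons ⟨z, hB z_mem_CC⟩ (fun i => ⟨y i, hB (y_mem_CC i)⟩)
  have hw : (fun i => (w i : L)) = (Fin.cons z y : Fin (R + 1) → L) := by
    funext i
    refine Fin.cases ?_ (fun i => ?_) i
    · simp [w]
    · simp [w]
  have h1 : B.val.comp (aeval w) = aeval (Fin.cons z y : Fin (R + 1) → L) := by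
    rw [← hw]
    ext i; simp
  have h2 : aeval w (GZ hy z) = Subalgebra.inclusion hB (hh hy z) := by
    apply Subtype.ext
    have h3 := DFunLike.congr_fun h1 (GZ hy z)
    rw [aeval_GZ] at h3
    exact h3
  rw [← h2]
  have h4 : χ.comp (aeval w) = aeval (fun i => χ (w i)) := by
    ext i; simp
  have h5 := DFunLike.congr_fun h4 (GZ hy z)
  rw [AlgHom.comp_apply] at h5
  rw [h5, aeval_eq_eval]
  congr 2
  funext i
  refine Fin.cases ?_ (fun i => ?_) i
  · simp [w]
  · simp [w]

theorem point_root {B : Subalgebra k L} (hB : CC k y z ≤ B) (χ : B →ₐ[k] k) :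
    ((mp hy z).map (eval (fun i => χ ⟨y i, hB (y_mem_CC i)⟩))).eval (χ ⟨z, hB z_mem_CC⟩) = 0 := by
  rw [← eval_FZ hy]
  let w : Fin (R + 1) → B := Fin.cons ⟨z, hB z_mem_CC⟩ (fun i => ⟨y i, hB (y_mem_CC i)⟩)
  have hw : (fun i => (w i : L)) = (Fin.cons z y : Fin (R + 1) → L) := by
    funext i
    refine Fin.cases ?_ (fun i => ?_) i
    · simp [w]
    · simp [w]
  have h1 := eval_point χ w (FZ hy z) (by rw [hw]; exact aeval_FZ hy)
  rw [← h1]
  congr 2
  funext i
  refine Fin.cases ?_ (fun i => ?_) i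
  · simp [w]
  · simp [w]

/-- the discriminant -/
noncomputable def disc (z : L) : MvPolynomial (Fin R) k :=
  Polynomial.resultant (mp hy z) (Polynomial.derivative (mp hy z)) (mp hy z).natDegree ((mp hy z).natDegree - 1)

variable {d : ℕ}

theorem natDegree_mp_pos (hz : IsIntegral (Algebra.adjoin k (Set.range y)) z) : 1 ≤ (mp hy z).natDegree := by
  rw [natDegree_mp hy hz]
  exact minpoly.natDegree_pos hz

/-- If `h` vanishes at a point then so does the discriminant. -/
theorem disc_eq_zero (hz : IsIntegral (Algebra.adjoin k (Set.range y)) z)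
    {B : Subalgebra k L} (hB : CC k y z ≤ B) (χ : B →ₐ[k] k)
    (hχ : χ (Subalgebra.inclusion hB (hh hy z)) = 0) :
    eval (fun i => χ ⟨y i, hB (y_mem_CC i)⟩) (disc hy z) = 0 := by
  by_contra hne
  have h1 := ResDeg.squarefree_of_disc_ne_zero (mp hy z) (monic_mp hy hz) _ rfl (natDegree_mp_pos hy hz)
    (eval (fun i => χ ⟨y i, hB (y_mem_CC i)⟩)) hne
  rw [point_hh] at hχ
  have h2 := point_root hy hB χ
  obtain ⟨p, q, hpq⟩ := h1
  have h3 := congrArg (Polynomial.eval (χ ⟨z, hB z_mem_CC⟩)) hpq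
  rw [Polynomial.eval_add, Polynomial.eval_mul, Polynomial.eval_mul, h2, hχ, mul_zero, mul_zero, add_zero,
    Polynomial.eval_one] at h3
  exact zero_ne_one h3

theorem disc_ne_zero (hN : Norm k b y) (hz : IsIntegral (Algebra.adjoin k (Set.range y)) z) : disc hy z ≠ 0 := by
  have hsep := hN.sep
  refine ResDeg.disc_ne_zero (mp hy z) (monic_mp hy hz) _ rfl (natDegree_mp_pos hy hz)
    ((aeval y : MvPolynomial (Fin R) k →ₐ[k] L) : MvPolynomial (Fin R) k →+* L) ?_
  have := isIntegrallyClosed_adjoin hy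
  open scoped IntermediateField.algebraAdjoinAdjoin in
  have h4 : minpoly (M k y) z = (minpoly (Algebra.adjoin k (Set.range y)) z).map
      (algebraMap (Algebra.adjoin k (Set.range y)) (M k y)) :=
    minpoly.isIntegrallyClosed_eq_field_fractions' _ hz
  have h5 : (mp hy z).map ((aeval y : MvPolynomial (Fin R) k →ₐ[k] L) : MvPolynomial (Fin R) k →+* L) =
      (minpoly (M k y) z).map (algebraMap (M k y) L) := by
    rw [h4, mp, Polynomial.map_map, aeval_comp_symm, Polynomial.map_map]
    rfl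
  rw [h5]
  have h6 : (minpoly (M k y) z).Separable := Algebra.IsSeparable.isSeparable (M k y) z
  exact h6.map

theorem totalDegree_disc_le (hDB : DB k b R d) (hN : Norm k b y) (hzb : z ∈ Submodule.span k (Set.range b)) :
    (disc hy z).totalDegree ≤ (2 * d - 1) * d := by
  have hz := isIntegral_of_span hN hzb
  have h1 : ∀ i, ((mp hy z).coeff i).totalDegree ≤ d := by
    intro i
    by_cases h0 : (mp hy z).coeff i = 0
    · rw [h0, totalDegree_zero]; exact Nat.zero_le _
    · have h2 := totalDegree_coeff_finSuccEquiv_add_le (FZ hy z) i (by rw [finSuccEquiv_FZ]; exact h0)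
      rw [finSuccEquiv_FZ] at h2
      have h3 := totalDegree_FZ hy hz hDB hN.mem hzb
      omega
  have h2 := ResDeg.degFun_totalDegree.disc_le (mp hy z) (mp hy z).natDegree (natDegree_mp_pos hy hz) d h1
  have h3 := natDegree_mp_le hy hz hDB hN.mem hzb
  refine h2.trans ?_
  gcongr

/-- Points where the different vanishes. -/
theorem card_bad_le [Finite k] {B : Fin N → L} (hN : Norm k B y) (hDB : DB k B R d)
    (hzb : z ∈ Submodule.span k (Set.range B))
    (hq : (d + 1) * (d + 1) < Nat.card k) (hB : CC k y z ≤ Algebra.adjoin k (Set.range B)) :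
    Nat.card {χ : Algebra.adjoin k (Set.range B) →ₐ[k] k // χ (Subalgebra.inclusion hB (hh hy z)) = 0} ≤
      d * Nat.card {η : Fin R → k // eval η (disc hy z) = 0} := by
  have hz := isIntegral_of_span hN hzb
  have := finite_hom (k := k) B
  refine le_trans ?_ (card_le_of_image hN hy hDB hq {η | eval η (disc hy z) = 0})
  refine Nat.card_le_card_of_injective
    (fun χ => ⟨χ.1, disc_eq_zero hy hz hB χ.1 χ.2⟩) ?_
  intro χ χ' h
  exact Subtype.ext (congrArg (fun x => x.1) h)

theorem card_split {α : Type*} [Finite α] (p : α → Prop) :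
    Nat.card α = Nat.card {a // ¬ p a} + Nat.card {a // p a} := by
  classical
  rw [← Nat.card_congr (Equiv.sumCompl p), Nat.card_sum, add_comm]

/-- Comparison of the number of points with that of the hypersurface. -/
theorem compare [Finite k] (hb : IntermediateField.adjoin k (Set.range b) = ⊤) (hN : Norm k b y)
    (hDB : DB k b R d) (hq : (d + 1) * (d + 1) < Nat.card k) :
    ∃ z : L, z ∈ Submodule.span k (Set.range b) ∧ 
      |(Nat.card (Algebra.adjoin k (Set.range b) →ₐ[k] k) : ℝ) -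
        Nat.card {v : Fin (R + 1) → k // eval v (FZ hy z) = 0}| ≤
        d * Nat.card {η : Fin R → k // eval η (disc hy z) = 0} ∧ disc hy z ≠ 0 := by
  obtain ⟨z, hzb, hz⟩ := exists_primitive hb hy hN hDB hq
  have hzi := isIntegral_of_span hN hzb
  have hle := CC_le hN.mem hzb
  refine ⟨z, hzb, ?_, disc_ne_zero hy hN hzi⟩
  have hfd := finiteDimensional hb hN
  have hsep := hN.sep
  have hic := isIntegrallyClosed_adjoin hy
  have hztop : Algebra.adjoin (M k y) {z} = ⊤ := by
    have h1 : IsAlgebraic (M k y) z := (Algebra.IsAlgebraic.isAlgebraic z)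
    have h2 := IntermediateField.adjoin_simple_toSubalgebra_of_isAlgebraic h1
    rw [← h2, hz]
    rfl
  have hcond : ∀ x ∈ Algebra.adjoin k (Set.range b), ((hh hy z : CC k y z) : L) * x ∈ CC k y z := by
    intro x hx
    open scoped IntermediateField.algebraAdjoinAdjoin in
    exact mem_CC_of_mem (deriv_mul_mem (Algebra.adjoin k (Set.range y)) (M k y) hztop hzi
      (isIntegral_of_mem hN hx))
  have h1 := card_away_eq hle (hh hy z) hcond
  have f1 := finite_hom (k := k) b
  have f2 := finite_hom (k := k) (Fin.cons z y : Fin (R + 1) → L)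
  have s1 := card_split (α := Algebra.adjoin k (Set.range b) →ₐ[k] k)
    (fun χ => χ (Subalgebra.inclusion hle (hh hy z)) = 0)
  have s2 := card_split (α := CC k y z →ₐ[k] k) (fun ψ => ψ (hh hy z) = 0)
  have b1 := card_bad_le hy hN hDB hzb hq hle
  have b2 := card_bad_le (B := (Fin.cons z y : Fin (R + 1) → L)) hy (norm_CC hN hzb) (DB_CC hDB hN.mem hzb)
    (Submodule.subset_span ⟨0, rfl⟩) hq le_rfl
  have b2' : Nat.card {ψ : CC k y z →ₐ[k] k // ψ (hh hy z) = 0} ≤
      d * Nat.card {η : Fin R → k // eval η (disc hy z) = 0} := b2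
  have e1 : Nat.card (CC k y z →ₐ[k] k) = Nat.card {v : Fin (R + 1) → k // eval v (FZ hy z) = 0} :=
    Nat.card_congr (ptsEquiv (Fin.cons z y : Fin (R + 1) → L) (FZ hy z) (aeval_FZ hy)
      (fun G hG => FZ_dvd hy hzi G hG))
  rw [← e1, s1, s2]
  have h1' : Nat.card {a : Algebra.adjoin k (Set.range b) →ₐ[k] k // ¬ a (Subalgebra.inclusion hle (hh hy z)) = 0} =
    Nat.card {a : CC k y z →ₐ[k] k // ¬ a (hh hy z) = 0} := h1
  rw [h1']
  have b1r : (Nat.card {χ : Algebra.adjoin k (Set.range b) →ₐ[k] k // χ (Subalgebra.inclusion hle (hh hy z)) = 0} : ℝ) ≤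
      d * Nat.card {η : Fin R → k // eval η (disc hy z) = 0} := by exact_mod_cast b1
  have b2r : (Nat.card {ψ : CC k y z →ₐ[k] k // ψ (hh hy z) = 0} : ℝ) ≤
      d * Nat.card {η : Fin R → k // eval η (disc hy z) = 0} := by exact_mod_cast b2'
  have p1 : (0 : ℝ) ≤ Nat.card {χ : Algebra.adjoin k (Set.range b) →ₐ[k] k // χ (Subalgebra.inclusion hle (hh hy z)) = 0} :=
    Nat.cast_nonneg _
  have p2 : (0 : ℝ) ≤ Nat.card {ψ : CC k y z →ₐ[k] k // ψ (hh hy z) = 0} := Nat.cast_nonneg _
  push_cast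
  rw [abs_le]
  constructor <;> linarith

/-- **The sharp Lang–Weil estimate** for affine varieties. -/
theorem sharp_aff (N R d : ℕ) (hR : 1 ≤ R) (hd : 1 ≤ d) : ∃ A : ℝ, 0 ≤ A ∧ ∀ (k : Type u) [Field k] [Finite k]
    (L : Type v) [Field L] [Algebra k L] (b : Fin N → L), IntermediateField.adjoin k (Set.range b) = ⊤ →
    Algebra.trdeg k L = R → DB k b R d → IsDomain (AlgebraicClosure k ⊗[k] L) →
    |(Nat.card (Algebra.adjoin k (Set.range b) →ₐ[k] k) : ℝ) - (Nat.card k : ℝ) ^ R| ≤
      ((d : ℝ) - 1) * (d - 2) * ((Nat.card k : ℝ) ^ (R - 1) * Real.sqrt (Nat.card k)) +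
        A * (Nat.card k : ℝ) ^ (R - 1) := by
  obtain ⟨A₀, hA₀, hsharp⟩ := SharpHyp.sharp_hyp.{u} R hR d hd
  set Q : ℝ := (((d + 1) * (d + 1) : ℕ) : ℝ) with hQ
  have hQ0 : 0 ≤ Q := Nat.cast_nonneg _
  refine ⟨A₀ + d * ((2 * d - 1 : ℕ) * d) + Q ^ N + Q ^ R, by positivity, ?_⟩
  intro k _ _ L _ _ b hb hRk hDB hdom
  set q : ℝ := (Nat.card k : ℝ) with hq
  have hq1 : (1 : ℝ) ≤ q := by
    have := Finite.one_lt_card (α := k)
    rw [hq]
    exact_mod_cast this.le
  have hq0 : 0 < q := by linarith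
  have hqR : (1 : ℝ) ≤ q ^ (R - 1) := one_le_pow₀ hq1
  have hdd : (0 : ℝ) ≤ ((d : ℝ) - 1) * (d - 2) := by
    rcases Nat.lt_or_ge d 2 with h | h
    · have : d = 1 := by omega
      subst this; norm_num
    · have : (2 : ℝ) ≤ d := by exact_mod_cast h
      nlinarith
  have hmain0 : (0 : ℝ) ≤ ((d : ℝ) - 1) * (d - 2) * (q ^ (R - 1) * Real.sqrt q) := by positivity
  by_cases hbig : (d + 1) * (d + 1) < Nat.card k
  · obtain ⟨y, hN, hy⟩ := exists_norm b hb hRk hDB (by nlinarith)
    obtain ⟨z, hzb, hcmp, hdisc⟩ := compare hy hb hN hDB hbig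
    have hzi := isIntegral_of_span hN hzb
    have hirr : Irreducible (map (algebraMap k (AlgebraicClosure k)) (FZ hy z)) :=
      AbsIrr.irreducible_map_of_isDomain (Fin.cons z y : Fin (R + 1) → L) (FZ hy z) (irreducible_FZ hy hzi)
        (aeval_FZ hy) (fun G hG => FZ_dvd hy hzi G hG)
    have h1 := hsharp k (FZ hy z) (totalDegree_FZ hy hzi hDB hN.mem hzb) hirr
    have h2 := card_zeros_mul_le (disc hy z) hdisc
    have h3 := totalDegree_disc_le hy hDB hN hzb
    have h4 : (Nat.card {η : Fin R → k // eval η (disc hy z) = 0} : ℝ) ≤ ((2 * d - 1 : ℕ) * d) * q ^ (R - 1) := by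
      have h5 : (Nat.card {η : Fin R → k // eval η (disc hy z) = 0} : ℝ) * q ≤
          ((2 * d - 1 : ℕ) * d) * q ^ R := by
        have h6 : Nat.card {η : Fin R → k // eval η (disc hy z) = 0} * Nat.card k ≤
            (2 * d - 1) * d * Nat.card k ^ R := h2.trans (Nat.mul_le_mul_right _ h3)
        rw [hq]
        exact_mod_cast h6
      obtain ⟨R', rfl⟩ : ∃ R', R = R' + 1 := ⟨R - 1, by omega⟩
      rw [Nat.add_sub_cancel]
      rw [pow_succ, ← mul_assoc] at h5
      exact le_of_mul_le_mul_right h5 hq0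
    have h7 : |(Nat.card (Algebra.adjoin k (Set.range b) →ₐ[k] k) : ℝ) - q ^ R| ≤
        d * Nat.card {η : Fin R → k // eval η (disc hy z) = 0} +
        (((d : ℝ) - 1) * (d - 2) * (q ^ (R - 1) * Real.sqrt q) + A₀ * q ^ (R - 1)) := by
      have h8 := abs_sub_le (Nat.card (Algebra.adjoin k (Set.range b) →ₐ[k] k) : ℝ)
        (Nat.card {v : Fin (R + 1) → k // eval v (FZ hy z) = 0} : ℝ) (q ^ R)
      exact h8.trans (add_le_add hcmp h1)
    refine h7.trans ?_
    have h9 : (d : ℝ) * Nat.card {η : Fin R → k // eval η (disc hy z) = 0} ≤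
        d * (((2 * d - 1 : ℕ) * d) * q ^ (R - 1)) := mul_le_mul_of_nonneg_left h4 (Nat.cast_nonneg d)
    have h10 : (0 : ℝ) ≤ (Q ^ N + Q ^ R) * q ^ (R - 1) := by positivity
    nlinarith [h9, h10]
  · push Not at hbig
    have hqQ : q ≤ Q := by rw [hq, hQ]; exact_mod_cast hbig
    have h1 : (Nat.card (Algebra.adjoin k (Set.range b) →ₐ[k] k) : ℝ) ≤ q ^ N := by
      rw [hq]
      exact_mod_cast card_hom_le (k := k) b
    have h2 : q ^ N ≤ Q ^ N := pow_le_pow_left₀ hq0.le hqQ N
    have h3 : q ^ R ≤ Q ^ R := pow_le_pow_left₀ hq0.le hqQ R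
    have h4 : |(Nat.card (Algebra.adjoin k (Set.range b) →ₐ[k] k) : ℝ) - q ^ R| ≤ Q ^ N + Q ^ R := by
      have p1 : (0 : ℝ) ≤ Nat.card (Algebra.adjoin k (Set.range b) →ₐ[k] k) := Nat.cast_nonneg _
      have p2 : (0 : ℝ) ≤ q ^ R := by positivity
      rw [abs_le]
      constructor <;> linarith
    refine h4.trans ?_
    have h5 : (Q ^ N + Q ^ R) * 1 ≤ (Q ^ N + Q ^ R) * q ^ (R - 1) :=
      mul_le_mul_of_nonneg_left hqR (by positivity)
    have h6 : (0 : ℝ) ≤ (A₀ + d * ((2 * d - 1 : ℕ) * d)) * q ^ (R - 1) := by positivity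
    nlinarith [h5, h6]

end K467.AffSharp
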