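import Groth.Agent.Zeta.K466.Basic
import Groth.Agent.VarietyB.BaseExt3
import Mathlib.AlgebraicGeometry.AlgClosed.Basic

/-!
# Cardinalities of fibres of `X_{k̄} → X`

* `natCard_fibre`: for `k` perfect, `K` an algebraic closure and `x ∈ X` closed, the number of points
  of `X_K` over `x` is `[κ(x) : k]`;
* `finsum_comp`: `∑ᶠ y, c (P y) = ∑ᶠ x, c x * #P⁻¹(x)`.
-/

set_option autoImplicit false
universe u

open CategoryTheory CategoryTheory.Limits AlgebraicGeometry
open Groth.Agent.MiscA Groth.Agent.MiscA.PointCount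

namespace K467.FibreCard

theorem finsum_comp {Y X : Type*} (P : Y → X) (c : X → ℕ) (hc : (Function.support c).Finite)
    (hfin : ∀ x, c x ≠ 0 → (P ⁻¹' {x}).Finite) :
    ∑ᶠ y, c (P y) = ∑ᶠ x, c x * Nat.card (P ⁻¹' {x}) := by
  classical
  have hsub : Function.support (fun y => c (P y)) = ⋃ x ∈ Function.support c, P ⁻¹' {x} := by
    ext y
    simp
  have hf2 : (Function.support (fun y => c (P y))).Finite := by
    rw [hsub]
    exact hc.biUnion fun x hx => hfin x hx
  rw [finsum_eq_sum_of_support_subset (s := hf2.toFinset) _ (by simp),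
    finsum_eq_sum_of_support_subset (s := hc.toFinset) _ (by
      intro x hx
      simp only [Set.Finite.coe_toFinset, Function.mem_support] at hx ⊢
      intro h; rw [h, zero_mul] at hx; exact hx rfl)]
  rw [← Finset.sum_fiberwise_of_maps_to (s := hf2.toFinset) (t := hc.toFinset) (g := P)
    (by intro y hy; simpa using hy)]
  refine Finset.sum_congr rfl fun x hx => ?_
  have hx' : c x ≠ 0 := by simpa using hx
  have h1 : ∀ y ∈ hf2.toFinset.filter (fun y => P y = x), c (P y) = c x := by
    intro y hy
    rw [(Finset.mem_filter.mp hy).2]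
  rw [Finset.sum_congr rfl h1, Finset.sum_const, smul_eq_mul, mul_comm]
  congr 1
  have h2 : (P ⁻¹' {x}) = ((hf2.toFinset.filter (fun y => P y = x) : Finset Y) : Set Y) := by
    ext y
    simp only [Set.mem_preimage, Set.mem_singleton_iff, Finset.coe_filter, Set.Finite.mem_toFinset,
      Function.mem_support, Set.mem_ofPred_eq]
    constructor
    · intro h; exact ⟨by rw [h]; exact hx', h⟩
    · intro h; exact h.2
  rw [h2, Nat.card_eq_card_toFinset]
  simp

section

variable (k : Type u) [Field k] (X : Scheme.{u}) [X.Over (Spec (CommRingCat.of k))]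
  (K : Type u) [Field K] [Algebra k K]

theorem galAct_comp_symm (σ : K ≃ₐ[k] K) :
    Curv2.galAct k X K σ ≫ Curv2.galAct k X K σ.symm = 𝟙 _ := by
  apply pullback.hom_ext
  · rw [Category.assoc]
    erw [Groth.Agent.VarietyB.BaseExt3.galAct_fst k X K σ.symm,
      Groth.Agent.VarietyB.BaseExt3.galAct_fst k X K σ]
    exact (Category.id_comp _).symm
  · rw [Category.assoc]
    erw [Groth.Agent.VarietyB.BaseExt3.galAct_snd k X K σ.symm]
    rw [← Category.assoc]
    erw [Groth.Agent.VarietyB.BaseExt3.galAct_snd k X K σ]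
    rw [Category.assoc, ← Spec.map_comp, ← CommRingCat.ofHom_comp]
    have : (σ : K →ₐ[k] K).toRingHom.comp (σ.symm : K →ₐ[k] K).toRingHom = RingHom.id K := by
      ext x
      exact σ.apply_symm_apply x
    rw [this]
    simp

theorem isClosed_galAct (σ : K ≃ₐ[k] K) (y : Curv2.bc k X K)
    (h : IsClosed ({y} : Set (Curv2.bc k X K))) :
    IsClosed ({Curv2.galAct k X K σ y} : Set (Curv2.bc k X K)) := by
  have h1 := galAct_comp_symm k X K σ
  have h2 := galAct_comp_symm k X K σ.symm
  rw [AlgEquiv.symm_symm] at h2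
  have : IsIso (Curv2.galAct k X K σ) := ⟨_, h1, h2⟩
  have h3 := ((Curv2.galAct k X K σ).homeomorph.isClosedMap) _ h
  rwa [Set.image_singleton] at h3

/-- Points of `X_K` over a closed point of `X` are closed. -/
theorem isClosed_of_isClosed_fst [LocallyOfFiniteType (X ↘ Spec (CommRingCat.of k))]
    [QuasiCompact (X ↘ Spec (CommRingCat.of k))] [IsGalois k K] (y : Curv2.bc k X K)
    (h : IsClosed ({Curv2.bcFst k X K y} : Set X)) : IsClosed ({y} : Set (Curv2.bc k X K)) := by
  have hcs : CompactSpace (Curv2.bc k X K) := by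
    have : CompactSpace (Spec (CommRingCat.of K)) := inferInstance
    have : QuasiCompact (Curv2.bcSnd k X K) := by
      unfold Curv2.bcSnd; infer_instance
    exact QuasiCompact.compactSpace_of_compactSpace (Curv2.bcSnd k X K)
  have hne : (closure ({y} : Set (Curv2.bc k X K))).Nonempty := ⟨y, subset_closure rfl⟩
  obtain ⟨z, hz, hzc⟩ := IsClosed.exists_closed_singleton
    (S := closure ({y} : Set (Curv2.bc k X K))) isClosed_closure hne
  have hsub : closure ({y} : Set (Curv2.bc k X K)) ⊆
      Curv2.bcFst k X K ⁻¹' {Curv2.bcFst k X K y} := by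
    apply closure_minimal
    · intro w hw; rw [hw]; rfl
    · exact h.preimage (Curv2.bcFst k X K).continuous
  have hz' : Curv2.bcFst k X K z = Curv2.bcFst k X K y := hsub hz
  obtain ⟨σ, hσ⟩ := Groth.Agent.VarietyB.BaseExt3.exists_galAct_eq k X K z y hz'
  rw [← hσ]
  exact isClosed_galAct k X K σ z hzc

/-- The points of `X_K` over a closed point `x` are the embeddings of `κ(x)` in `K`. -/
noncomputable def fibreEquiv [LocallyOfFiniteType (X ↘ Spec (CommRingCat.of k))]
    [QuasiCompact (X ↘ Spec (CommRingCat.of k))] [IsAlgClosed K] [IsGalois k K] (x : X)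
    (hx : IsClosed ({x} : Set X)) :
    (Curv2.bcFst k X K ⁻¹' {x} : Set (Curv2.bc k X K)) ≃
      { φ : X.residueField x →+* K //
        φ.comp (resHom (X ↘ Spec (CommRingCat.of k)) x) = algebraMap k K } := by
  have : LocallyOfFiniteType (Curv2.bcSnd k X K) := by unfold Curv2.bcSnd; infer_instance
  -- sections of `X_K` over `x`
  let A := {g : Spec (CommRingCat.of K) ⟶ X //
    g ≫ (X ↘ Spec (CommRingCat.of k)) = Spec.map (CommRingCat.ofHom (algebraMap k K))}
  let e1 : {p : Spec (CommRingCat.of K) ⟶ Curv2.bc k X K // p ≫ Curv2.bcSnd k X K = 𝟙 _} ≃ A :=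
    { toFun := fun p => ⟨p.1 ≫ Curv2.bcFst k X K, by
        rw [Category.assoc]
        have := pullback.condition (f := X ↘ Spec (CommRingCat.of k))
          (g := Spec.map (CommRingCat.ofHom (algebraMap k K)))
        erw [this]
        rw [← Category.assoc]
        erw [p.2]
        rw [Category.id_comp]⟩
      invFun := fun g => ⟨pullback.lift g.1 (𝟙 _) (by rw [g.2, Category.id_comp]),
        pullback.lift_snd _ _ _⟩
      left_inv := fun p => by
        apply Subtype.ext
        apply pullback.hom_ext
        · exact pullback.lift_fst _ _ _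
        · rw [pullback.lift_snd]; exact p.2.symm
      right_inv := fun g => by
        apply Subtype.ext
        exact pullback.lift_fst _ _ _ }
  let e2 : {p : {p : Spec (CommRingCat.of K) ⟶ Curv2.bc k X K // p ≫ Curv2.bcSnd k X K = 𝟙 _} //
      Curv2.bcFst k X K (p.1 (IsLocalRing.closedPoint K)) = x} ≃
      (Curv2.bcFst k X K ⁻¹' {x} : Set (Curv2.bc k X K)) :=
    { toFun := fun p => ⟨p.1.1 (IsLocalRing.closedPoint K), p.2⟩
      invFun := fun y => ⟨(pointEquivClosedPoint (Curv2.bcSnd k X K)).symm ⟨y.1,
        isClosed_of_isClosed_fst k X K y.1 (by rw [show _ = x from y.2]; exact hx)⟩, by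
          have h := congrArg Subtype.val
            ((pointEquivClosedPoint (Curv2.bcSnd k X K)).apply_symm_apply ⟨y.1,
            isClosed_of_isClosed_fst k X K y.1 (by rw [show _ = x from y.2]; exact hx)⟩)
          rw [pointEquivClosedPoint_apply_coe] at h
          rw [h]; exact y.2⟩
      left_inv := fun p => by
        apply Subtype.ext
        exact (pointEquivClosedPoint (Curv2.bcSnd k X K)).symm_apply_apply p.1
      right_inv := fun y => by
        apply Subtype.ext
        have h := congrArg Subtype.val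
            ((pointEquivClosedPoint (Curv2.bcSnd k X K)).apply_symm_apply ⟨y.1,
            isClosed_of_isClosed_fst k X K y.1 (by rw [show _ = x from y.2]; exact hx)⟩)
        rw [pointEquivClosedPoint_apply_coe] at h
        exact h }
  let e3 : {p : {p : Spec (CommRingCat.of K) ⟶ Curv2.bc k X K // p ≫ Curv2.bcSnd k X K = 𝟙 _} //
      Curv2.bcFst k X K (p.1 (IsLocalRing.closedPoint K)) = x} ≃
      {g : A // g.1 (IsLocalRing.closedPoint K) = x} :=
    e1.subtypeEquiv (fun p => Iff.rfl)
  let e4 : {g : A // g.1 (IsLocalRing.closedPoint K) = x} ≃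
      {s : Σ x' : X, { φ : X.residueField x' →+* K //
        φ.comp (resHom (X ↘ Spec (CommRingCat.of k)) x') = algebraMap k K } // s.1 = x} :=
    (pointEquiv (X ↘ Spec (CommRingCat.of k)) K).subtypeEquiv (fun g => Iff.rfl)
  exact e2.symm.trans (e3.trans (e4.trans (Equiv.sigmaSubtype x)))

theorem natCard_fibre [LocallyOfFiniteType (X ↘ Spec (CommRingCat.of k))]
    [QuasiCompact (X ↘ Spec (CommRingCat.of k))] [PerfectField k] [IsAlgClosed K] [IsGalois k K] (x : X)
    (hx : IsClosed ({x} : Set X)) :
    Nat.card (Curv2.bcFst k X K ⁻¹' {x} : Set (Curv2.bc k X K)) =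
      EGA4loc.residueDegree (X ↘ Spec (CommRingCat.of k)) x := by
  rw [Nat.card_congr (fibreEquiv k X K x hx), ← K466.Basic.degree_eq_residueDegree]
  have hpos := WCCount.degree_pos (X ↘ Spec (CommRingCat.of k)) x hx
  unfold PointCount.degree at hpos ⊢
  let _ := (resHom (X ↘ Spec (CommRingCat.of k)) x).toAlgebra
  have hfd : FiniteDimensional k (X.residueField x) := FiniteDimensional.of_finrank_pos hpos
  have e : { φ : X.residueField x →+* K //
        φ.comp (resHom (X ↘ Spec (CommRingCat.of k)) x) = algebraMap k K } ≃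
      (X.residueField x →ₐ[k] K) :=
    { toFun := fun φ => { toRingHom := φ.1, commutes' := fun r => RingHom.congr_fun φ.2 r }
      invFun := fun φ => ⟨φ.toRingHom, RingHom.ext fun r => φ.commutes r⟩
      left_inv := fun φ => rfl
      right_inv := fun φ => rfl }
  rw [Nat.card_congr e]
  have h1 : Algebra.IsSeparable k (X.residueField x) := inferInstance
  have h2 := AlgHom.natCard_of_splits k (X.residueField x) K (fun s => IsAlgClosed.splits _)
  exact h2

theorem finite_fibre [LocallyOfFiniteType (X ↘ Spec (CommRingCat.of k))]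
    [QuasiCompact (X ↘ Spec (CommRingCat.of k))] [PerfectField k] [IsAlgClosed K] [IsGalois k K] (x : X)
    (hx : IsClosed ({x} : Set X)) :
    (Curv2.bcFst k X K ⁻¹' {x} : Set (Curv2.bc k X K)).Finite := by
  have h := natCard_fibre k X K x hx
  have h2 := K466.Basic.residueDegree_pos (X ↘ Spec (CommRingCat.of k)) x hx
  rw [← h] at h2
  exact (Nat.card_pos_iff.mp h2).2

end

end K467.FibreCard
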