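import Mathlib.FieldTheory.IsAlgClosed.AlgebraicClosure
import Mathlib.RingTheory.MvPolynomial.Basic
import Mathlib.RingTheory.Localization.FractionRing
import Mathlib.Algebra.MvPolynomial.Basic
import Mathlib.RingTheory.Polynomial.UniqueFactorization
import Mathlib.LinearAlgebra.Dual.Lemmas
import Mathlib.FieldTheory.IsAlgClosed.Basic

/-!
# Absolutely irreducible polynomials
-/

set_option autoImplicit false
open MvPolynomial

namespace K467.AbsIrr

universe u v

section

variable {k : Type u} [Field k] {L : Type v} [Field L] [Algebra k L] {σ : Type*}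

/-- Coefficientwise application of a functional. -/
noncomputable def lam (l : L →ₗ[k] k) (H : MvPolynomial σ L) : MvPolynomial σ k :=
  H.support.sum fun m => monomial m (l (coeff m H))

theorem coeff_lam (l : L →ₗ[k] k) (H : MvPolynomial σ L) (m : σ →₀ ℕ) :
    coeff m (lam l H) = l (coeff m H) := by
  classical
  unfold lam
  rw [coeff_sum]
  simp only [coeff_monomial]
  rw [Finset.sum_ite_eq']
  split_ifs with h
  · rfl
  · rw [mem_support_iff, not_not] at h
    rw [h, map_zero]

theorem lam_map_mul (l : L →ₗ[k] k) (F : MvPolynomial σ k) (H : MvPolynomial σ L) :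
    lam l (map (algebraMap k L) F * H) = F * lam l H := by
  classical
  ext m
  rw [coeff_lam, coeff_mul, coeff_mul, map_sum]
  refine Finset.sum_congr rfl fun p _ => ?_
  rw [coeff_map, coeff_lam, ← Algebra.smul_def, map_smul, smul_eq_mul]

theorem lam_map (l : L →ₗ[k] k) (A : MvPolynomial σ k) :
    lam l (map (algebraMap k L) A) = C (l 1) * A := by
  ext m
  rw [coeff_lam, coeff_map, coeff_C_mul, Algebra.algebraMap_eq_smul_one, map_smul, smul_eq_mul,
    mul_comm]

theorem lam_C_mul_map (l : L →ₗ[k] k) (a : L) (A : MvPolynomial σ k) :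
    lam l (C a * map (algebraMap k L) A) = C (l a) * A := by
  ext m
  rw [coeff_lam, coeff_C_mul, coeff_map, coeff_C_mul]
  have : a * algebraMap k L (coeff m A) = coeff m A • a := by
    rw [Algebra.smul_def, mul_comm]
  rw [this, map_smul, smul_eq_mul, mul_comm]

theorem lam_sub (l : L →ₗ[k] k) (A B : MvPolynomial σ L) : lam l (A - B) = lam l A - lam l B := by
  ext m
  rw [coeff_lam, coeff_sub, coeff_sub, coeff_lam, coeff_lam, map_sub]

theorem exists_functional_one : ∃ l : L →ₗ[k] k, l 1 = 1 := by
  obtain ⟨l, hl⟩ := Module.Projective.exists_dual_eq_one k (x := (1 : L)) one_ne_zero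
  exact ⟨l, hl⟩

theorem exists_functional_zero {a : L} (ha : a ∉ (algebraMap k L).range) :
    ∃ l : L →ₗ[k] k, l 1 = 0 ∧ l a ≠ 0 := by
  obtain ⟨l, hl, hl2⟩ := Submodule.exists_dual_map_eq_bot_of_notMem (R := k)
    (p := Submodule.span k {(1 : L)}) (x := a) (by
      intro h
      obtain ⟨c, hc⟩ := Submodule.mem_span_singleton.1 h
      apply ha
      exact ⟨c, by rw [← hc, Algebra.smul_def, mul_one]⟩) inferInstance
  refine ⟨l, ?_, hl⟩
  have : l 1 ∈ (Submodule.span k {(1 : L)}).map l := Submodule.mem_map_of_mem (Submodule.mem_span_singleton_self _)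
  rw [hl2] at this
  exact this

theorem dvd_of_map_dvd {F G : MvPolynomial σ k}
    (h : map (algebraMap k L) F ∣ map (algebraMap k L) G) : F ∣ G := by
  obtain ⟨l, hl⟩ := exists_functional_one (k := k) (L := L)
  obtain ⟨H, hH⟩ := h
  refine ⟨lam l H, ?_⟩
  rw [← lam_map_mul, ← hH, lam_map, hl, C_1, one_mul]

theorem isUnit_of_map {F : MvPolynomial σ k} (h : IsUnit (map (algebraMap k L) F)) : IsUnit F := by
  have h1 : map (algebraMap k L) F ∣ map (algebraMap k L) 1 := by
    rw [map_one]; exact h.dvd
  exact isUnit_of_dvd_one (dvd_of_map_dvd h1)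

theorem irreducible_of_map {F : MvPolynomial σ k} (h : Irreducible (map (algebraMap k L) F)) :
    Irreducible F := by
  refine ⟨fun hu => h.not_isUnit (hu.map _), fun a b hab => ?_⟩
  have h1 := h.isUnit_or_isUnit (a := map (algebraMap k L) a) (b := map (algebraMap k L) b)
    (by rw [hab, map_mul])
  exact h1.imp isUnit_of_map isUnit_of_map

end

section frac

variable {k : Type u} [Field k] {σ : Type v}

/-- The function field of the hypersurface `F = 0`. -/
abbrev FF (F : MvPolynomial σ k) : Type (max u v) := FractionRing (MvPolynomial σ k ⧸ Ideal.span {F})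

/-- the coordinates -/
noncomputable def yy (F : MvPolynomial σ k) (i : σ) : FF F :=
  algebraMap (MvPolynomial σ k ⧸ Ideal.span {F}) (FF F) (Ideal.Quotient.mk _ (X i))

variable (F : MvPolynomial σ k)

theorem isPrime [UniqueFactorizationMonoid (MvPolynomial σ k)] (hF : Irreducible F) :
    (Ideal.span {F} : Ideal (MvPolynomial σ k)).IsPrime := by
  rw [Ideal.span_singleton_prime hF.ne_zero]
  exact hF.prime

theorem aeval_yy (G : MvPolynomial σ k) :
    aeval (yy F) G = algebraMap (MvPolynomial σ k ⧸ Ideal.span {F}) (FF F) (Ideal.Quotient.mk _ G) := by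
  have h : ((aeval (yy F) : MvPolynomial σ k →ₐ[k] FF F) : MvPolynomial σ k →+* FF F) =
      (algebraMap (MvPolynomial σ k ⧸ Ideal.span {F}) (FF F)).comp (Ideal.Quotient.mk _) := by
    apply MvPolynomial.ringHom_ext
    · intro r
      simp only [RingHom.coe_coe, aeval_C, RingHom.comp_apply]
      rw [IsScalarTower.algebraMap_apply k (MvPolynomial σ k ⧸ Ideal.span {F}) (FF F)]
      rfl
    · intro i
      simp [yy]
  exact DFunLike.congr_fun h G

theorem aeval_yy_eq_zero_iff (G : MvPolynomial σ k) : aeval (yy F) G = 0 ↔ F ∣ G := by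
  rw [aeval_yy, FaithfulSMul.algebraMap_eq_zero_iff, Ideal.Quotient.eq_zero_iff_mem,
    Ideal.mem_span_singleton]

theorem exists_frac [(Ideal.span {F} : Ideal (MvPolynomial σ k)).IsPrime] (x : FF F) :
    ∃ A B : MvPolynomial σ k, ¬ F ∣ B ∧ x * aeval (yy F) B = aeval (yy F) A := by
  obtain ⟨a, b, hb, rfl⟩ := IsFractionRing.div_surjective (A := MvPolynomial σ k ⧸ Ideal.span {F}) x
  obtain ⟨A, rfl⟩ := Ideal.Quotient.mk_surjective a
  obtain ⟨B, rfl⟩ := Ideal.Quotient.mk_surjective b
  have hB : algebraMap (MvPolynomial σ k ⧸ Ideal.span {F}) (FF F) (Ideal.Quotient.mk _ B) ≠ 0 := by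
    rw [ne_eq, FaithfulSMul.algebraMap_eq_zero_iff]
    exact nonZeroDivisors.ne_zero hb
  refine ⟨A, B, ?_, ?_⟩
  · rw [← aeval_yy_eq_zero_iff, aeval_yy]
    exact hB
  · rw [aeval_yy, aeval_yy, div_mul_cancel₀ _ hB]

/-- The ground field is algebraically closed in the function field of an absolutely irreducible hypersurface. -/
theorem mem_range_of_isAlgebraic {L : Type u} [Field L] [Algebra k L] [IsAlgClosed L] [Algebra.IsAlgebraic k L]
    [UniqueFactorizationMonoid (MvPolynomial σ k)] [UniqueFactorizationMonoid (MvPolynomial σ L)]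
    (hF : Irreducible (map (algebraMap k L) F))
    (x : FF F) (hx : letI := isPrime F (irreducible_of_map hF); IsAlgebraic k x) :
    letI := isPrime F (irreducible_of_map hF)
    ∃ c : k, algebraMap k (FF F) c = x := by
  have hp := isPrime F (irreducible_of_map hF)
  have hp' := isPrime _ hF
  let F' := map (algebraMap k L) F
  let φ : (MvPolynomial σ k ⧸ Ideal.span {F}) →+* (MvPolynomial σ L ⧸ Ideal.span {F'}) :=
    Ideal.quotientMap _ (map (algebraMap k L)) (by
      rw [Ideal.span_le]
      rintro _ rfl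
      exact Ideal.subset_span rfl)
  have hφ : Function.Injective φ := by
    rw [injective_iff_map_eq_zero]
    intro a ha
    obtain ⟨A, rfl⟩ := Ideal.Quotient.mk_surjective a
    change Ideal.Quotient.mk _ (map (algebraMap k L) A) = 0 at ha
    rw [Ideal.Quotient.eq_zero_iff_mem, Ideal.mem_span_singleton] at ha ⊢
    exact dvd_of_map_dvd ha
  let ψ : FF F →+* FF F' := IsFractionRing.lift (g := (algebraMap _ (FF F')).comp φ)
    ((IsFractionRing.injective _ _).comp hφ)
  have hψ : ∀ A : MvPolynomial σ k, ψ (aeval (yy F) A) = aeval (yy F') (map (algebraMap k L) A) := by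
    intro A
    rw [aeval_yy, aeval_yy]
    exact IsFractionRing.lift_algebraMap _ _
  have hψk : ∀ c : k, ψ (algebraMap k (FF F) c) = algebraMap L (FF F') (algebraMap k L c) := by
    intro c
    have h1 := hψ (C c)
    rw [aeval_C, map_C, aeval_C] at h1
    exact h1
  -- `ψ x` is algebraic over `L`
  obtain ⟨P, hP0, hPx⟩ := hx
  have hψx : IsAlgebraic L (ψ x) := by
    refine ⟨P.map (algebraMap k L), (Polynomial.map_ne_zero_iff (algebraMap k L).injective).2 hP0, ?_⟩
    rw [Polynomial.aeval_def, Polynomial.eval₂_map]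
    have h2 : (algebraMap L (FF F')).comp (algebraMap k L) = ψ.comp (algebraMap k (FF F)) := by
      ext c
      exact (hψk c).symm
    rw [h2, ← Polynomial.hom_eval₂]
    rw [Polynomial.aeval_def] at hPx
    rw [hPx, map_zero]
  obtain ⟨α, hα⟩ : ∃ α : L, algebraMap L (FF F') α = ψ x := by
    have h1 : (minpoly L (ψ x)).degree = 1 :=
      IsAlgClosed.degree_eq_one_of_irreducible L (minpoly.irreducible hψx.isIntegral)
    exact minpoly.mem_range_of_degree_eq_one L _ h1
  obtain ⟨A, B, hB, hAB⟩ := exists_frac F x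
  have h3 := congrArg ψ hAB
  rw [map_mul, hψ, hψ, ← hα] at h3
  have h4 : aeval (yy F') (map (algebraMap k L) A - C α * map (algebraMap k L) B) = 0 := by
    rw [map_sub, map_mul, aeval_C, h3, sub_self]
  rw [aeval_yy_eq_zero_iff] at h4
  obtain ⟨H, hH⟩ := h4
  by_cases hα' : α ∈ (algebraMap k L).range
  · obtain ⟨c, rfl⟩ := hα'
    refine ⟨c, ?_⟩
    apply ψ.injective
    rw [hψk, hα]
  · exfalso
    obtain ⟨l, hl1, hl2⟩ := exists_functional_zero hα'
    have h5 := congrArg (lam l) hH
    rw [lam_map_mul, lam_sub, lam_map, lam_C_mul_map, hl1, C_0, zero_mul, zero_sub] at h5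
    apply hB
    have h6 : B = F * (C (-(l α)⁻¹) * lam l H) := by
      have h7 : C (-(l α)⁻¹) * (-(C (l α) * B)) = B := by
        rw [mul_neg, ← mul_assoc, ← map_mul, neg_mul, inv_mul_cancel₀ hl2]
        simp
      rw [← h7, h5]
      ring
    exact ⟨_, h6⟩

end frac

end K467.AbsIrr
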