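import Groth.Agent.Zeta.K467.LinNorm
import Mathlib.FieldTheory.Minpoly.IsIntegrallyClosed
import Mathlib.FieldTheory.Finite.Basic
import Mathlib.LinearAlgebra.Dimension.Finite
import Mathlib.Algebra.Polynomial.Roots
import Mathlib.RingTheory.Polynomial.RationalRoot
import Mathlib.RingTheory.Polynomial.UniqueFactorization

/-!
# Points of an affine variety and its projection to affine space
-/

set_option autoImplicit false
open MvPolynomial

namespace K467.AffPts

open LinNoether HilbDeg LinNorm

universe u v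

section sep

variable {k : Type u} [Field k] [Finite k] {Ω : Type v} [Field Ω] [Algebra k Ω] {N : ℕ}

theorem card_ker_le (v : Fin N → Ω) (hv : v ≠ 0) :
    Nat.card {c : Fin N → k // ∑ j, c j • v j = 0} * Nat.card k ≤ Nat.card k ^ N := by
  classical
  let W : Submodule k (Fin N → k) := LinearMap.ker (Fintype.linearCombination k v)
  have hW : ∀ c : Fin N → k, c ∈ W ↔ ∑ j, c j • v j = 0 := fun c => by
    rw [LinearMap.mem_ker, Fintype.linearCombination_apply]
  have h1 : Nat.card {c : Fin N → k // ∑ j, c j • v j = 0} = Nat.card W :=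
    Nat.card_congr (Equiv.subtypeEquivRight fun c => (hW c).symm)
  have hne : W ≠ ⊤ := by
    intro htop
    apply hv
    funext j
    have : Pi.single j (1 : k) ∈ W := by rw [htop]; trivial
    rw [hW, Finset.sum_eq_single j] at this
    · simpa using this
    · intro i _ hi
      simp [hi]
    · intro h; exact absurd (Finset.mem_univ _) h
  have h2 : Module.finrank k W < N := by
    have := Submodule.finrank_lt hne
    rwa [Module.finrank_fin_fun] at this
  rw [h1, Module.natCard_eq_pow_finrank (K := k) (V := W), ← pow_succ]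
  exact Nat.pow_le_pow_right Nat.card_pos h2

/-- Linear forms with coefficients in a large finite field separate points. -/
theorem exists_sep (S : Finset (Fin N → Ω)) (hS : S.card * S.card < Nat.card k) :
    ∃ c : Fin N → k, ∀ P ∈ S, ∀ Q ∈ S, ∑ j, c j • P j = ∑ j, c j • Q j → P = Q := by
  classical
  cases nonempty_fintype k
  by_contra! hcon
  let T := (S ×ˢ S).filter (fun p => p.1 ≠ p.2)
  have hT : T.card ≤ S.card * S.card := (Finset.card_filter_le _ _).trans (Finset.card_product _ _).le
  let Z : (Fin N → Ω) × (Fin N → Ω) → Finset (Fin N → k) := fun p =>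
    Finset.univ.filter (fun c => ∑ j, c j • (p.1 j - p.2 j) = 0)
  have hcov : (Finset.univ : Finset (Fin N → k)) ⊆ T.biUnion Z := by
    intro c _
    obtain ⟨P, hP, Q, hQ, h1, h2⟩ := hcon c
    rw [Finset.mem_biUnion]
    refine ⟨(P, Q), ?_, ?_⟩
    · simp only [T, Finset.mem_filter, Finset.mem_product]
      exact ⟨⟨hP, hQ⟩, h2⟩
    · simp only [Z, Finset.mem_filter, Finset.mem_univ, true_and]
      simp only [smul_sub, Finset.sum_sub_distrib]
      rw [h1, sub_self]
  have h1 := Finset.card_le_card hcov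
  have h2 : (T.biUnion Z).card ≤ ∑ p ∈ T, (Z p).card := Finset.card_biUnion_le
  have h3 : ∀ p ∈ T, (Z p).card * Nat.card k ≤ Nat.card k ^ N := by
    intro p hp
    simp only [T, Finset.mem_filter] at hp
    have h4 : (Z p).card = Nat.card {c : Fin N → k // ∑ j, c j • (p.1 - p.2) j = 0} := by
      rw [Nat.card_eq_fintype_card, Fintype.card_subtype]
      rfl
    rw [h4]
    exact card_ker_le (p.1 - p.2) (sub_ne_zero.2 hp.2)
  have h5 : Nat.card k ^ N * Nat.card k ≤ (S.card * S.card) * Nat.card k ^ N := by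
    calc Nat.card k ^ N * Nat.card k = (Finset.univ : Finset (Fin N → k)).card * Nat.card k := by
          rw [Finset.card_univ, Fintype.card_fun, Fintype.card_fin, Nat.card_eq_fintype_card]
      _ ≤ (∑ p ∈ T, (Z p).card) * Nat.card k := Nat.mul_le_mul_right _ (h1.trans h2)
      _ = ∑ p ∈ T, (Z p).card * Nat.card k := by rw [Finset.sum_mul]
      _ ≤ ∑ p ∈ T, Nat.card k ^ N := Finset.sum_le_sum h3
      _ = T.card * Nat.card k ^ N := by rw [Finset.sum_const, smul_eq_mul]
      _ ≤ _ := Nat.mul_le_mul_right _ hT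
  have h6 : 0 < Nat.card k ^ N := pow_pos Nat.card_pos _
  have h7 : Nat.card k ≤ S.card * S.card := by
    rw [mul_comm (S.card * S.card)] at h5
    exact Nat.le_of_mul_le_mul_left h5 h6
  omega

end sep

section

variable {k : Type u} [Field k] {L : Type v} [Field L] [Algebra k L] {N : ℕ}

/-- values of relations at points -/
theorem eval_point {B : Subalgebra k L} (χ : B →ₐ[k] k) {σ : Type*} (w : σ → B) (G : MvPolynomial σ k)
    (h : aeval (fun i => (w i : L)) G = 0) : eval (fun i => χ (w i)) G = 0 := by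
  have h1 : B.val.comp (aeval w) = aeval (fun i => (w i : L)) := by
    ext i; simp
  have h2 : aeval w G = 0 := by
    have h3 : B.val (aeval w G) = 0 := by
      rw [← h]
      exact DFunLike.congr_fun h1 G
    exact Subtype.ext h3
  have h4 : χ.comp (aeval w) = aeval (fun i => χ (w i)) := by
    ext i; simp
  have h5 := DFunLike.congr_fun h4 G
  rw [AlgHom.comp_apply, h2, map_zero] at h5
  rw [← aeval_eq_eval]
  exact h5.symm

/-- algebra homs from `k[b]` are determined by the values on `b` -/
theorem hom_ext (b : Fin N → L) {C : Type*} [CommRing C] [Algebra k C]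
    (χ χ' : Algebra.adjoin k (Set.range b) →ₐ[k] C)
    (h : ∀ j, χ ⟨b j, Algebra.subset_adjoin ⟨j, rfl⟩⟩ = χ' ⟨b j, Algebra.subset_adjoin ⟨j, rfl⟩⟩) : χ = χ' := by
  apply AlgHom.adjoin_ext
  rintro x ⟨j, rfl⟩
  exact h j

theorem finite_hom [Finite k] (b : Fin N → L) :
    Finite (Algebra.adjoin k (Set.range b) →ₐ[k] k) := by
  refine Finite.of_injective (β := Fin N → k)
    (fun χ j => χ ⟨b j, Algebra.subset_adjoin ⟨j, rfl⟩⟩) (fun χ χ' h => ?_)
  exact hom_ext b χ χ' fun j => congrFun h j

theorem card_hom_le [Finite k] (b : Fin N → L) :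
    Nat.card (Algebra.adjoin k (Set.range b) →ₐ[k] k) ≤ Nat.card k ^ N := by
  have h := Nat.card_le_card_of_injective (β := Fin N → k)
    (fun (χ : Algebra.adjoin k (Set.range b) →ₐ[k] k) j => χ ⟨b j, Algebra.subset_adjoin ⟨j, rfl⟩⟩)
    (fun χ χ' h => hom_ext b χ χ' fun j => congrFun h j)
  refine h.trans (le_of_eq ?_)
  rw [Nat.card_fun]
  simp

theorem mem_adjoin_of_span (b : Fin N → L) {x : L} (hx : x ∈ Submodule.span k (Set.range b)) :
    x ∈ Algebra.adjoin k (Set.range b) :=
  Algebra.span_le_adjoin k _ hx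

variable {R : ℕ} {y : Fin R → L} (hy : AlgebraicIndependent k y)

include hy in
theorem ufd_adjoin : UniqueFactorizationMonoid (Algebra.adjoin k (Set.range y)) :=
  hy.aevalEquiv.toMulEquiv.uniqueFactorizationMonoid inferInstance

include hy in
theorem isIntegrallyClosed_adjoin : IsIntegrallyClosed (Algebra.adjoin k (Set.range y)) := by
  have := ufd_adjoin hy
  infer_instance

/-- The minimal polynomial over `k[y]`, with coefficients in the polynomial ring. -/
noncomputable def mp (z : L) : Polynomial (MvPolynomial (Fin R) k) :=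
  (minpoly (Algebra.adjoin k (Set.range y)) z).map (hy.aevalEquiv.symm : _ →+* MvPolynomial (Fin R) k)

/-- The minimal polynomial over `k[y]`, as a polynomial in `R + 1` variables. -/
noncomputable def FZ (z : L) : MvPolynomial (Fin (R + 1)) k := (finSuccEquiv k R).symm (mp hy z)

theorem finSuccEquiv_FZ (z : L) : finSuccEquiv k R (FZ hy z) = mp hy z :=
  (finSuccEquiv k R).apply_symm_apply _

theorem aeval_comp_symm : ((aeval y : MvPolynomial (Fin R) k →ₐ[k] L) : MvPolynomial (Fin R) k →+* L).comp
    (hy.aevalEquiv.symm : Algebra.adjoin k (Set.range y) →+* MvPolynomial (Fin R) k) =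
      algebraMap (Algebra.adjoin k (Set.range y)) L := by
  ext x
  obtain ⟨G, rfl⟩ := hy.aevalEquiv.surjective x
  simp only [RingHom.comp_apply]
  have h1 : (hy.aevalEquiv.symm : Algebra.adjoin k (Set.range y) →+* MvPolynomial (Fin R) k)
      (hy.aevalEquiv G) = G := hy.aevalEquiv.symm_apply_apply G
  rw [h1]
  exact (hy.algebraMap_aevalEquiv G).symm

variable {z : L} (hz : IsIntegral (Algebra.adjoin k (Set.range y)) z)

theorem aeval_FZ : aeval (Fin.cons z y : Fin (R + 1) → L) (FZ hy z) = 0 := by
  rw [aeval_eq_eval₂, finSuccEquiv_FZ]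
  simp only [Fin.cons_succ, Fin.cons_zero]
  rw [mp, Polynomial.eval₂_map, aeval_comp_symm, ← Polynomial.aeval_def, minpoly.aeval]

include hz in
theorem monic_mp : (mp hy z).Monic := (minpoly.monic hz).map _

include hz in
theorem natDegree_mp : (mp hy z).natDegree = (minpoly (Algebra.adjoin k (Set.range y)) z).natDegree :=
  (minpoly.monic hz).natDegree_map _

include hz in
theorem FZ_dvd (G : MvPolynomial (Fin (R + 1)) k) (hG : aeval (Fin.cons z y : Fin (R + 1) → L) G = 0) :
    FZ hy z ∣ G := by
  have := isIntegrallyClosed_adjoin hy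
  rw [← map_dvd_iff (finSuccEquiv k R), finSuccEquiv_FZ]
  rw [aeval_eq_eval₂] at hG
  simp only [Fin.cons_succ, Fin.cons_zero] at hG
  let p : Polynomial (Algebra.adjoin k (Set.range y)) :=
    (finSuccEquiv k R G).map (hy.aevalEquiv : MvPolynomial (Fin R) k →+* Algebra.adjoin k (Set.range y))
  have hp : Polynomial.aeval z p = 0 := by
    rw [Polynomial.aeval_def, Polynomial.eval₂_map, ← hG]
    congr 1
  have hd := minpoly.isIntegrallyClosed_dvd hz hp
  have h2 : (finSuccEquiv k R G) = p.map (hy.aevalEquiv.symm : _ →+* MvPolynomial (Fin R) k) := by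
    rw [Polynomial.map_map]
    have : (hy.aevalEquiv.symm : _ →+* MvPolynomial (Fin R) k).comp
      (hy.aevalEquiv : MvPolynomial (Fin R) k →+* Algebra.adjoin k (Set.range y)) = RingHom.id _ := by
      ext x
      · simp
      · simp
    rw [this, Polynomial.map_id]
  rw [h2, mp]
  exact Polynomial.map_dvd _ hd

theorem FZ_ne_zero : FZ hy z ≠ 0 ↔ mp hy z ≠ 0 := by
  rw [FZ, ne_eq, EmbeddingLike.map_eq_zero_iff]

include hz in
theorem irreducible_FZ : Irreducible (FZ hy z) := by
  rw [FZ, MulEquiv.irreducible_iff (finSuccEquiv k R).symm, mp]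
  have h1 : Irreducible (minpoly (Algebra.adjoin k (Set.range y)) z) := minpoly.irreducible hz
  have h2 := (MulEquiv.irreducible_iff (Polynomial.mapEquiv (hy.aevalEquiv.symm :
    Algebra.adjoin k (Set.range y) ≃+* MvPolynomial (Fin R) k))).2 h1
  exact h2

include hz in
theorem totalDegree_FZ {b : Fin N → L} {d : ℕ} (hDB : DB k b R d)
    (hyb : ∀ i, y i ∈ Submodule.span k (Set.range b)) (hzb : z ∈ Submodule.span k (Set.range b)) :
    (FZ hy z).totalDegree ≤ d := by
  obtain ⟨F, hF0, hFd, hF⟩ := hDB (Fin.cons z y) (fun i => by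
    refine Fin.cases ?_ (fun i => ?_) i
    · exact hzb
    · exact hyb i) hy
  obtain ⟨G, hG⟩ := FZ_dvd hy hz F hF
  have hG0 : G ≠ 0 := by
    rintro rfl
    rw [mul_zero] at hG
    exact hF0 hG
  have h1 : (FZ hy z) ≠ 0 := (irreducible_FZ hy hz).ne_zero
  rw [hG, totalDegree_mul_of_isDomain h1 hG0] at hFd
  omega

include hz in
theorem natDegree_mp_le {b : Fin N → L} {d : ℕ} (hDB : DB k b R d)
    (hyb : ∀ i, y i ∈ Submodule.span k (Set.range b)) (hzb : z ∈ Submodule.span k (Set.range b)) :
    (mp hy z).natDegree ≤ d := by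
  rw [← finSuccEquiv_FZ, natDegree_finSuccEquiv]
  exact (degreeOf_le_totalDegree _ _).trans (totalDegree_FZ hy hz hDB hyb hzb)

theorem eval_FZ (η : Fin R → k) (ζ : k) :
    eval (Fin.cons ζ η : Fin (R + 1) → k) (FZ hy z) = ((mp hy z).map (eval η)).eval ζ := by
  rw [eval_eq_eval_mv_eval', finSuccEquiv_FZ]

end

end K467.AffPts
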