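import Groth.Agent.Zeta.K468.CountOps
import Mathlib.RingTheory.Jacobson.Ring
import Mathlib.AlgebraicGeometry.Morphisms.FiniteType
import Mathlib.AlgebraicGeometry.Morphisms.QuasiCompact
import Mathlib.Topology.KrullDimension
import Mathlib.RingTheory.Spectrum.Prime.Topology
import Mathlib.AlgebraicGeometry.Scheme
import Mathlib.FieldTheory.Finite.Basic

/-!
# Upper bounds for the number of points of arithmetic schemes
-/

set_option autoImplicit false
universe u v w

open CategoryTheory AlgebraicGeometry

open scoped TensorProduct nonZeroDivisors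

namespace K467.ArithUB

open K468.Cnt

section dim

variable {R A : Type u} [CommRing R] [IsDomain R] [IsJacobsonRing R] [CommRing A] [Algebra R A]
  [Algebra.FiniteType R A]

/-- A prime of a finitely generated `R`-algebra which contracts to zero is not maximal. -/
theorem not_isMaximal (hR : ¬ IsField R) (P : Ideal A) (hP : P.comap (algebraMap R A) = ⊥) :
    ¬ P.IsMaximal := by
  intro hmax
  let _ : Field (A ⧸ P) := Ideal.Quotient.field P
  have : Algebra.FiniteType R (A ⧸ P) := inferInstance
  have h1 : Module.Finite R (A ⧸ P) := finite_of_finite_type_of_isJacobsonRing R (A ⧸ P)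
  have h2 : Function.Injective (algebraMap R (A ⧸ P)) := by
    rw [injective_iff_map_eq_zero]
    intro a ha
    have h3 : algebraMap R A a ∈ P := by
      rw [← Ideal.Quotient.eq_zero_iff_mem]
      exact ha
    have h4 : a ∈ P.comap (algebraMap R A) := h3
    rwa [hP, Ideal.mem_bot] at h4
  exact hR (isField_of_isIntegral_of_isField h2 (Field.toIsField (A ⧸ P)))

theorem length_add_one_le (hR : ¬ IsField R) (K : Type u) [Field K] [Algebra R K] [IsFractionRing R K]
    (p : LTSeries (PrimeSpectrum (K ⊗[R] A))) : ((p.length + 1 : ℕ) : WithBot ℕ∞) ≤ ringKrullDim A := by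
  let _ : Algebra A (K ⊗[R] A) := Algebra.TensorProduct.rightAlgebra
  have hloc : IsLocalization (Algebra.algebraMapSubmonoid A R⁰) (K ⊗[R] A) := inferInstance
  let f : PrimeSpectrum (K ⊗[R] A) → PrimeSpectrum A := PrimeSpectrum.comap (algebraMap A (K ⊗[R] A))
  have hinj : Function.Injective f :=
    PrimeSpectrum.localization_comap_injective (K ⊗[R] A) (Algebra.algebraMapSubmonoid A R⁰)
  have hmono : StrictMono f := by
    intro x y hxy
    refine lt_of_le_of_ne ?_ (fun h => hxy.ne (hinj h))
    exact Ideal.comap_mono hxy.le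
  let q := p.map f hmono
  have hlast : (q.last).asIdeal.comap (algebraMap R A) = ⊥ := by
    rw [eq_bot_iff]
    intro a ha
    rw [Ideal.mem_bot]
    by_contra hne
    have h1 : algebraMap A (K ⊗[R] A) (algebraMap R A a) ∈ p.last.asIdeal := ha
    have h2 : IsUnit (algebraMap A (K ⊗[R] A) (algebraMap R A a)) :=
      IsLocalization.map_units (K ⊗[R] A)
        (⟨algebraMap R A a, a, mem_nonZeroDivisors_of_ne_zero hne, rfl⟩ :
          Algebra.algebraMapSubmonoid A R⁰)
    exact p.last.isPrime.ne_top (Ideal.eq_top_of_isUnit_mem _ h1 h2)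
  have hnm := not_isMaximal hR q.last.asIdeal hlast
  obtain ⟨M, hM, hle⟩ := Ideal.exists_le_maximal q.last.asIdeal q.last.isPrime.ne_top
  have hlt : q.last < (⟨M, hM.isPrime⟩ : PrimeSpectrum A) := by
    refine lt_of_le_of_ne hle ?_
    intro h
    apply hnm
    rw [h]
    exact hM
  have h5 : ((q.snoc _ hlt).length : WithBot ℕ∞) ≤ Order.krullDim (PrimeSpectrum A) := Order.LTSeries.length_le_krullDim (q.snoc _ hlt)
  exact h5

theorem ringKrullDim_tensor_le (hR : ¬ IsField R) (K : Type u) [Field K] [Algebra R K] [IsFractionRing R K] (r : ℕ)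
    (hr : ringKrullDim A ≤ r) :
    Subsingleton (K ⊗[R] A) ∨ (1 ≤ r ∧ ringKrullDim (K ⊗[R] A) ≤ (r - 1 : ℕ)) := by
  rcases subsingleton_or_nontrivial (K ⊗[R] A) with hs | hn
  · exact Or.inl hs
  right
  have hle : ∀ p : LTSeries (PrimeSpectrum (K ⊗[R] A)), p.length + 1 ≤ r := by
    intro p
    have := (length_add_one_le hR K p).trans hr
    exact_mod_cast this
  have h1 : 1 ≤ r := by
    have : Nonempty (PrimeSpectrum (K ⊗[R] A)) := inferInstance
    obtain ⟨x⟩ := this
    have := hle (RelSeries.singleton _ x)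
    simpa using this
  refine ⟨h1, ?_⟩
  unfold ringKrullDim Order.krullDim
  refine iSup_le fun p => ?_
  have := hle p
  have h2 : p.length ≤ r - 1 := by omega
  exact_mod_cast h2

end dim

theorem not_isField_Z : ¬ IsField (ULift.{u} ℤ) := fun h =>
  Int.not_isField (MulEquiv.isField h (ULift.ringEquiv.{0, u} (R := ℤ)).symm.toMulEquiv)

end K467.ArithUB
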