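import Groth.Agent.Zeta.K467.ConeAlg
import Mathlib.Analysis.Asymptotics.SpecificAsymptotics
import Mathlib.Analysis.Calculus.Deriv.Slope
import Mathlib.Analysis.Calculus.Deriv.Pow

/-!
# The Hilbert function of a cone
-/

set_option autoImplicit false
universe u v w

open Filter Topology Asymptotics

namespace K467.HilbCone

open K467.HilbDeg K467.ConeAlg

/-! ### Sums -/

theorem tendsto_diff (r : ℕ) :
    Tendsto (fun s : ℕ => (((s : ℝ) + 1) ^ (r + 1) - (s : ℝ) ^ (r + 1)) / (s : ℝ) ^ r) atTop (𝓝 (r + 1)) := by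
  have h := (hasDerivAt_pow (r + 1) (1 : ℝ)).tendsto_slope_zero_right
  have h2 : Tendsto (fun s : ℕ => ((s : ℝ))⁻¹) atTop (𝓝[>] 0) :=
    tendsto_inv_atTop_nhdsGT_zero.comp tendsto_natCast_atTop_atTop
  have h3 := h.comp h2
  have h4 : ((r + 1 : ℕ) : ℝ) * 1 ^ (r + 1 - 1) = r + 1 := by
    rw [one_pow, mul_one]; push_cast; ring
  rw [h4] at h3
  refine h3.congr' ?_
  filter_upwards [eventually_ge_atTop 1] with s hs
  have hs0 : (0 : ℝ) < s := by exact_mod_cast hs
  simp only [Function.comp_apply, smul_eq_mul, inv_inv, one_pow]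
  have h5 : ((s : ℝ) + 1) ^ (r + 1) = (s : ℝ) ^ (r + 1) * (1 + (s : ℝ)⁻¹) ^ (r + 1) := by
    rw [← mul_pow, mul_add, mul_one, mul_inv_cancel₀ hs0.ne']
  rw [h5, eq_div_iff (pow_pos hs0 r).ne', pow_succ (s : ℝ) r]
  ring

theorem tendsto_sum {H : ℕ → ℝ} {r : ℕ} {c : ℝ} (h : Tendsto (fun s : ℕ => H s / (s : ℝ) ^ r) atTop (𝓝 c)) :
    Tendsto (fun n : ℕ => (∑ s ∈ Finset.range n, H s) / (n : ℝ) ^ (r + 1)) atTop (𝓝 (c / (r + 1))) := by
  set g : ℕ → ℝ := fun s => ((s : ℝ) + 1) ^ (r + 1) - (s : ℝ) ^ (r + 1) with hg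
  have hgpos : ∀ s, 0 < g s := by
    intro s
    have : (s : ℝ) ^ (r + 1) < ((s : ℝ) + 1) ^ (r + 1) :=
      pow_lt_pow_left₀ (by linarith) (Nat.cast_nonneg s) (by omega)
    simp only [hg]; linarith
  have hsum : ∀ n, ∑ s ∈ Finset.range n, g s = (n : ℝ) ^ (r + 1) := by
    intro n
    have := Finset.sum_range_sub (fun s : ℕ => (s : ℝ) ^ (r + 1)) n
    push_cast at this
    rw [zero_pow (by omega), sub_zero] at this
    exact this
  have hgr := tendsto_diff r
  have hr1 : ((r : ℝ) + 1) ≠ 0 := by positivity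
  have h1 : Tendsto (fun s => H s / g s) atTop (𝓝 (c / (r + 1))) := by
    refine (h.div hgr hr1).congr' ?_
    filter_upwards [eventually_ge_atTop 1] with s hs
    have hs0 : (0 : ℝ) < (s : ℝ) ^ r := pow_pos (by exact_mod_cast hs) r
    simp only [Pi.div_apply]
    rw [div_div_div_cancel_right₀ hs0.ne']
  have h2 : (fun s => H s - (c / (r + 1)) * g s) =o[atTop] g := by
    rw [isLittleO_iff_tendsto (fun s hs => absurd hs (hgpos s).ne')]
    have h3 : Tendsto (fun s => H s / g s - c / (r + 1)) atTop (𝓝 0) := by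
      have := h1.sub_const (c / (r + 1))
      rwa [sub_self] at this
    refine h3.congr fun s => ?_
    rw [sub_div, mul_div_cancel_right₀ _ (hgpos s).ne']
  have h4 : Tendsto (fun n => ∑ s ∈ Finset.range n, g s) atTop atTop := by
    simp only [hsum]
    exact (tendsto_pow_atTop (by omega)).comp tendsto_natCast_atTop_atTop
  have h5 := h2.sum_range (fun s => (hgpos s).le) h4
  have h6 : (fun n => ∑ s ∈ Finset.range n, (H s - (c / (r + 1)) * g s)) =
      fun n : ℕ => ∑ s ∈ Finset.range n, H s - (c / (r + 1)) * (n : ℝ) ^ (r + 1) := by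
    funext n
    rw [Finset.sum_sub_distrib, ← Finset.mul_sum, hsum]
  rw [h6] at h5
  have h7 : (fun n => ∑ s ∈ Finset.range n, g s) = fun n : ℕ => (n : ℝ) ^ (r + 1) := funext hsum
  rw [h7] at h5
  have h8 := h5.tendsto_div_nhds_zero
  have h9 := h8.add_const (c / (r + 1))
  rw [zero_add] at h9
  refine h9.congr' ?_
  filter_upwards [eventually_ge_atTop 1] with n hn
  have hn0 : (0 : ℝ) < (n : ℝ) ^ (r + 1) := pow_pos (by exact_mod_cast hn) _
  rw [sub_div, mul_div_cancel_right₀ _ hn0.ne', sub_add_cancel]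

theorem tendsto_sum' {H : ℕ → ℝ} {r : ℕ} {c : ℝ} (h : Tendsto (fun s : ℕ => H s / (s : ℝ) ^ r) atTop (𝓝 c)) :
    Tendsto (fun n : ℕ => (∑ s ∈ Finset.range (n + 1), H s) / (n : ℝ) ^ (r + 1)) atTop (𝓝 (c / (r + 1))) := by
  have h1 := (tendsto_add_atTop_iff_nat 1).mpr (tendsto_sum h)
  have h2 : Tendsto (fun t : ℕ => (((t : ℝ) + 1) / t) ^ (r + 1)) atTop (𝓝 1) := by
    have h3 : Tendsto (fun t : ℕ => 1 + (1 : ℝ) / t) atTop (𝓝 (1 + 0)) :=
      tendsto_const_nhds.add (tendsto_const_div_atTop_nhds_zero_nat (1 : ℝ))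
    rw [add_zero] at h3
    have h4 := h3.pow (r + 1)
    rw [one_pow] at h4
    refine h4.congr' ?_
    filter_upwards [eventually_ge_atTop 1] with t ht
    have : (0 : ℝ) < t := by exact_mod_cast ht
    rw [add_div, div_self this.ne']
  have h5 := h1.mul h2
  rw [mul_one] at h5
  refine h5.congr' ?_
  filter_upwards [eventually_ge_atTop 1] with n hn
  have hn0 : (0 : ℝ) < (n : ℝ) := by exact_mod_cast hn
  push_cast
  rw [div_pow, div_mul_div_cancel₀ (by positivity)]

/-! ### Hilbert functions -/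

section hilb

variable {k : Type u} {K : Type v} [Field k] [Field K] [Algebra k K] {N : ℕ} (v : Fin (N + 1) → K)

instance finite_hom (s : ℕ) : Module.Finite k (MvPolynomial.homogeneousSubmodule (Fin (N + 1)) k s) := by
  have h : MvPolynomial.homogeneousSubmodule (Fin (N + 1)) k s ≤
      MvPolynomial.restrictTotalDegree (Fin (N + 1)) k s := by
    intro F hF
    rw [MvPolynomial.mem_restrictTotalDegree]
    exact MvPolynomial.IsHomogeneous.totalDegree_le hF
  exact Submodule.finiteDimensional_of_le h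

/-- Images with the same kernel have the same dimension. -/
theorem finrank_map_eq {V W W' : Type*} [AddCommGroup V] [Module k V] [AddCommGroup W] [Module k W]
    [AddCommGroup W'] [Module k W'] (S : Submodule k V) (f : V →ₗ[k] W) (g : V →ₗ[k] W')
    (h : ∀ x ∈ S, f x = 0 ↔ g x = 0) : Module.finrank k (S.map f) = Module.finrank k (S.map g) := by
  have h1 : LinearMap.ker (f.domRestrict S) = LinearMap.ker (g.domRestrict S) := by
    ext x
    simp only [LinearMap.mem_ker, LinearMap.domRestrict_apply]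
    exact h x x.2
  have h2 : S.map f = LinearMap.range (f.domRestrict S) := (LinearMap.range_domRestrict S f).symm
  have h3 : S.map g = LinearMap.range (g.domRestrict S) := (LinearMap.range_domRestrict S g).symm
  rw [h2, h3]
  exact LinearEquiv.finrank_eq ((f.domRestrict S).quotKerEquivRange.symm.trans
    ((Submodule.quotEquivOfEq _ _ h1).trans (g.domRestrict S).quotKerEquivRange))

/-- `dim_k` of the degree `s` part of the coordinate ring. -/
noncomputable def H (s : ℕ) : ℕ :=
  Module.finrank k ((MvPolynomial.homogeneousSubmodule (Fin (N + 1)) k s).map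
    (MvPolynomial.aeval v : MvPolynomial (Fin (N + 1)) k →ₐ[k] K).toLinearMap)

theorem hf_β (t : ℕ) : hf k (β v) t = ∑ s ∈ Finset.range (t + 1), H (k := k) v s := by
  classical
  let V : Fin (t + 1) → Submodule k K := fun s => (MvPolynomial.homogeneousSubmodule (Fin (N + 1)) k s).map
    (MvPolynomial.aeval v : MvPolynomial (Fin (N + 1)) k →ₐ[k] K).toLinearMap
  let T := MvPolynomial.restrictTotalDegree (Fin (N + 1)) k t
  have h1 : hf k (β v) t = Module.finrank k (T.map (MvPolynomial.aeval (γ v) :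
      MvPolynomial (Fin (N + 1)) k →ₐ[k] Polynomial K).toLinearMap) := by
    refine finrank_map_eq T _ _ fun F _ => ?_
    change MvPolynomial.aeval (β v) F = 0 ↔ MvPolynomial.aeval (γ v) F = 0
    rw [aeval_β_eq, map_eq_zero_iff _ (IsFractionRing.injective _ _)]
  let Φ : MvPolynomial (Fin (N + 1)) k →ₗ[k] (Fin (t + 1) → K) :=
    LinearMap.pi fun s => (MvPolynomial.aeval v : MvPolynomial (Fin (N + 1)) k →ₐ[k] K).toLinearMap.comp
      (MvPolynomial.homogeneousComponent (s : ℕ))
  have hΦ : ∀ F s, Φ F s = MvPolynomial.aeval v (MvPolynomial.homogeneousComponent (s : ℕ) F) := fun _ _ => rfl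
  have h2 : Module.finrank k (T.map (MvPolynomial.aeval (γ v) :
      MvPolynomial (Fin (N + 1)) k →ₐ[k] Polynomial K).toLinearMap) = Module.finrank k (T.map Φ) := by
    refine finrank_map_eq T _ _ fun F hF => ?_
    change MvPolynomial.aeval (γ v) F = 0 ↔ Φ F = 0
    have hFt : F.totalDegree ≤ t := (MvPolynomial.mem_restrictTotalDegree _ _ _).mp hF
    constructor
    · intro h
      funext s
      rw [hΦ, ← coeff_aeval_γ, h, Polynomial.coeff_zero, Pi.zero_apply]
    · intro h
      ext s
      rw [coeff_aeval_γ, Polynomial.coeff_zero]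
      by_cases hs : s < t + 1
      · exact (hΦ F ⟨s, hs⟩).symm.trans (congrFun h ⟨s, hs⟩)
      · rw [MvPolynomial.homogeneousComponent_eq_zero _ _ (by omega), map_zero]
  have h3 : T.map Φ = Submodule.pi Set.univ V := by
    apply le_antisymm
    · rintro _ ⟨F, -, rfl⟩ s -
      exact ⟨_, MvPolynomial.homogeneousComponent_isHomogeneous _ _, rfl⟩
    · intro x hx
      choose G hG hGx using fun s : Fin (t + 1) => hx s (Set.mem_univ s)
      refine ⟨∑ s, G s, ?_, ?_⟩
      · refine Submodule.sum_mem _ fun s _ => ?_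
        rw [MvPolynomial.mem_restrictTotalDegree]
        exact (MvPolynomial.IsHomogeneous.totalDegree_le (hG s)).trans (by omega)
      · funext s
        rw [hΦ, map_sum]
        have h4 : ∀ s', MvPolynomial.homogeneousComponent (s : ℕ) (G s') = if s' = s then G s else 0 := by
          intro s'
          have h5 := MvPolynomial.homogeneousComponent_of_mem (hG s') (m := (s : ℕ))
          rw [h5]
          by_cases h6 : s' = s
          · subst h6; simp
          · rw [if_neg (fun h => h6 (Fin.ext h).symm), if_neg h6]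
        rw [Finset.sum_congr rfl fun s' _ => h4 s', Finset.sum_ite_eq' Finset.univ s, if_pos (Finset.mem_univ s)]
        exact hGx s
  have h7 : Module.finrank k (Submodule.pi Set.univ V) = ∑ s : Fin (t + 1), Module.finrank k (V s) := by
    let e : (Submodule.pi Set.univ V) ≃ₗ[k] (∀ s, V s) :=
      { toFun := fun x s => ⟨x.1 s, x.2 s (Set.mem_univ s)⟩
        map_add' := fun _ _ => rfl
        map_smul' := fun _ _ => rfl
        invFun := fun x => ⟨fun s => x s, fun s _ => (x s).2⟩
        left_inv := fun _ => rfl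
        right_inv := fun _ => rfl }
    rw [e.finrank_eq, Module.finrank_pi_fintype]
  rw [h1, h2, h3, h7, ← Fin.sum_univ_eq_sum_range]
  rfl

/-- The Hilbert function in terms of the quotient by the ideal. -/
theorem H_eq {I : Ideal (MvPolynomial (Fin (N + 1)) k)}
    (h : ∀ (d : ℕ) (F : MvPolynomial (Fin (N + 1)) k), F.IsHomogeneous d →
      (F ∈ I ↔ MvPolynomial.aeval v F = 0)) (s : ℕ) :
    H (k := k) v s = Module.finrank k ((MvPolynomial.homogeneousSubmodule (Fin (N + 1)) k s).map
        (Ideal.Quotient.mkₐ k I).toLinearMap) := by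
  refine finrank_map_eq _ _ _ fun F hF => ?_
  change MvPolynomial.aeval v F = 0 ↔ Ideal.Quotient.mk I F = 0
  rw [Ideal.Quotient.eq_zero_iff_mem]
  exact (h s F hF).symm

theorem tendsto_hf {r : ℕ} {c : ℝ}
    (h : Tendsto (fun t : ℕ => (H (k := k) v t : ℝ) / (t : ℝ) ^ r) atTop (𝓝 (c / (r.factorial : ℝ)))) :
    Tendsto (fun t : ℕ => (hf k (β v) t : ℝ) / (t : ℝ) ^ (r + 1)) atTop (𝓝 (c / ((r + 1).factorial : ℝ))) := by
  have h1 := tendsto_sum' h
  have h2 : c / (r.factorial : ℝ) / (r + 1) = c / ((r + 1).factorial : ℝ) := by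
    rw [div_div, Nat.factorial_succ, mul_comm ((r : ℕ) + 1)]
    push_cast
    rfl
  rw [h2] at h1
  refine h1.congr fun t => ?_
  rw [hf_β]
  push_cast
  rfl

theorem growth_of_tendsto {L : Type w} [Field L] [Algebra k L] {M : ℕ} {b : Fin M → L} {R : ℕ} {c : ℝ}
    (h : Tendsto (fun t : ℕ => (hf k b t : ℝ) / (t : ℝ) ^ R) atTop (𝓝 (c / (R.factorial : ℝ)))) :
    Growth k b R c := by
  intro ε hε
  have h1 := (tendsto_order.1 h).2 (c / (R.factorial : ℝ) + ε) (by linarith)
  filter_upwards [h1, eventually_ge_atTop 1] with t ht ht1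
  have : (0 : ℝ) < (t : ℝ) ^ R := pow_pos (by exact_mod_cast ht1) _
  exact ((div_lt_iff₀ this).mp ht).le

end hilb

end K467.HilbCone
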