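import Groth.Agent.Zeta.K467.Cone
import Groth.Agent.Zeta.K467.HilbCone
import Groth.Agent.Zeta.K467.AffSharp
import Groth.Agent.S1619
import Groth.Agent.S1540
import Groth.Agent.Ega3B.ProjProper

/-!
# Points of projective varieties over finite fields, through the affine cone
-/

set_option autoImplicit false
universe u v w

open CategoryTheory AlgebraicGeometry Filter Topology

namespace K467.Assem

open Groth.Agent K467.ProjPt K467.Cone K467.HilbDeg K467.ConeAlg K467.HilbCone

/-- `dim_k (S/I)_t / t ^ r` tends to `c / r!`. -/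
def HT {N : ℕ} {k : Type u} [Field k] {X : Scheme.{u}} (ι : X ⟶ CohB1.ProjSpace N k) (r : ℕ) (c : ℝ) : Prop :=
  Tendsto (fun t : ℕ => (Module.finrank k ((MvPolynomial.homogeneousSubmodule (Fin (N + 1)) k t).map
    (Ideal.Quotient.mkₐ k (hI ι)).toLinearMap) : ℝ) / (t : ℝ) ^ r) atTop (𝓝 (c / (r.factorial : ℝ)))

/-- The data of the affine cone. -/
structure ConeData {N : ℕ} {k : Type u} [Field k] {X : Scheme.{u}} (ι : X ⟶ CohB1.ProjSpace N k) (r : ℕ) (c : ℝ)
    (L : Type u) [Field L] [Algebra k L] (b : Fin (N + 1) → L) : Prop where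
  adjoin : IntermediateField.adjoin k (Set.range b) = ⊤
  trdeg : Algebra.trdeg k L = ((r + 1 : ℕ) : Cardinal.{u})
  tendsto : Tendsto (fun t : ℕ => (hf k b t : ℝ) / (t : ℝ) ^ (r + 1)) atTop (𝓝 (c / ((r + 1).factorial : ℝ)))
  zero : ∀ F : MvPolynomial (Fin (N + 1)) k, MvPolynomial.aeval b F = 0 ↔ F ∈ hI ι

section

variable {N : ℕ} {k : Type u} [Field k] {X : Scheme.{u}} {ι : X ⟶ CohB1.ProjSpace N k} {r : ℕ} {c : ℝ}
  {L : Type u} [Field L] [Algebra k L] {b : Fin (N + 1) → L}

theorem ConeData.growth (h : ConeData ι r c L b) : Growth k b (r + 1) c := growth_of_tendsto h.tendsto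

theorem ConeData.card_hom (h : ConeData ι r c L b) [IsClosedImmersion ι] [Nonempty X] (K : Type u) [Field K]
    [Algebra k K] [Finite K] : Nat.card (Algebra.adjoin k (Set.range b) →ₐ[k] K) =
      SgaExt.pointCount (ι ≫ CohB1.ProjSpace.toSpec N k) K * (Nat.card K - 1) + 1 := by
  rw [← card_zeros ι, Nat.card_congr (homEquiv b)]
  refine Nat.card_congr (Equiv.subtypeEquivRight fun w => ?_)
  exact forall_congr' fun F => by rw [h.zero F]

theorem ConeData.not_algInd (h : ConeData ι r c L b) (w : Fin (r + 1 + 1) → L) : ¬ AlgebraicIndependent k w := by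
  intro hw
  have h1 := hw.lift_cardinalMk_le_trdeg
  rw [h.trdeg, Cardinal.mk_fin, Cardinal.lift_natCast, Cardinal.lift_natCast] at h1
  have h2 : r + 1 + 1 ≤ r + 1 := by exact_mod_cast h1
  omega

theorem ConeData.DB (h : ConeData ι r c L b) (d : ℕ) (hd : c < d + 1) : DB k b (r + 1) d :=
  DB_of_growth h.growth d hd fun w _ => h.not_algInd w

end

section exist

attribute [local instance] Curv2.resAlgebra

variable {N : ℕ} {k : Type u} [Field k] {X : Scheme.{u}} [X.Over (Spec (CommRingCat.of k))]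
  (ι : X ⟶ CohB1.ProjSpace N k) [IsClosedImmersion ι] [IsIntegral X]
  (hι : ι ≫ CohB1.ProjSpace.toSpec N k = X ↘ Spec (CommRingCat.of k))

include hι in
theorem exists_coords' :
    ∃ (j : Fin (N + 1)) (v : Fin (N + 1) → X.residueField (genericPoint X)), v j = 1 ∧
      (∀ (d : ℕ) (F : MvPolynomial (Fin (N + 1)) k), F ∈ CohB1.polyGrading N k d →
        (F ∈ hI ι ↔ MvPolynomial.aeval v F = 0)) ∧
      IntermediateField.adjoin k (Set.range v) = ⊤ := by
  refine exists_coords ι ?_
  rw [hι]
  exact VarietyA.ResMap.specMap_resMap k X (genericPoint X)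

include hι in
theorem trdeg_eq {r : ℕ} (hdim : topologicalKrullDim X = r) :
    Algebra.trdeg k (X.residueField (genericPoint X)) = (r : Cardinal.{u}) := by
  obtain ⟨j, v, -, -, hv⟩ := exists_coords' ι hι
  have h1 : Algebra.trdeg k (X.residueField (genericPoint X)) ≤ Cardinal.mk (Set.range v) := by
    have halg : Algebra.IsAlgebraic (Algebra.adjoin k (Set.range v)) (X.residueField (genericPoint X)) := by
      rw [← IntermediateField.isAlgebraic_adjoin_iff_top, hv]
      refine ⟨fun x => ?_⟩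
      exact isAlgebraic_algebraMap (⟨x, IntermediateField.mem_top⟩ : (⊤ : IntermediateField k
        (X.residueField (genericPoint X))))
    exact Algebra.IsAlgebraic.trdeg_le_cardinalMk k (Set.range v)
  have h2 : Algebra.trdeg k (X.residueField (genericPoint X)) < Cardinal.aleph0 :=
    h1.trans_lt (Cardinal.lt_aleph0_of_finite _)
  obtain ⟨n, hn⟩ := Cardinal.lt_aleph0.mp h2
  have hlft : LocallyOfFiniteType (X ↘ Spec (CommRingCat.of k)) := by
    have := Groth.Agent.Ega3B.ProjProper.isProper_toSpec N k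
    rw [← hι]
    infer_instance
  have h3 := S1619.result k X n hn
  rw [hdim] at h3
  have h4 : r = n := by exact_mod_cast h3
  rw [hn, h4]

include hι in
theorem exists_coneData {r : ℕ} (hdim : topologicalKrullDim X = r) {c : ℝ} (hT : HT ι r c) :
    ∃ b : Fin (N + 1) → FractionRing (Polynomial (X.residueField (genericPoint X))),
      ConeData ι r c (FractionRing (Polynomial (X.residueField (genericPoint X)))) b := by
  obtain ⟨j, v, hj, hF, hv⟩ := exists_coords' ι hι
  refine ⟨β v, adjoin_β v hv hj, ?_, ?_, ?_⟩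
  · rw [trdeg_frac, trdeg_eq ι hι hdim]
    push_cast; rfl
  · refine tendsto_hf v ?_
    have h1 : (fun t : ℕ => (HilbCone.H (k := k) v t : ℝ) / (t : ℝ) ^ r) = fun t : ℕ =>
      (Module.finrank k ((MvPolynomial.homogeneousSubmodule (Fin (N + 1)) k t).map
        (Ideal.Quotient.mkₐ k (hI ι)).toLinearMap) : ℝ) / (t : ℝ) ^ r := by
      funext t
      rw [H_eq v hF]
    rw [h1]
    exact hT
  · intro F
    rw [aeval_β_eq_zero_iff]
    constructor
    · intro h
      rw [← MvPolynomial.sum_homogeneousComponent F]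
      refine sum_mem fun d _ => ?_
      exact (hF d _ (MvPolynomial.homogeneousComponent_isHomogeneous d F)).mpr (h d)
    · intro h d
      exact (hF d _ (MvPolynomial.homogeneousComponent_isHomogeneous d F)).mp (component_mem ι F h d)

omit [IsClosedImmersion ι] in
include hι in
theorem isDomain_of_geomIrr [PerfectField k] [GeometricallyIrreducible (ι ≫ CohB1.ProjSpace.toSpec N k)] :
    IsDomain (TensorProduct k (AlgebraicClosure k)
      (FractionRing (Polynomial (X.residueField (genericPoint X))))) := by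
  have h1 : GeometricallyIrreducible (X ↘ Spec (CommRingCat.of k)) := by
    rw [← hι]; infer_instance
  refine isDomain_tensor fun x hx => ?_
  exact isSeparable_mem_range ((S1540.result k X).mp h1) x hx

end exist

/-! ### From the cone to the projective variety -/

theorem conv {q : ℝ} (hq : 2 ≤ q) (r : ℕ) {n B A m : ℝ} (hA : 0 ≤ A) (hm : 0 ≤ m)
    (h : |n * (q - 1) + 1 - m * q ^ (r + 1)| ≤ B * (q ^ r * Real.sqrt q) + A * q ^ r) :
    |n - m * q ^ r| ≤ B * q ^ ((r : ℝ) - 1 / 2) + (2 * |B| + 2 * A + 2 * m + 2) * q ^ ((r : ℝ) - 1) := by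
  have hq0 : 0 < q := by linarith
  set Q : ℝ := q ^ ((r : ℝ) - 1) with hQ
  set s : ℝ := Real.sqrt q with hs
  have hQ0 : 0 < Q := Real.rpow_pos_of_pos hq0 _
  have hss : s * s = q := Real.mul_self_sqrt hq0.le
  have hs1 : 1 ≤ s := by
    rw [hs]; exact Real.one_le_sqrt.mpr (by linarith)
  have hQr : q ^ r = Q * q := by
    rw [hQ, Real.rpow_sub hq0, Real.rpow_natCast, Real.rpow_one, div_mul_cancel₀ _ hq0.ne']
  have hQs : q ^ ((r : ℝ) - 1 / 2) = Q * s := by
    rw [Real.rpow_sub hq0, Real.rpow_natCast, ← Real.sqrt_eq_rpow, hQr, ← hs, ← hss]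
    field_simp
  have hq1 : 0 < q - 1 := by linarith
  rw [pow_succ, hQr] at h
  rw [hQs, hQr]
  have hge : 1 ≤ Q * q := by
    rw [← hQr]; exact one_le_pow₀ (by linarith)
  have h1 : |n - m * (Q * q)| * (q - 1) ≤ B * (Q * q * s) + A * (Q * q) + (m + 1) * (Q * q) := by
    have h2 : (n - m * (Q * q)) * (q - 1) = (n * (q - 1) + 1 - m * (Q * q * q)) + (m * (Q * q) - 1) := by ring
    have h3 : |n - m * (Q * q)| * (q - 1) = |(n - m * (Q * q)) * (q - 1)| := by
      rw [abs_mul, abs_of_pos hq1]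
    rw [h3, h2]
    refine (abs_add_le _ _).trans (add_le_add h ?_)
    rw [abs_le]
    constructor <;> nlinarith
  have h4 : (B * (Q * s) + (2 * |B| + 2 * A + 2 * m + 2) * Q) * (q - 1) ≥
      B * (Q * q * s) + A * (Q * q) + (m + 1) * (Q * q) := by
    have hB := neg_abs_le B
    have hB' := le_abs_self B
    have hB0 := abs_nonneg B
    have hsq : s ≤ q := by nlinarith
    have h5 : 0 ≤ |B| * Q * (2 * (q - 1) - s) - (B - |B|) * Q * s := by
      have h6 : 0 ≤ |B| * Q * (2 * (q - 1) - s) := mul_nonneg (mul_nonneg hB0 hQ0.le) (by linarith)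
      have h7 : (B - |B|) * Q * s ≤ 0 :=
        mul_nonpos_of_nonpos_of_nonneg (mul_nonpos_of_nonpos_of_nonneg (by linarith) hQ0.le) (by linarith)
      linarith
    have h8 : 0 ≤ (A + m + 1) * Q * (2 * (q - 1) - q) :=
      mul_nonneg (mul_nonneg (by linarith) hQ0.le) (by linarith)
    have h9 : (B * (Q * s) + (2 * |B| + 2 * A + 2 * m + 2) * Q) * (q - 1) -
        (B * (Q * q * s) + A * (Q * q) + (m + 1) * (Q * q)) =
        (|B| * Q * (2 * (q - 1) - s) - (B - |B|) * Q * s) + (A + m + 1) * Q * (2 * (q - 1) - q) := by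
      ring
    linarith
  exact le_of_mul_le_mul_right (h1.trans h4) hq1

theorem pc_le {q n A r : ℕ} (hq : 2 ≤ q) (h : n * (q - 1) + 1 ≤ A * q ^ (r + 1)) : n ≤ 2 * A * q ^ r := by
  obtain ⟨s, rfl⟩ := Nat.exists_eq_add_of_le hq
  have h1 : 2 + s - 1 = s + 1 := by omega
  rw [h1, pow_succ] at h
  have h2 : n * (2 + s) ≤ 2 * A * (2 + s) ^ r * (2 + s) := by nlinarith
  exact Nat.le_of_mul_le_mul_right h2 (by omega)

end K467.Assem
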