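import Groth.Agent.Zeta.K467.SharpPC
import Mathlib.RingTheory.Polynomial.GaussLemma

/-!
# Common zeros of two plane curves without common component
-/

set_option autoImplicit false
open Polynomial

namespace K467.Bez

open K467.LinNoether K467.AbsIrr K467.PlaneModel K467.ResDeg

universe u v

section

variable {k : Type u} [Field k]

/-- The shear as an automorphism. -/
noncomputable def shearEquiv {s : ℕ} (c : Fin s → k) :
    MvPolynomial (Fin (s + 1)) k ≃ₐ[k] MvPolynomial (Fin (s + 1)) k :=
  AlgEquiv.ofAlgHom (shear c) (shear (-c))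
    (AlgHom.ext fun F => shear_shear_neg c F) (AlgHom.ext fun F => shear_neg_shear c F)

/-- `MvPolynomial (Fin 1) k ≃ k[X]` -/
noncomputable def e1Equiv : MvPolynomial (Fin 1) k ≃ₐ[k] k[X] :=
  AlgEquiv.ofAlgHom (e1 k) (e1inv k)
    (AlgHom.ext fun F => e1_e1inv F) (AlgHom.ext fun F => e1inv_e1 F)

/-- `MvPolynomial (Fin 2) k ≃ k[X][X]` -/
noncomputable def Th (c : Fin 1 → k) : MvPolynomial (Fin 2) k ≃+* k[X][X] :=
  ((shearEquiv c).trans (MvPolynomial.finSuccEquiv k 1)).toRingEquiv.trans
    (Polynomial.mapEquiv (e1Equiv (k := k)).toRingEquiv)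

theorem Th_apply (c : Fin 1 → k) (F : MvPolynomial (Fin 2) k) :
    Th c F = (uni c F).map (e1 k : MvPolynomial (Fin 1) k →+* k[X]) := rfl

theorem GG_eq (F : MvPolynomial (Fin 2) k) (c : Fin 1 → k) :
    GG F c = C (C (MvPolynomial.eval c (top F))⁻¹) * Th c F := by
  rw [GG, mon, Polynomial.map_mul, Th_apply]
  congr 1
  rw [map_C]
  congr 1
  simp [e1]

theorem isUnit_CC {a : k} (ha : a ≠ 0) : IsUnit (C (C a) : k[X][X]) :=
  ((isUnit_iff_ne_zero.2 ha).map C).map C

theorem irreducible_GG {F : MvPolynomial (Fin 2) k} (hF : Irreducible F) (c : Fin 1 → k)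
    (hc : MvPolynomial.eval c (top F) ≠ 0) : Irreducible (GG F c) := by
  rw [GG_eq, irreducible_isUnit_mul (isUnit_CC (inv_ne_zero hc))]
  exact (MulEquiv.irreducible_iff (Th c).toMulEquiv).2 hF

theorem dvd_of_GG_dvd {F : MvPolynomial (Fin 2) k} (c : Fin 1 → k) {H : MvPolynomial (Fin 2) k}
    (h : GG F c ∣ Th c H) : F ∣ H := by
  have h1 : Th c F ∣ Th c H := by
    refine dvd_trans ?_ h
    rw [GG_eq]
    exact dvd_mul_left _ _
  exact (map_dvd_iff (Th c)).1 h1

theorem natDegree_Th_le (c : Fin 1 → k) (H : MvPolynomial (Fin 2) k) :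
    (Th c H).natDegree ≤ H.totalDegree := by
  rw [Th_apply]
  exact natDegree_map_le.trans (natDegree_uni_le c H)

theorem natDegree_coeff_Th_le (c : Fin 1 → k) (H : MvPolynomial (Fin 2) k) (j : ℕ) :
    ((Th c H).coeff j).natDegree ≤ H.totalDegree := by
  rw [Th_apply, coeff_map]
  by_cases h : (uni c H).coeff j = 0
  · rw [h, map_zero, natDegree_zero]; exact Nat.zero_le _
  · have := totalDegree_coeff_uni c H j h
    have h2 := natDegree_e1_le ((uni c H).coeff j)
    change (e1 k _).natDegree ≤ _
    omega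

theorem eval_Th (c : Fin 1 → k) (H : MvPolynomial (Fin 2) k) (y : Fin 2 → k) :
    ((Th c H).map (evalRingHom (ynew c y 0))).eval (y 0) = MvPolynomial.eval y H := by
  have h2 : ((aeval (ynew c y 0) : k[X] →ₐ[k] k) : k[X] →+* k) = evalRingHom (ynew c y 0) := by
    ext <;> simp
  rw [Th_apply, Polynomial.map_map, ← h2, ← aeval_ynew_eq, ← E_apply, eval_E, MvPolynomial.aeval_eq_eval]

/-- The resultant of two coprime polynomials is nonzero. -/
theorem resultant_ne {F : MvPolynomial (Fin 2) k} (hF : Irreducible F) (c : Fin 1 → k)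
    (hc : MvPolynomial.eval c (top F) ≠ 0) {H : MvPolynomial (Fin 2) k} (hH : ¬ F ∣ H) :
    resultant (GG F c) (Th c H) F.totalDegree (Th c H).natDegree ≠ 0 := by
  intro h0
  let φ := algebraMap k[X] (FractionRing k[X])
  have hφ : Function.Injective φ := IsFractionRing.injective _ _
  have h1 := congrArg φ h0
  rw [map_zero, ← resultant_map_map] at h1
  have hm := monic_GG F c hc
  have hd1 : F.totalDegree = ((GG F c).map φ).natDegree := by
    rw [hm.natDegree_map, natDegree_GG F c hc]
  have hd2 : (Th c H).natDegree = ((Th c H).map φ).natDegree :=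
    (natDegree_map_eq_of_injective hφ _).symm
  rw [hd1, hd2, resultant_eq_zero_iff] at h1
  have hirr : Irreducible ((GG F c).map φ) :=
    (hm.irreducible_iff_irreducible_map_fraction_map (K := FractionRing k[X])).1
      (irreducible_GG hF c hc)
  have h3 := h1.2
  rw [hirr.coprime_iff_not_dvd, not_not, map_dvd_map φ hφ hm] at h3
  exact hH (dvd_of_GG_dvd c h3)

theorem card_common_le [Finite k] {F : MvPolynomial (Fin 2) k} (hF : Irreducible F)
    {H : MvPolynomial (Fin 2) k} (hH : ¬ F ∣ H) (D : ℕ) (hFD : F.totalDegree ≤ D)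
    (hHD : H.totalDegree ≤ D) :
    Nat.card {x : Fin 2 → k // MvPolynomial.eval x F = 0 ∧ MvPolynomial.eval x H = 0} ≤
      (D + 1) ^ 2 + 2 * D * D * D := by
  classical
  cases nonempty_fintype k
  by_cases hq : F.totalDegree + 1 < Nat.card k
  · obtain ⟨c, hc, -⟩ := exists_good (K := k) F hF.ne_zero (fun i => if i = 0 then 1 else 0)
      ⟨0, by simp⟩ hq
    set R := resultant (GG F c) (Th c H) F.totalDegree (Th c H).natDegree with hR
    have hR0 : R ≠ 0 := resultant_ne hF c hc hH
    have hD1 := pos_of_irreducible F hF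
    have hdeg : R.natDegree ≤ 2 * D * D := by
      have h1 := degFun_natDegree.resultant_le (GG F c) (Th c H) F.totalDegree (Th c H).natDegree D
        (fun i => (coeff_GG F c i).trans ((Nat.sub_le _ _).trans hFD))
        (fun i => (natDegree_coeff_Th_le c H i).trans hHD)
      refine h1.trans ?_
      have h2 := (natDegree_Th_le c H).trans hHD
      apply Nat.mul_le_mul_right
      omega
    obtain ⟨p, q, -, -, hpq⟩ := exists_mul_add_mul_eq_C_resultant (m := F.totalDegree)
      (n := (Th c H).natDegree) (GG F c) (Th c H) (natDegree_GG F c hc).le le_rfl (Or.inl (by omega))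
    let T : Finset (Σ _ : k, k) :=
      R.roots.toFinset.sigma fun a => ((GG F c).map (evalRingHom a)).roots.toFinset
    have hT : T.card ≤ 2 * D * D * D := by
      rw [Finset.card_sigma]
      have h1 : ∀ a ∈ R.roots.toFinset, ((GG F c).map (evalRingHom a)).roots.toFinset.card ≤ D := by
        intro a _
        refine (Multiset.toFinset_card_le _).trans ((card_roots' _).trans ?_)
        rw [(monic_GG F c hc).natDegree_map, natDegree_GG F c hc]
        exact hFD
      refine (Finset.sum_le_card_nsmul _ _ _ h1).trans ?_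
      rw [smul_eq_mul]
      apply Nat.mul_le_mul_right
      exact (Multiset.toFinset_card_le _).trans ((card_roots' _).trans hdeg)
    have hmem : ∀ x : {x : Fin 2 → k // MvPolynomial.eval x F = 0 ∧ MvPolynomial.eval x H = 0},
        (⟨ynew c x.1 0, x.1 0⟩ : Σ _ : k, k) ∈ T := by
      rintro ⟨x, hx1, hx2⟩
      rw [Finset.mem_sigma, Multiset.mem_toFinset, Multiset.mem_toFinset, mem_roots hR0,
        mem_roots ((monic_GG F c hc).map _).ne_zero]
      have h1 : ((GG F c).map (evalRingHom (ynew c x 0))).eval (x 0) = 0 :=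
        (eval_GG_eq_zero_iff F c hc x).2 hx1
      have h2 : ((Th c H).map (evalRingHom (ynew c x 0))).eval (x 0) = 0 := by
        rw [eval_Th, hx2]
      refine ⟨?_, h1⟩
      have h3 := congrArg (fun f : k[X][X] => (f.map (evalRingHom (ynew c x 0))).eval (x 0)) hpq
      simp only [Polynomial.map_add, Polynomial.map_mul, eval_add, eval_mul, h1, h2, zero_mul,
        add_zero, map_C, eval_C] at h3
      exact h3.symm
    have hinj : Function.Injective
        (fun x : {x : Fin 2 → k // MvPolynomial.eval x F = 0 ∧ MvPolynomial.eval x H = 0} =>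
          (⟨⟨ynew c x.1 0, x.1 0⟩, hmem x⟩ : T)) := by
      rintro ⟨x, hx⟩ ⟨y, hy⟩ h
      have h1 : (⟨ynew c x 0, x 0⟩ : Σ _ : k, k) = ⟨ynew c y 0, y 0⟩ := congrArg Subtype.val h
      have h2 : x 0 = y 0 := by
        have := congrArg (fun s : Σ _ : k, k => s.2) h1
        exact this
      have h3 : ynew c x 0 = ynew c y 0 := congrArg (fun s : Σ _ : k, k => s.1) h1
      apply Subtype.ext
      funext i
      fin_cases i
      · exact h2
      · simp only [ynew, Fin.succ_zero_eq_one] at h3
        simp only [Fin.mk_one]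
        rw [h2] at h3
        exact sub_left_injective h3
    have := Nat.card_le_card_of_injective _ hinj
    rw [Nat.card_eq_finsetCard] at this
    exact (this.trans hT).trans (Nat.le_add_left _ _)
  · have hqd : Nat.card k ≤ D + 1 := by omega
    have h1 : Nat.card {x : Fin 2 → k // MvPolynomial.eval x F = 0 ∧ MvPolynomial.eval x H = 0} ≤
        Nat.card (Fin 2 → k) := Nat.card_le_card_of_injective _ Subtype.val_injective
    have h2 : Nat.card (Fin 2 → k) = Nat.card k ^ 2 := by rw [Nat.card_pi]; simp
    rw [h2] at h1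
    exact h1.trans ((Nat.pow_le_pow_left hqd 2).trans (Nat.le_add_right _ _))

end

end K467.Bez
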