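import Mathlib.RingTheory.Polynomial.Resultant.Basic
import Mathlib.FieldTheory.Separable
import Mathlib.Algebra.MvPolynomial.Degrees

/-!
# Degrees of resultants
-/

set_option autoImplicit false
open Polynomial

namespace K467.ResDeg

universe u v

/-- A degree function on a commutative ring. -/
structure DegFun (A : Type u) [CommRing A] (deg : A → ℕ) : Prop where
  zero : deg 0 = 0
  one : deg 1 = 0
  add : ∀ x y, deg (x + y) ≤ max (deg x) (deg y)
  mul : ∀ x y, deg (x * y) ≤ deg x + deg y
  neg : ∀ x, deg (-x) = deg x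

variable {A : Type u} [CommRing A] {deg : A → ℕ} (h : DegFun A deg)

include h

namespace DegFun

theorem sum_le {ι : Type*} (s : Finset ι) (f : ι → A) (B : ℕ) (hf : ∀ i ∈ s, deg (f i) ≤ B) :
    deg (∑ i ∈ s, f i) ≤ B := by
  classical
  induction s using Finset.induction_on with
  | empty => rw [Finset.sum_empty, h.zero]; exact Nat.zero_le _
  | insert a s ha ih =>
    rw [Finset.sum_insert ha]
    exact (h.add _ _).trans (max_le (hf a (Finset.mem_insert_self _ _))
      (ih fun i hi => hf i (Finset.mem_insert_of_mem hi)))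

theorem prod_le {ι : Type*} (s : Finset ι) (f : ι → A) (B : ℕ) (hf : ∀ i ∈ s, deg (f i) ≤ B) :
    deg (∏ i ∈ s, f i) ≤ s.card * B := by
  classical
  induction s using Finset.induction_on with
  | empty => rw [Finset.prod_empty, h.one]; exact Nat.zero_le _
  | insert a s ha ih =>
    rw [Finset.prod_insert ha, Finset.card_insert_of_notMem ha, add_mul, one_mul, add_comm]
    exact (h.mul _ _).trans (add_le_add (hf a (Finset.mem_insert_self _ _))
      (ih fun i hi => hf i (Finset.mem_insert_of_mem hi)))

theorem natCast (n : ℕ) : deg (n : A) = 0 := by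
  induction n with
  | zero => rw [Nat.cast_zero, h.zero]
  | succ n ih =>
    rw [Nat.cast_succ]
    have := h.add (n : A) 1
    rw [ih, h.one] at this
    simpa using this

theorem det_le {n : ℕ} (M : Matrix (Fin n) (Fin n) A) (B : ℕ) (hM : ∀ i j, deg (M i j) ≤ B) :
    deg M.det ≤ n * B := by
  rw [Matrix.det_apply]
  refine h.sum_le _ _ _ fun σ _ => ?_
  have h1 : deg (∏ i, M (σ i) i) ≤ n * B := by
    have := h.prod_le Finset.univ (fun i => M (σ i) i) B (fun i _ => hM _ _)
    simpa using this
  rcases Int.units_eq_one_or (Equiv.Perm.sign σ) with h2 | h2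
  · rw [h2, one_smul]; exact h1
  · rw [h2, Units.neg_smul, one_smul, h.neg]; exact h1

theorem resultant_le (f g : A[X]) (m n : ℕ) (B : ℕ) (hf : ∀ i, deg (f.coeff i) ≤ B)
    (hg : ∀ i, deg (g.coeff i) ≤ B) : deg (resultant f g m n) ≤ (m + n) * B := by
  unfold resultant
  refine h.det_le _ _ fun i j => ?_
  unfold sylvester
  rw [Matrix.of_apply]
  refine Fin.addCases (fun j => ?_) (fun j => ?_) j
  · rw [Fin.addCases_left]
    split_ifs
    · exact hg _
    · rw [h.zero]; exact Nat.zero_le _
  · rw [Fin.addCases_right]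
    split_ifs
    · exact hf _
    · rw [h.zero]; exact Nat.zero_le _

theorem coeff_derivative_le (f : A[X]) (B : ℕ) (hf : ∀ i, deg (f.coeff i) ≤ B) (i : ℕ) :
    deg ((derivative f).coeff i) ≤ B := by
  rw [coeff_derivative]
  refine (h.mul _ _).trans ?_
  have h1 : deg ((i : A) + 1) = 0 := by
    have := h.natCast (i + 1)
    rwa [Nat.cast_succ] at this
  rw [h1, add_zero]
  exact hf _

theorem disc_le (f : A[X]) (D : ℕ) (hD : 1 ≤ D) (B : ℕ) (hf : ∀ i, deg (f.coeff i) ≤ B) :
    deg (resultant f (derivative f) D (D - 1)) ≤ (2 * D - 1) * B := by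
  have := h.resultant_le f (derivative f) D (D - 1) B hf (h.coeff_derivative_le f B hf)
  have h2 : D + (D - 1) = 2 * D - 1 := by omega
  rwa [h2] at this

end DegFun

omit h

theorem degFun_natDegree {k : Type u} [Field k] : DegFun k[X] Polynomial.natDegree where
  zero := natDegree_zero
  one := natDegree_one
  add := natDegree_add_le
  mul _ _ := natDegree_mul_le
  neg := natDegree_neg

theorem degFun_totalDegree {k : Type u} [Field k] {σ : Type v} :
    DegFun (MvPolynomial σ k) MvPolynomial.totalDegree where
  zero := MvPolynomial.totalDegree_zero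
  one := MvPolynomial.totalDegree_one
  add := MvPolynomial.totalDegree_add
  mul := MvPolynomial.totalDegree_mul
  neg := MvPolynomial.totalDegree_neg

/-- The discriminant detects squarefree specializations. -/
theorem squarefree_of_disc_ne_zero {A : Type u} [CommRing A] {k : Type v} [Field k] (f : A[X])
    (hf : f.Monic) (D : ℕ) (hD : f.natDegree = D) (hD1 : 1 ≤ D) (φ : A →+* k)
    (h : φ (resultant f (derivative f) D (D - 1)) ≠ 0) : (f.map φ).Separable := by
  rw [← resultant_map_map, ← derivative_map] at h
  have hfD : (f.map φ).natDegree ≤ D := by rw [hf.natDegree_map, hD]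
  obtain ⟨p, q, -, -, hpq⟩ := exists_mul_add_mul_eq_C_resultant (m := D) (n := D - 1) (f.map φ)
    (derivative (f.map φ)) hfD ((natDegree_derivative_le _).trans (by omega)) (Or.inl (by omega))
  set r := resultant (f.map φ) (derivative (f.map φ)) D (D - 1) with hr
  refine ⟨C r⁻¹ * p, C r⁻¹ * q, ?_⟩
  calc C r⁻¹ * p * f.map φ + C r⁻¹ * q * derivative (f.map φ) =
        C r⁻¹ * (f.map φ * p + derivative (f.map φ) * q) := by ring
    _ = 1 := by rw [hpq, ← map_mul, inv_mul_cancel₀ h, map_one]

/-- The discriminant of a polynomial which is separable over a field extension is nonzero. -/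
theorem disc_ne_zero {A : Type u} [CommRing A] {L : Type v} [Field L] (f : A[X])
    (hf : f.Monic) (D : ℕ) (hD : f.natDegree = D) (hD1 : 1 ≤ D) (φ : A →+* L)
    (h : (f.map φ).Separable) : resultant f (derivative f) D (D - 1) ≠ 0 := by
  intro h0
  have h1 := congrArg φ h0
  rw [map_zero, ← resultant_map_map, ← derivative_map] at h1
  have hfm : (f.map φ).Monic := hf.map φ
  have hfD : (f.map φ).natDegree = D := by rw [hf.natDegree_map, hD]
  have h2 : (derivative (f.map φ)).natDegree ≤ D - 1 := (natDegree_derivative_le _).trans (by omega)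
  obtain ⟨j, hj⟩ := Nat.exists_eq_add_of_le h2
  rw [hj, resultant_add_right_deg _ _ _ _ _ le_rfl] at h1
  have h3 : (f.map φ).coeff D = 1 := by rw [← hfD]; exact hfm
  rw [h3, one_pow, one_mul, ← hfD] at h1
  rw [resultant_eq_zero_iff] at h1
  exact h1.2 h

end K467.ResDeg
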