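import Groth.Agent.Zeta.K467.Prim
import Groth.Agent.Zeta.K467.ResDeg
import Mathlib.RingTheory.DedekindDomain.Different
import Mathlib.Algebra.MvPolynomial.SchwartzZippel

/-!
# The conductor and birational comparison of point counts
-/

set_option autoImplicit false

namespace K467.Conduct

open LinNoether HilbDeg LinNorm AffPts AffUB Prim

universe u v

section cond

open Polynomial

/-- `f'(z) · (integral closure) ⊆ A[z]`. -/
theorem deriv_mul_mem (A K : Type*) {L : Type u} [CommRing A] [IsDomain A] [IsIntegrallyClosed A] [Field K] [Field L]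
    [Algebra A K] [IsFractionRing A K] [Algebra K L] [Algebra A L] [IsScalarTower A K L]
    [FiniteDimensional K L] [Algebra.IsSeparable K L] {z : L} (hz : Algebra.adjoin K {z} = ⊤)
    (hAz : IsIntegral A z) {x : L} (hx : IsIntegral A x) :
    aeval z (derivative (minpoly A z)) * x ∈ Algebra.adjoin A {z} := by
  have h1 := traceForm_dualSubmodule_adjoin A K hz hAz
  have h2 : x ∈ (Algebra.traceForm K L).dualSubmodule (Subalgebra.toSubmodule (Algebra.adjoin A {z})) := by
    rw [LinearMap.BilinForm.mem_dualSubmodule]
    intro c hc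
    have hci : IsIntegral A c := by
      have : Algebra.adjoin A {z} ≤ integralClosure A L := by
        rw [Algebra.adjoin_le_iff]
        rintro _ rfl
        exact hAz
      exact this hc
    have h3 : IsIntegral A (Algebra.trace K L (x * c)) := Algebra.isIntegral_trace (hx.mul hci)
    obtain ⟨a, ha⟩ := IsIntegrallyClosed.isIntegral_iff.1 h3
    rw [Submodule.mem_one]
    exact ⟨a, by rw [ha, Algebra.traceForm_apply]⟩
  rw [h1, Submodule.mem_smul_pointwise_iff_exists] at h2
  obtain ⟨c, hc, hcx⟩ := h2
  have h4 : minpoly K z = (minpoly A z).map (algebraMap A K) :=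
    minpoly.isIntegrallyClosed_eq_field_fractions' K hAz
  have h5 : aeval z (derivative (minpoly K z)) = aeval z (derivative (minpoly A z)) := by
    rw [h4, derivative_map, aeval_map_algebraMap]
  have h6 : aeval z (derivative (minpoly K z)) ≠ 0 :=
    (Algebra.IsSeparable.isSeparable K z).aeval_derivative_ne_zero (minpoly.aeval _ _)
  rw [h5] at h6 hcx
  rw [← hcx, smul_eq_mul, ← mul_assoc, mul_inv_cancel₀ h6, one_mul]
  exact hc

end cond

section bir

variable {k : Type u} [Field k] {L : Type v} [Field L] [Algebra k L]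

/-- Points away from `h` of `B` and of a subalgebra `C` with `h B ⊆ C`. -/
theorem card_away_eq {B C : Subalgebra k L} (hCB : C ≤ B) (h : C)
    (hh : ∀ x ∈ B, (h : L) * x ∈ C) :
    Nat.card {χ : B →ₐ[k] k // χ (Subalgebra.inclusion hCB h) ≠ 0} = Nat.card {ψ : C →ₐ[k] k // ψ h ≠ 0} := by
  refine Nat.card_congr (Equiv.ofBijective
    (fun χ => ⟨χ.1.comp (Subalgebra.inclusion hCB), χ.2⟩) ⟨?_, ?_⟩)
  · rintro ⟨χ, hχ⟩ ⟨χ', hχ'⟩ heq
    apply Subtype.ext
    have h1 : ∀ c : C, χ (Subalgebra.inclusion hCB c) = χ' (Subalgebra.inclusion hCB c) := fun c =>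
      DFunLike.congr_fun (congrArg Subtype.val heq) c
    ext x
    have h2 : (Subalgebra.inclusion hCB h) * x = Subalgebra.inclusion hCB ⟨h * x, hh x x.2⟩ := rfl
    have h3 : χ (Subalgebra.inclusion hCB h) * χ x = χ' (Subalgebra.inclusion hCB h) * χ' x := by
      rw [← map_mul, ← map_mul, h2, h1]
    rw [← h1 h] at h3
    exact mul_left_cancel₀ hχ h3
  · rintro ⟨ψ, hψ⟩
    let m : B → C := fun x => ⟨h * x, hh x x.2⟩
    have hm : ∀ x x' : B, h * m (x * x') = m x * m x' := fun x x' => Subtype.ext (by
      change (h : L) * (h * (x * x')) = (h * x) * (h * x')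
      ring)
    let χ : B →ₐ[k] k := AlgHom.mk'
      { toFun := fun x => ψ (m x) / ψ h
        map_one' := by
          have : m 1 = h := Subtype.ext (by change (h : L) * 1 = h; rw [mul_one])
          rw [this, div_self hψ]
        map_mul' := fun x x' => by
          have h1 := congrArg ψ (hm x x')
          rw [map_mul, map_mul] at h1
          field_simp
          rw [← h1]
          ring
        map_zero' := by
          have : m 0 = 0 := Subtype.ext (by change (h : L) * 0 = 0; rw [mul_zero])
          rw [this, map_zero, zero_div]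
        map_add' := fun x x' => by
          have : m (x + x') = m x + m x' := Subtype.ext (by
            change (h : L) * (x + x') = h * x + h * x'
            ring)
          rw [this, map_add, add_div] } (fun a x => by
        have : m (a • x) = a • m x := Subtype.ext (by
          change (h : L) * (a • (x : L)) = a • (h * (x : L))
          rw [mul_smul_comm])
        change ψ (m (a • x)) / ψ h = a • (ψ (m x) / ψ h)
        rw [this, map_smul, smul_eq_mul, smul_eq_mul, mul_div_assoc])
    have hχ : ∀ c : C, χ (Subalgebra.inclusion hCB c) = ψ c := fun c => by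
      have h1 : m (Subalgebra.inclusion hCB c) = h * c := Subtype.ext rfl
      change ψ (m (Subalgebra.inclusion hCB c)) / ψ h = ψ c
      rw [h1, map_mul, mul_div_cancel_left₀ _ hψ]
    refine ⟨⟨χ, by rw [hχ]; exact hψ⟩, ?_⟩
    apply Subtype.ext
    ext c
    exact hχ c

open MvPolynomial in
/-- Points of the algebra generated by `w` are the zeros of the generator of the relations. -/
noncomputable def ptsEquiv {ι : Type*} (w : ι → L) (F : MvPolynomial ι k) (hF : aeval w F = 0)
    (hdvd : ∀ G : MvPolynomial ι k, aeval w G = 0 → F ∣ G) :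
    (Algebra.adjoin k (Set.range w) →ₐ[k] k) ≃ {v : ι → k // eval v F = 0} :=
  Equiv.ofBijective (fun ψ => ⟨fun i => ψ ⟨w i, Algebra.subset_adjoin ⟨i, rfl⟩⟩,
      eval_point ψ (fun i => ⟨w i, Algebra.subset_adjoin ⟨i, rfl⟩⟩) F hF⟩) (by
    constructor
    · intro ψ ψ' h
      apply AlgHom.adjoin_ext
      rintro x ⟨i, rfl⟩
      exact congrFun (congrArg Subtype.val h) i
    · rintro ⟨v, hv⟩
      let π : MvPolynomial ι k →ₐ[k] Algebra.adjoin k (Set.range w) :=
        aeval (fun i => ⟨w i, Algebra.subset_adjoin ⟨i, rfl⟩⟩)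
      have hπval : ∀ G, (π G : L) = aeval w G := fun G => by
        have : (Algebra.adjoin k (Set.range w)).val.comp π = aeval w := by
          ext i; simp [π]
        exact DFunLike.congr_fun this G
      have hπ : Function.Surjective π := by
        rintro ⟨x, hx⟩
        rw [Algebra.adjoin_range_eq_range_aeval] at hx
        obtain ⟨G, rfl⟩ := hx
        exact ⟨G, Subtype.ext (hπval G)⟩
      have hker : ∀ G ∈ RingHom.ker π, aeval v G = 0 := by
        intro G hG
        have h1 : aeval w G = 0 := by
          rw [← hπval, (RingHom.mem_ker).1 hG]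
          rfl
        obtain ⟨H, rfl⟩ := hdvd G h1
        rw [map_mul, aeval_eq_eval, hv, zero_mul]
      let ψ : Algebra.adjoin k (Set.range w) →ₐ[k] k := AlgHom.liftOfSurjective π hπ (aeval v) hker
      refine ⟨ψ, ?_⟩
      apply Subtype.ext
      funext i
      have h1 : ψ (π (X i)) = aeval v (X i : MvPolynomial ι k) := AlgHom.liftOfSurjective_apply _ _ _ _ _
      simp only [π, aeval_X] at h1
      exact h1)

end bir

section zeros

open MvPolynomial

/-- Schwartz–Zippel. -/
theorem card_zeros_mul_le {k : Type u} [Field k] [Finite k] {R : ℕ} (E : MvPolynomial (Fin R) k) (hE : E ≠ 0) :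
    Nat.card {η : Fin R → k // eval η E = 0} * Nat.card k ≤ E.totalDegree * Nat.card k ^ R := by
  classical
  cases nonempty_fintype k
  have h := schwartz_zippel_totalDegree hE (Finset.univ : Finset k)
  have h1 : (Fintype.piFinset fun _ : Fin R => (Finset.univ : Finset k)) = Finset.univ := by
    ext; simp
  rw [h1, Finset.card_univ] at h
  have h2 : Nat.card {η : Fin R → k // eval η E = 0} = (Finset.univ.filter (fun η : Fin R → k => eval η E = 0)).card := by
    rw [Nat.card_eq_fintype_card, Fintype.card_subtype]
  rw [h2, Nat.card_eq_fintype_card]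
  have hk : (0 : ℚ≥0) < (Fintype.card k : ℚ≥0) := by exact_mod_cast Fintype.card_pos
  rw [div_le_div_iff₀ (pow_pos hk R) hk] at h
  exact_mod_cast h

end zeros

end K467.Conduct
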