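import Groth.Agent.Zeta.K467.LinNoether
import Mathlib.Data.Nat.Choose.Bounds
import Mathlib.Algebra.Order.Antidiag.FinsuppEquiv
import Mathlib.RingTheory.Polynomial.GaussLemma
import Mathlib.RingTheory.AlgebraicIndependent.Basic
import Mathlib.Analysis.SpecificLimits.Normed
import Mathlib.FieldTheory.Minpoly.Field

/-!
# Hilbert functions of affine varieties bound the degrees of relations between linear forms
-/

set_option autoImplicit false
open MvPolynomial Filter Topology

namespace K467.HilbDeg

universe u v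

section gauss

open Polynomial in
/-- An irreducible polynomial of positive degree generates the relations of a root. -/
theorem dvd_of_eval₂ {A : Type u} [CommRing A] [IsDomain A] [IsGCDMonoid A] {L : Type v} [Field L]
    (φ : A →+* L) (hφ : Function.Injective φ) (f : A[X]) (hf : Irreducible f) (hdeg : 0 < f.natDegree)
    (z : L) (hz : f.eval₂ φ z = 0) (g : A[X]) (hg : g.eval₂ φ z = 0) : f ∣ g := by
  let K := FractionRing A
  let ψ : K →+* L := IsFractionRing.lift (K := K) hφ
  have hψ : ψ.comp (algebraMap A K) = φ := by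
    ext a
    exact IsFractionRing.lift_algebraMap hφ a
  let _ : Algebra K L := ψ.toAlgebra
  have hev : ∀ h : A[X], Polynomial.aeval z (h.map (algebraMap A K)) = h.eval₂ φ z := by
    intro h
    rw [Polynomial.aeval_def, Polynomial.eval₂_map]
    congr 1
  have hprim : f.IsPrimitive := hf.isPrimitive hdeg.ne'
  have hirr : Irreducible (f.map (algebraMap A K)) :=
    (hprim.irreducible_iff_irreducible_map_fraction_map (K := K)).1 hf
  apply hprim.dvd_of_fraction_map_dvd_fraction_map (K := K)
  have h1 := minpoly.eq_of_irreducible hirr (x := z) (by rw [hev, hz])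
  have h2 : minpoly K z ∣ g.map (algebraMap A K) := minpoly.dvd K z (by rw [hev, hg])
  rw [← h1] at h2
  exact (dvd_mul_right _ _).trans h2

end gauss

section ker

variable {k : Type u} [Field k] {L : Type v} [Field L] [Algebra k L] {R : ℕ}

theorem aeval_eq_eval₂ (w : Fin (R + 1) → L) (F : MvPolynomial (Fin (R + 1)) k) :
    aeval w F = (finSuccEquiv k R F).eval₂
      ((aeval (fun i : Fin R => w i.succ) : MvPolynomial (Fin R) k →ₐ[k] L) : MvPolynomial (Fin R) k →+* L)
      (w 0) := by
  have h : ((aeval w : MvPolynomial (Fin (R + 1)) k →ₐ[k] L) : MvPolynomial (Fin (R + 1)) k →+* L) =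
      (Polynomial.eval₂RingHom ((aeval (fun i : Fin R => w i.succ) : MvPolynomial (Fin R) k →ₐ[k] L) :
        MvPolynomial (Fin R) k →+* L) (w 0)).comp (finSuccEquiv k R : MvPolynomial (Fin (R + 1)) k →+* _) := by
    apply MvPolynomial.ringHom_ext
    · intro a
      simp [finSuccEquiv_apply]
    · intro i
      refine Fin.cases ?_ (fun i => ?_) i
      · simp [finSuccEquiv_X_zero]
      · simp [finSuccEquiv_X_succ]
  exact DFunLike.congr_fun h F

/-- The relations of `w` are generated by one irreducible relation. -/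
theorem dvd_of_aeval (w : Fin (R + 1) → L) (hw : AlgebraicIndependent k (fun i : Fin R => w i.succ))
    (F : MvPolynomial (Fin (R + 1)) k) (hF : Irreducible F) (hFw : aeval w F = 0)
    (G : MvPolynomial (Fin (R + 1)) k) (hG : aeval w G = 0) : F ∣ G := by
  have hinj : Function.Injective
      ((aeval (fun i : Fin R => w i.succ) : MvPolynomial (Fin R) k →ₐ[k] L) : MvPolynomial (Fin R) k →+* L) :=
    hw
  have hF' : Irreducible (finSuccEquiv k R F) := (MulEquiv.irreducible_iff (finSuccEquiv k R)).2 hF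
  have hdeg : 0 < (finSuccEquiv k R F).natDegree := by
    by_contra h
    have h0 : (finSuccEquiv k R F).natDegree = 0 := by omega
    obtain ⟨a, ha⟩ := Polynomial.natDegree_eq_zero.1 h0
    rw [aeval_eq_eval₂, ← ha, Polynomial.eval₂_C] at hFw
    have h1 : a = 0 := hinj (by rw [hFw, map_zero])
    rw [h1, map_zero] at ha
    exact hF'.ne_zero ha.symm
  have h1 := dvd_of_eval₂ _ hinj _ hF' hdeg (w 0) (by rw [← aeval_eq_eval₂, hFw]) (finSuccEquiv k R G)
    (by rw [← aeval_eq_eval₂, hG])
  exact (map_dvd_iff (finSuccEquiv k R)).1 h1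

end ker

section count

/-- Monomials of degree at most `t` in `M` variables. -/
def mons (M t : ℕ) : Set (Fin M →₀ ℕ) := {a | (a.sum fun _ e => e) ≤ t}

theorem sum_eq_degree {M : ℕ} (a : Fin M →₀ ℕ) : (a.sum fun _ e => e) = a.degree := rfl

theorem mons_finite (M t : ℕ) : (mons M t).Finite := by
  classical
  refine Set.Finite.subset (Finset.finite_toSet ((Finset.range (t + 1)).biUnion fun s =>
    (Finset.univ : Finset (Fin M)).finsuppAntidiag s)) ?_
  intro a ha
  simp only [Finset.coe_biUnion, Set.mem_iUnion, Finset.mem_coe, Finset.mem_range, Finset.mem_finsuppAntidiag]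
  refine ⟨a.degree, Nat.lt_succ_of_le ha, ?_, Finset.subset_univ _⟩
  rw [Finsupp.degree_eq_sum]

theorem ncard_mons (M t : ℕ) :
    (mons M t).ncard = ∑ s ∈ Finset.range (t + 1), ((Finset.univ : Finset (Fin M)).finsuppAntidiag s).card := by
  classical
  rw [← Finset.card_biUnion]
  · rw [← Set.ncard_coe_finset]
    congr 1
    ext a
    simp only [Finset.coe_biUnion, Set.mem_iUnion, Finset.mem_coe, Finset.mem_range, Finset.mem_finsuppAntidiag]
    constructor
    · intro ha
      refine ⟨a.degree, Nat.lt_succ_of_le ha, ?_, Finset.subset_univ _⟩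
      rw [Finsupp.degree_eq_sum]
    · rintro ⟨s, hs, hs2, -⟩
      change (a.sum fun _ e => e) ≤ t
      rw [sum_eq_degree, Finsupp.degree_eq_sum, hs2]
      omega
  · intro s _ s' _ hss'
    rw [Function.onFun, Finset.disjoint_left]
    intro a ha ha'
    rw [Finset.mem_finsuppAntidiag] at ha ha'
    exact hss' (ha.1.symm.trans ha'.1)

/-- The difference of the numbers of monomials. -/
theorem mons_sub_ge (R t D : ℕ) (_hD : D ≤ t + 1) :
    (mons (R + 1) (t - D)).ncard + D * ((t + 1 - D + R).choose R) ≤ (mons (R + 1) t).ncard ∨ t < D := by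
  rcases Nat.lt_or_ge t D with h | h
  · exact Or.inr h
  left
  rw [ncard_mons, ncard_mons]
  have h1 : t + 1 = (t - D + 1) + D := by omega
  have h5 : ∑ s ∈ Finset.range (t + 1), ((Finset.univ : Finset (Fin (R + 1))).finsuppAntidiag s).card =
      ∑ s ∈ Finset.range (t - D + 1), ((Finset.univ : Finset (Fin (R + 1))).finsuppAntidiag s).card +
        ∑ s ∈ Finset.range D, ((Finset.univ : Finset (Fin (R + 1))).finsuppAntidiag (t - D + 1 + s)).card := by
    rw [h1, Finset.sum_range_add]
  rw [h5]
  have h2 : ∀ i ∈ Finset.range D, ((t + 1 - D + R).choose R) ≤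
      ((Finset.univ : Finset (Fin (R + 1))).finsuppAntidiag (t - D + 1 + i)).card := by
    intro i _
    rw [Finset.card_finsuppAntidiag_nat_eq_choose, Finset.card_univ, Fintype.card_fin]
    have h3 : R + 1 + (t - D + 1 + i) - 1 = R + (t - D + 1 + i) := by omega
    rw [h3, ← Nat.choose_symm (by omega : t - D + 1 + i ≤ R + (t - D + 1 + i))]
    have h4 : R + (t - D + 1 + i) - (t - D + 1 + i) = R := by omega
    rw [h4]
    exact Nat.choose_le_choose R (by omega)
  have h3 := Finset.card_nsmul_le_sum _ _ _ h2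
  rw [Finset.card_range, smul_eq_mul] at h3
  omega

end count

section hf

variable (k : Type u) [Field k] {L : Type v} [Field L] [Algebra k L]

/-- The (affine) Hilbert function of the subvariety with generic point `b`. -/
noncomputable def hf {N : ℕ} (b : Fin N → L) (t : ℕ) : ℕ :=
  Module.finrank k ((restrictTotalDegree (Fin N) k t).map
    (aeval b : MvPolynomial (Fin N) k →ₐ[k] L).toLinearMap)

variable {k}

instance finite_restrict (N t : ℕ) : Module.Finite k (restrictTotalDegree (Fin N) k t) := by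
  have : Finite (mons N t) := mons_finite N t
  exact Module.Finite.of_basis (basisRestrictSupport k (mons N t))

theorem finrank_restrict (N t : ℕ) :
    Module.finrank k (restrictTotalDegree (Fin N) k t) = (mons N t).ncard := by
  have hb := Module.finrank_eq_nat_card_basis (basisRestrictSupport k (mons N t))
  exact hb

instance finite_map {N : ℕ} (b : Fin N → L) (t : ℕ) :
    Module.Finite k ((restrictTotalDegree (Fin N) k t).map
    (aeval b : MvPolynomial (Fin N) k →ₐ[k] L).toLinearMap) := inferInstance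

/-- Hilbert functions and linear forms. -/
theorem map_le_of_span {N M : ℕ} (b : Fin N → L) (w : Fin M → L)
    (hw : ∀ i, w i ∈ Submodule.span k (Set.range b)) (t : ℕ) :
    (restrictTotalDegree (Fin M) k t).map (aeval w : MvPolynomial (Fin M) k →ₐ[k] L).toLinearMap ≤
      (restrictTotalDegree (Fin N) k t).map (aeval b : MvPolynomial (Fin N) k →ₐ[k] L).toLinearMap := by
  rintro _ ⟨G, hG, rfl⟩
  have h1 : ∀ i, ∃ c : Fin N → k, ∑ j, c j • b j = w i := fun i =>
    (Submodule.mem_span_range_iff_exists_fun k).1 (hw i)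
  choose c hc using h1
  let g : Fin M → MvPolynomial (Fin N) k := fun i => ∑ j, C (c i j) * X j
  refine ⟨aeval g G, ?_, ?_⟩
  · rw [SetLike.mem_coe, mem_restrictTotalDegree] at hG ⊢
    refine (LinNoether.totalDegree_aeval_le g (fun i => ?_) G).trans hG
    refine totalDegree_finsetSum_le fun j _ => ?_
    refine (totalDegree_mul _ _).trans ?_
    simp
  · have h2 : (aeval b : MvPolynomial (Fin N) k →ₐ[k] L).comp (aeval g) = aeval w := by
      ext i
      simp only [AlgHom.comp_apply, aeval_X, g, map_sum, map_mul, aeval_C]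
      rw [← hc i]
      simp [Algebra.smul_def]
    exact DFunLike.congr_fun h2 G

theorem hf_le_of_span {N M : ℕ} (b : Fin N → L) (w : Fin M → L)
    (hw : ∀ i, w i ∈ Submodule.span k (Set.range b)) (t : ℕ) : hf k w t ≤ hf k b t := by
  unfold hf
  exact Submodule.finrank_mono (map_le_of_span b w hw t)

/-- The lower bound for the Hilbert function of a hypersurface. -/
theorem hf_hyp_ge {R : ℕ} (w : Fin (R + 1) → L) (hw : AlgebraicIndependent k (fun i : Fin R => w i.succ))
    (F : MvPolynomial (Fin (R + 1)) k) (hF : Irreducible F) (hFw : aeval w F = 0) (t : ℕ)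
    (ht : F.totalDegree ≤ t) :
    F.totalDegree * ((t + 1 - F.totalDegree + R).choose R) ≤ hf k w t := by
  classical
  set D := F.totalDegree with hD
  let T := restrictTotalDegree (Fin (R + 1)) k t
  let φ : T →ₗ[k] L := (aeval w : MvPolynomial (Fin (R + 1)) k →ₐ[k] L).toLinearMap.domRestrict T
  have hr : LinearMap.range φ = T.map (aeval w : MvPolynomial (Fin (R + 1)) k →ₐ[k] L).toLinearMap :=
    LinearMap.range_domRestrict _ _
  have h1 := LinearMap.finrank_range_add_finrank_ker φ
  rw [hr, finrank_restrict] at h1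
  have h2 : Module.finrank k (LinearMap.ker φ) ≤ (mons (R + 1) (t - D)).ncard := by
    rw [← finrank_restrict (k := k)]
    let μ : restrictTotalDegree (Fin (R + 1)) k (t - D) →ₗ[k] MvPolynomial (Fin (R + 1)) k :=
      (LinearMap.mulLeft k F).domRestrict _
    have hker : (LinearMap.ker φ).map T.subtype ≤ LinearMap.range μ := by
      rintro _ ⟨⟨G, hGT⟩, hG, rfl⟩
      have hG0 : aeval w G = 0 := hG
      obtain ⟨H, hH⟩ := dvd_of_aeval w hw F hF hFw G hG0
      have hHT : H ∈ restrictTotalDegree (Fin (R + 1)) k (t - D) := by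
        rw [mem_restrictTotalDegree]
        rw [mem_restrictTotalDegree] at hGT
        by_cases hH0 : H = 0
        · rw [hH0, totalDegree_zero]; exact Nat.zero_le _
        · rw [hH, totalDegree_mul_of_isDomain hF.ne_zero hH0] at hGT
          omega
      exact ⟨⟨H, hHT⟩, hH.symm⟩
    have h3 : Module.finrank k (LinearMap.ker φ) = Module.finrank k ((LinearMap.ker φ).map T.subtype) :=
      (LinearEquiv.finrank_eq (Submodule.equivMapOfInjective T.subtype T.injective_subtype _))
    rw [h3]
    exact (Submodule.finrank_mono hker).trans (LinearMap.finrank_range_le μ)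
  have h3 := mons_sub_ge R t D (by omega)
  rcases h3 with h3 | h3
  · have h4 : hf k w t + Module.finrank k (LinearMap.ker φ) = (mons (R + 1) t).ncard := h1
    omega
  · omega

end hf

section growth

variable (k : Type u) [Field k] {L : Type v} [Field L] [Algebra k L]

/-- Degree bound: `R + 1` linear forms in `b`, the last `R` of them algebraically independent, satisfy a
relation of degree at most `d`. -/
def DB {N : ℕ} (b : Fin N → L) (R d : ℕ) : Prop :=
  ∀ w : Fin (R + 1) → L, (∀ i, w i ∈ Submodule.span k (Set.range b)) →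
    AlgebraicIndependent k (fun i : Fin R => w i.succ) →
      ∃ F : MvPolynomial (Fin (R + 1)) k, F ≠ 0 ∧ F.totalDegree ≤ d ∧ aeval w F = 0

/-- The Hilbert function grows at most like `d t ^ R / R!`. -/
def Growth {N : ℕ} (b : Fin N → L) (R : ℕ) (d : ℝ) : Prop :=
  ∀ ε : ℝ, 0 < ε → ∀ᶠ t : ℕ in atTop, (hf k b t : ℝ) ≤ (d / (R.factorial : ℝ) + ε) * (t : ℝ) ^ R

variable {k}

theorem exists_min {ι : Type*} (w : ι → L) (hw : ¬ AlgebraicIndependent k w) :
    ∃ F : MvPolynomial ι k, F ≠ 0 ∧ aeval w F = 0 ∧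
      ∀ G : MvPolynomial ι k, G ≠ 0 → aeval w G = 0 → F.totalDegree ≤ G.totalDegree := by
  set S := {F : MvPolynomial ι k | F ≠ 0 ∧ F.aeval w = 0}
  obtain ⟨F, ⟨hF₀, hFa⟩, hFmin⟩ :
      ∃ F ∈ S, ∀ G : MvPolynomial ι k, G ≠ 0 → G.aeval w = 0 → totalDegree F ≤ totalDegree G := by
    suffices h : S.Nonempty from
      ⟨totalDegree.argminOn S h, totalDegree.argminOn_mem ..,
        fun _ h₁ h₂ ↦ totalDegree.argminOn_le S ⟨h₁, h₂⟩⟩
    simpa [S, algebraicIndependent_iff, and_comm] using! hw
  exact ⟨F, hF₀, hFa, hFmin⟩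

theorem tendsto_ratio (a R : ℕ) :
    Tendsto (fun t : ℕ => (((t - a : ℕ) : ℝ) / t) ^ R) atTop (𝓝 1) := by
  have h1 : Tendsto (fun t : ℕ => 1 - (a : ℝ) / t) atTop (𝓝 (1 - 0)) :=
    tendsto_const_nhds.sub (tendsto_const_div_atTop_nhds_zero_nat (a : ℝ))
  rw [sub_zero] at h1
  have h2 := h1.pow R
  rw [one_pow] at h2
  refine h2.congr' ?_
  filter_upwards [eventually_ge_atTop (a + 1)] with t ht
  rw [Nat.cast_sub (by omega), sub_div, div_self]
  have : (0 : ℝ) < t := by exact_mod_cast (by omega : 0 < t)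
  exact this.ne'

/-- The growth of the Hilbert function bounds the degree of the relations. -/
theorem totalDegree_le_of_growth {N R : ℕ} {b : Fin N → L} {d : ℝ} (h : Growth k b R d) (w : Fin (R + 1) → L)
    (hwb : ∀ i, w i ∈ Submodule.span k (Set.range b))
    (hw : AlgebraicIndependent k (fun i : Fin R => w i.succ))
    (F : MvPolynomial (Fin (R + 1)) k) (hF : Irreducible F) (hFw : aeval w F = 0) :
    (F.totalDegree : ℝ) ≤ d := by
  set D := F.totalDegree with hD
  have hRf : (0 : ℝ) < (R.factorial : ℝ) := by exact_mod_cast Nat.factorial_pos R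
  have key : ∀ ε : ℝ, 0 < ε → (D : ℝ) ≤ d + ε * (R.factorial : ℝ) := by
    intro ε hε
    have h1 : Tendsto (fun t : ℕ => (D : ℝ) * (((t - D : ℕ) : ℝ) / t) ^ R) atTop (𝓝 ((D : ℝ) * 1)) :=
      (tendsto_ratio D R).const_mul _
    rw [mul_one] at h1
    refine le_of_tendsto h1 ?_
    filter_upwards [h ε hε, eventually_ge_atTop (D + 1)] with t ht1 ht2
    have ht0 : (0 : ℝ) < t := by exact_mod_cast (by omega : 0 < t)
    have h2 : (D : ℝ) * ((t + 1 - D + R).choose R : ℕ) ≤ hf k b t := by
      have := (hf_hyp_ge w hw F hF hFw t (by omega)).trans (hf_le_of_span b w hwb t)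
      exact_mod_cast this
    have h3 : (((t - D : ℕ) : ℝ)) ^ R / (R.factorial : ℝ) ≤ ((t + 1 - D + R).choose R : ℕ) := by
      refine le_trans ?_ (Nat.pow_le_choose (α := ℝ) R (t + 1 - D + R))
      have h8 : t - D ≤ t + 1 - D + R + 1 - R := by omega
      have h9 : ((t - D : ℕ) : ℝ) ≤ ((t + 1 - D + R + 1 - R : ℕ) : ℝ) := by exact_mod_cast h8
      exact div_le_div_of_nonneg_right (pow_le_pow_left₀ (Nat.cast_nonneg _) h9 R) hRf.le
    have h4 : (D : ℝ) * ((((t - D : ℕ) : ℝ)) ^ R / (R.factorial : ℝ)) ≤ (d / (R.factorial : ℝ) + ε) * (t : ℝ) ^ R :=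
      (mul_le_mul_of_nonneg_left h3 (Nat.cast_nonneg D)).trans (h2.trans ht1)
    rw [div_pow, ← mul_div_assoc, div_le_iff₀ (pow_pos ht0 R)]
    have h5 : (D : ℝ) * ((t - D : ℕ) : ℝ) ^ R = (D : ℝ) * ((((t - D : ℕ) : ℝ)) ^ R / (R.factorial : ℝ)) * (R.factorial : ℝ) := by
      field_simp
    rw [h5]
    calc _ ≤ (d / (R.factorial : ℝ) + ε) * (t : ℝ) ^ R * (R.factorial : ℝ) :=
          mul_le_mul_of_nonneg_right h4 hRf.le
      _ = _ := by field_simp
  by_contra hcon
  push Not at hcon
  have h6 := key (((D : ℝ) - d) / (2 * (R.factorial : ℝ))) (by apply div_pos <;> linarith)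
  have h7 : ((D : ℝ) - d) / (2 * (R.factorial : ℝ)) * (R.factorial : ℝ) = ((D : ℝ) - d) / 2 := by
    field_simp
  rw [h7] at h6
  linarith

theorem DB_of_growth {N R : ℕ} {b : Fin N → L} {d : ℝ} (h : Growth k b R d) (d' : ℕ) (hd' : d < d' + 1)
    (hdep : ∀ w : Fin (R + 1) → L, (∀ i, w i ∈ Submodule.span k (Set.range b)) → ¬ AlgebraicIndependent k w) :
    DB k b R d' := by
  intro w hwb hw
  obtain ⟨F, hF0, hFw, hmin⟩ := exists_min w (hdep w hwb)
  have hirr : Irreducible F :=
    irreducible_of_forall_totalDegree_le (a := w) (fun G h1 h2 => hmin G h1 h2) hF0 hFw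
  refine ⟨F, hF0, ?_, hFw⟩
  have h1 := totalDegree_le_of_growth h w hwb hw F hirr hFw
  have h2 : (F.totalDegree : ℝ) < d' + 1 := lt_of_le_of_lt h1 hd'
  have h3 : F.totalDegree < d' + 1 := by exact_mod_cast h2
  omega

end growth

end K467.HilbDeg
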