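import Groth.Agent.CalgC.SepDisj
import Groth.Agent.CalgC.SepField
import Groth.Agent.Zeta.K468.LangWeil
import Groth.Agent.Zeta.K467.HilbDeg
import Mathlib.RingTheory.Nilpotent.GeometricallyReduced

/-!
# The function field of the cone
-/

set_option autoImplicit false
universe u v w

open TensorProduct

namespace K467.ConeAlg

/-! ### Homogeneous polynomials -/

theorem aeval_mul_of_isHomogeneous {k : Type u} {S : Type v} [CommRing k] [CommRing S] [Algebra k S] {σ : Type w}
    {d : ℕ} {F : MvPolynomial σ k} (hF : F.IsHomogeneous d) (w : σ → S) (c : S) :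
    MvPolynomial.aeval (fun i => w i * c) F = MvPolynomial.aeval w F * c ^ d := by
  classical
  rw [MvPolynomial.aeval_def, MvPolynomial.aeval_def, MvPolynomial.eval₂_eq, MvPolynomial.eval₂_eq,
    Finset.sum_mul]
  refine Finset.sum_congr rfl fun m hm => ?_
  have h1 : d = ∑ i ∈ m.support, m i := hF.degree_eq_sum_deg_support hm
  have h2 : ∏ i ∈ m.support, (w i * c) ^ m i = (∏ i ∈ m.support, w i ^ m i) * c ^ d := by
    simp only [mul_pow]
    rw [Finset.prod_mul_distrib, Finset.prod_pow_eq_pow_sum, ← h1]
  rw [h2, mul_assoc]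

section cone

variable {k : Type u} {K : Type v} [Field k] [Field K] [Algebra k K] {N : ℕ} (v : Fin (N + 1) → K)

/-- `v_i T` in `K[T]`. -/
noncomputable def γ (i : Fin (N + 1)) : Polynomial K := Polynomial.C (v i) * Polynomial.X

/-- `v_i T` in `K(T)`. -/
noncomputable def β (i : Fin (N + 1)) : FractionRing (Polynomial K) :=
  algebraMap (Polynomial K) (FractionRing (Polynomial K)) (γ v i)

theorem aeval_γ_of_isHomogeneous {d : ℕ} {F : MvPolynomial (Fin (N + 1)) k} (hF : F.IsHomogeneous d) :
    MvPolynomial.aeval (γ v) F = Polynomial.C (MvPolynomial.aeval v F) * Polynomial.X ^ d := by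
  have h1 : γ v = fun i => Polynomial.C (v i) * Polynomial.X := rfl
  rw [h1, aeval_mul_of_isHomogeneous hF (fun i => Polynomial.C (v i)) Polynomial.X]
  congr 1
  have h2 : MvPolynomial.aeval (R := k) (fun i => (Polynomial.C (v i) : Polynomial K)) =
      ((Polynomial.CAlgHom (R := k) (A := K))).comp (MvPolynomial.aeval v) := by
    ext i; simp
  rw [h2]; rfl

theorem coeff_aeval_γ (F : MvPolynomial (Fin (N + 1)) k) (d : ℕ) :
    (MvPolynomial.aeval (γ v) F).coeff d =
      MvPolynomial.aeval v (MvPolynomial.homogeneousComponent d F) := by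
  conv_lhs => rw [← MvPolynomial.sum_homogeneousComponent F, map_sum, Polynomial.finsetSum_coeff]
  have h1 : ∀ e, (MvPolynomial.aeval (γ v) (MvPolynomial.homogeneousComponent e F)).coeff d =
      if e = d then MvPolynomial.aeval v (MvPolynomial.homogeneousComponent d F) else 0 := by
    intro e
    rw [aeval_γ_of_isHomogeneous v (MvPolynomial.homogeneousComponent_isHomogeneous e F),
      Polynomial.coeff_C_mul, Polynomial.coeff_X_pow]
    by_cases h : e = d
    · subst h; simp
    · rw [if_neg (Ne.symm h), if_neg h, mul_zero]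
  rw [Finset.sum_congr rfl fun e _ => h1 e, Finset.sum_ite_eq']
  split_ifs with h
  · rfl
  · rw [Finset.mem_range, not_lt] at h
    rw [MvPolynomial.homogeneousComponent_eq_zero _ _ (by omega), map_zero]

theorem aeval_β_eq (F : MvPolynomial (Fin (N + 1)) k) :
    MvPolynomial.aeval (β v) F =
      algebraMap (Polynomial K) (FractionRing (Polynomial K)) (MvPolynomial.aeval (γ v) F) := by
  have h2 : MvPolynomial.aeval (R := k) (β v) =
      (IsScalarTower.toAlgHom k (Polynomial K) (FractionRing (Polynomial K))).comp
        (MvPolynomial.aeval (γ v)) := by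
    ext i; simp [β]
  rw [h2]; rfl

theorem aeval_β_eq_zero_iff (F : MvPolynomial (Fin (N + 1)) k) :
    MvPolynomial.aeval (β v) F = 0 ↔
      ∀ d, MvPolynomial.aeval v (MvPolynomial.homogeneousComponent d F) = 0 := by
  rw [aeval_β_eq, map_eq_zero_iff _ (IsFractionRing.injective _ _), Polynomial.ext_iff]
  simp only [coeff_aeval_γ, Polynomial.coeff_zero]

/-- The coordinates of the cone generate its function field. -/
theorem adjoin_β (h : IntermediateField.adjoin k (Set.range v) = ⊤) {j : Fin (N + 1)} (hj : v j = 1) :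
    IntermediateField.adjoin k (Set.range (β v)) = ⊤ := by
  set E := IntermediateField.adjoin k (Set.range (β v)) with hE
  have hmem : ∀ i, β v i ∈ E := fun i => IntermediateField.subset_adjoin k _ ⟨i, rfl⟩
  have hX : algebraMap (Polynomial K) (FractionRing (Polynomial K)) Polynomial.X ∈ E := by
    have := hmem j
    rwa [β, γ, hj, Polynomial.C_1, one_mul] at this
  have hX0 : algebraMap (Polynomial K) (FractionRing (Polynomial K)) Polynomial.X ≠ 0 := by
    rw [ne_eq, map_eq_zero_iff _ (IsFractionRing.injective _ _)]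
    exact Polynomial.X_ne_zero
  let φ : K →ₐ[k] FractionRing (Polynomial K) :=
    (IsScalarTower.toAlgHom k (Polynomial K) (FractionRing (Polynomial K))).comp
      (Polynomial.CAlgHom (R := k) (A := K))
  have hφ : ∀ x, φ x = algebraMap (Polynomial K) (FractionRing (Polynomial K)) (Polynomial.C x) := fun _ => rfl
  have hC : ∀ x : K, φ x ∈ E := by
    intro x
    have h1 : IntermediateField.adjoin k (Set.range v) ≤ E.comap φ := by
      rw [IntermediateField.adjoin_le_iff]
      rintro _ ⟨i, rfl⟩
      change φ (v i) ∈ E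
      have h2 : φ (v i) = β v i / algebraMap (Polynomial K) (FractionRing (Polynomial K)) Polynomial.X := by
        rw [β, γ, map_mul, mul_div_cancel_right₀ _ hX0, hφ]
      rw [h2]
      exact E.div_mem (hmem i) hX
    rw [h] at h1
    exact h1 (IntermediateField.mem_top (x := x))
  have hP : ∀ p : Polynomial K, algebraMap (Polynomial K) (FractionRing (Polynomial K)) p ∈ E := by
    intro p
    induction p using Polynomial.induction_on' with
    | add p q hp hq => rw [map_add]; exact E.add_mem hp hq
    | monomial n a =>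
      rw [← Polynomial.C_mul_X_pow_eq_monomial, map_mul, map_pow]
      exact E.mul_mem (hC a) (pow_mem hX n)
  rw [eq_top_iff]
  intro x _
  obtain ⟨p, q, -, rfl⟩ := IsFractionRing.div_surjective (A := Polynomial K) x
  exact E.div_mem (hP p) (hP q)

end cone

/-! ### Transcendence degree and constants -/

section consts

variable {k K : Type u} [Field k] [Field K] [Algebra k K]

theorem trdeg_frac : Algebra.trdeg k (FractionRing (Polynomial K)) = Algebra.trdeg k K + 1 := by
  have h1 := _root_.trdeg_add_eq k K (A := Polynomial K)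
  rw [Polynomial.trdeg_of_isDomain] at h1
  rw [h1]
  exact (K468.Cnt.trdeg_of_frac (R := k) (A := Polynomial K) (L := FractionRing (Polynomial K))).symm

/-- Elements of `K(T)` algebraic over `k` are in `K`. -/
theorem mem_range_of_isAlgebraic (x : FractionRing (Polynomial K)) (hx : IsAlgebraic k x) :
    ∃ a : K, x = algebraMap (Polynomial K) (FractionRing (Polynomial K)) (Polynomial.C a) := by
  have h1 : IsIntegral k x := hx.isIntegral
  have h2 : IsIntegral (Polynomial K) x := h1.tower_top
  obtain ⟨p, rfl⟩ := (IsIntegrallyClosed.isIntegral_iff (R := Polynomial K)).mp h2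
  have h3 : IsAlgebraic k p := by
    have : IsAlgebraic k (algebraMap (Polynomial K) (FractionRing (Polynomial K)) p) := hx
    exact (isAlgebraic_algebraMap_iff (IsFractionRing.injective _ _)).mp this
  have h4 : IsAlgebraic K p := h3.tower_top K
  have h5 : p.natDegree = 0 := by
    by_contra hne
    refine Polynomial.transcendental p hne ?_ h4
    rw [mem_nonZeroDivisors_iff_ne_zero, ne_eq, Polynomial.leadingCoeff_eq_zero]
    rintro rfl
    simp at hne
  exact ⟨p.coeff 0, by rw [← Polynomial.eq_C_of_natDegree_eq_zero h5]⟩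

theorem isSeparable_mem_range (h : ∀ a : K, IsSeparable k a → a ∈ Set.range (algebraMap k K))
    (x : FractionRing (Polynomial K)) (hx : IsSeparable k x) :
    x ∈ Set.range (algebraMap k (FractionRing (Polynomial K))) := by
  obtain ⟨a, rfl⟩ := mem_range_of_isAlgebraic x hx.isIntegral.isAlgebraic
  let φ : K →ₐ[k] FractionRing (Polynomial K) :=
    (IsScalarTower.toAlgHom k (Polynomial K) (FractionRing (Polynomial K))).comp
      (Polynomial.CAlgHom (R := k) (A := K))
  have h1 : IsSeparable k a := by
    have h2 : minpoly k (φ a) = minpoly k a := minpoly.algHom_eq φ φ.injective a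
    have h3 : IsSeparable k (φ a) := hx
    rw [IsSeparable, h2] at h3
    exact h3
  obtain ⟨c, hc⟩ := h a h1
  refine ⟨c, ?_⟩
  have h4 : φ (algebraMap k K c) = algebraMap k _ c := φ.commutes c
  rw [← h4, hc]
  rfl

/-- If `k` is perfect and separably closed in `L` then `L` stays a domain over the algebraic closure. -/
theorem isDomain_tensor {L : Type v} [Field L] [Algebra k L] [PerfectField k]
    (h : ∀ a : L, IsSeparable k a → a ∈ Set.range (algebraMap k L)) :
    IsDomain (AlgebraicClosure k ⊗[k] L) := by
  have h1 : (nilradical (AlgebraicClosure k ⊗[k] L)).IsPrime :=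
    Groth.Agent.CalgC.SepDisj.isPrime_nilradical_tensorProduct (AlgebraicClosure k) h
  have h2 : Algebra.IsGeometricallyReduced k L :=
    Groth.Agent.CalgC.SepField.isGeometricallyReduced_of_perfectField k L
  have h3 : IsReduced (AlgebraicClosure k ⊗[k] L) :=
    (Algebra.isGeometricallyReduced_field_iff k L).mp h2
  rw [nilradical_eq_zero] at h1
  exact IsDomain.of_bot_isPrime _

end consts

/-! ### Homomorphisms and zeros -/

section zeros

variable {k : Type u} {L : Type v} [Field k] [Field L] [Algebra k L] {M : ℕ} (b : Fin M → L)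
  {C : Type w} [Field C] [Algebra k C]

/-- Points of the affine variety with coordinates `b`. -/
noncomputable def homEquiv : (Algebra.adjoin k (Set.range b) →ₐ[k] C) ≃
    {w : Fin M → C // ∀ F : MvPolynomial (Fin M) k, MvPolynomial.aeval b F = 0 →
      MvPolynomial.aeval w F = 0} := by
  have hb : ∀ j, b j ∈ Algebra.adjoin k (Set.range b) := fun j => Algebra.subset_adjoin ⟨j, rfl⟩
  refine Equiv.ofBijective (fun χ => ⟨fun j => χ ⟨b j, hb j⟩, fun F hF => ?_⟩) ⟨?_, ?_⟩
  · have h1 : MvPolynomial.aeval (R := k) (fun j => χ ⟨b j, hb j⟩) =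
        χ.comp (MvPolynomial.aeval (fun j => (⟨b j, hb j⟩ : Algebra.adjoin k (Set.range b)))) := by
      ext i; simp
    have h2 : MvPolynomial.aeval (fun j => (⟨b j, hb j⟩ : Algebra.adjoin k (Set.range b))) F = 0 := by
      apply Subtype.ext
      have h3 : (Algebra.adjoin k (Set.range b)).val.comp
          (MvPolynomial.aeval (fun j => (⟨b j, hb j⟩ : Algebra.adjoin k (Set.range b)))) =
          MvPolynomial.aeval b := by
        ext i; simp
      exact (DFunLike.congr_fun h3 F).trans hF
    rw [h1, AlgHom.comp_apply, h2, map_zero]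
  · intro χ χ' h
    apply AlgHom.adjoin_ext
    rintro x ⟨j, rfl⟩
    exact congrFun (congrArg Subtype.val h) j
  · rintro ⟨w, hw⟩
    let φ : MvPolynomial (Fin M) k →ₐ[k] Algebra.adjoin k (Set.range b) :=
      MvPolynomial.aeval (fun j => (⟨b j, hb j⟩ : Algebra.adjoin k (Set.range b)))
    have hval : (Algebra.adjoin k (Set.range b)).val.comp φ = MvPolynomial.aeval b := by
      ext i; simp [φ]
    have hφ : Function.Surjective φ := by
      rintro ⟨x, hx⟩
      rw [Algebra.adjoin_range_eq_range_aeval] at hx
      obtain ⟨F, hF⟩ := hx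
      refine ⟨F, Subtype.ext ?_⟩
      exact (DFunLike.congr_fun hval F).trans hF
    have hker : ∀ F, φ F = 0 → MvPolynomial.aeval w F = 0 := by
      intro F hF
      apply hw
      have := DFunLike.congr_fun hval F
      rw [← this, AlgHom.comp_apply, hF, map_zero]
    let χ : Algebra.adjoin k (Set.range b) →ₐ[k] C :=
      (Ideal.Quotient.liftₐ (RingHom.ker φ.toRingHom) (MvPolynomial.aeval w) fun F hF => hker F hF).comp
        (Ideal.quotientKerAlgEquivOfSurjective hφ).symm.toAlgHom
    refine ⟨χ, Subtype.ext (funext fun j => ?_)⟩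
    have h1 : (⟨b j, hb j⟩ : Algebra.adjoin k (Set.range b)) = φ (MvPolynomial.X j) := by simp [φ]
    change χ ⟨b j, hb j⟩ = w j
    rw [h1]
    have h2 : (Ideal.quotientKerAlgEquivOfSurjective hφ).symm (φ (MvPolynomial.X j)) =
        Ideal.Quotient.mk _ (MvPolynomial.X j) := by
      rw [AlgEquiv.symm_apply_eq]
      rfl
    change (Ideal.Quotient.liftₐ (RingHom.ker φ.toRingHom) (MvPolynomial.aeval w) fun F hF => hker F hF)
      ((Ideal.quotientKerAlgEquivOfSurjective hφ).symm (φ (MvPolynomial.X j))) = w j
    rw [h2]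
    refine (Ideal.Quotient.lift_mk _ _ _).trans ?_
    exact MvPolynomial.aeval_X _ _

end zeros

end K467.ConeAlg
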