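import Groth.Agent.Zeta.K467.Bez

/-!
# Number of points of an arbitrary plane curve over a finite field: a dichotomy

For `G ∈ 𝔽_q[x, y]` of total degree `≤ D`, and `q` large, either `|N - q| ≤ (D-1)(D-2) √q + A` or
`|N - q| ≥ q / 2`.
-/

set_option autoImplicit false
open MvPolynomial

namespace K467.Dicho

open K467.LinNoether K467.AbsIrr K467.PlaneModel K467.ResDeg K467.Bez K467.SharpPC

universe u v

/-- the number of zeros -/
noncomputable def nz {k : Type u} [Field k] (F : MvPolynomial (Fin 2) k) : ℕ :=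
  Nat.card {x : Fin 2 → k // eval x F = 0}

/-- absolutely irreducible -/
def AI {k : Type u} [Field k] (F : MvPolynomial (Fin 2) k) : Prop :=
  Irreducible (map (algebraMap k (AlgebraicClosure k)) F)

section

variable {k : Type u} [Field k] [Finite k]

theorem nz_mono {F G : MvPolynomial (Fin 2) k} (h : F ∣ G) : nz F ≤ nz G := by
  refine Nat.card_le_card_of_injective
    (fun x : {x : Fin 2 → k // eval x F = 0} => (⟨x.1, ?_⟩ : {x : Fin 2 → k // eval x G = 0})) ?_
  · obtain ⟨H, rfl⟩ := h
    rw [map_mul, x.2, zero_mul]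
  · intro x y h
    exact Subtype.ext (congrArg (fun z : {x : Fin 2 → k // eval x G = 0} => z.1) h)

theorem nz_mul_le (F G : MvPolynomial (Fin 2) k) : nz (F * G) ≤ nz F + nz G := by
  classical
  have h1 : {x : Fin 2 → k | eval x (F * G) = 0} ⊆ {x | eval x F = 0} ∪ {x | eval x G = 0} := by
    intro x hx
    have hx' : eval x F * eval x G = 0 := by rw [← map_mul]; exact hx
    exact mul_eq_zero.1 hx'
  have h2 := Set.ncard_le_ncard h1 (Set.toFinite _)
  exact h2.trans (Set.ncard_union_le _ _)

theorem le_nz_of_dvd {F G H : MvPolynomial (Fin 2) k} (hF : F ∣ H) (hG : G ∣ H) :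
    nz F + nz G ≤ nz H + Nat.card {x : Fin 2 → k // eval x F = 0 ∧ eval x G = 0} := by
  have h1 : {x : Fin 2 → k | eval x F = 0} ∪ {x | eval x G = 0} ⊆ {x | eval x H = 0} := by
    rintro x (hx | hx)
    · obtain ⟨q, rfl⟩ := hF
      change eval x (F * q) = 0
      rw [map_mul, show eval x F = 0 from hx, zero_mul]
    · obtain ⟨q, rfl⟩ := hG
      change eval x (G * q) = 0
      rw [map_mul, show eval x G = 0 from hx, zero_mul]
  have h2 := Set.ncard_le_ncard h1 (Set.toFinite _)
  have h3 := Set.ncard_union_add_ncard_inter {x : Fin 2 → k | eval x F = 0} {x | eval x G = 0}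
    (Set.toFinite _) (Set.toFinite _)
  have h4 : ({x : Fin 2 → k | eval x F = 0} ∩ {x | eval x G = 0}).ncard =
      Nat.card {x : Fin 2 → k // eval x F = 0 ∧ eval x G = 0} := rfl
  have h5 : nz F = {x : Fin 2 → k | eval x F = 0}.ncard := rfl
  have h6 : nz G = {x : Fin 2 → k | eval x G = 0}.ncard := rfl
  have h7 : nz H = {x : Fin 2 → k | eval x H = 0}.ncard := rfl
  omega

/-- the Bezout type constant -/
def bz (D : ℕ) : ℕ := (D + 1) ^ 2 + 2 * D * D * D

omit [Finite k] in
theorem totalDegree_map_eq {L : Type v} [Field L] [Algebra k L] (F : MvPolynomial (Fin 2) k) :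
    (map (algebraMap k L) F).totalDegree = F.totalDegree := by
  unfold totalDegree
  rw [support_map_of_injective _ (algebraMap k L).injective]

/-- Irreducible but not absolutely irreducible curves have few points. -/
theorem nz_le_of_not_AI {F : MvPolynomial (Fin 2) k} (hF : Irreducible F) (hA : ¬ AI F) (D : ℕ)
    (hFD : F.totalDegree ≤ D) : nz F ≤ 2 * bz D := by
  classical
  let L := AlgebraicClosure k
  have hD1 := pos_of_irreducible F hF
  -- a nontrivial factorization
  obtain ⟨a, b, ha, hb, hab⟩ : ∃ a b : MvPolynomial (Fin 2) L, ¬ IsUnit a ∧ ¬ IsUnit b ∧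
      map (algebraMap k L) F = a * b := by
    have h0 : ¬ IsUnit (map (algebraMap k L) F) := fun h => hF.not_isUnit (isUnit_of_map h)
    unfold AI at hA
    rw [irreducible_iff] at hA
    push Not at hA
    obtain ⟨a, b, h1, h2, h3⟩ := hA h0
    exact ⟨a, b, h2, h3, h1⟩
  have hne : map (algebraMap k L) F ≠ 0 := by
    rw [ne_eq, map_eq_zero_iff _ (map_injective _ (algebraMap k L).injective)]
    exact hF.ne_zero
  have ha0 : a ≠ 0 := by rintro rfl; rw [zero_mul] at hab; exact hne hab
  have hb0 : b ≠ 0 := by rintro rfl; rw [mul_zero] at hab; exact hne hab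
  have hdeg : a.totalDegree + b.totalDegree = F.totalDegree := by
    rw [← totalDegree_mul_of_isDomain ha0 hb0, ← hab, totalDegree_map_eq]
  have hpos : ∀ p : MvPolynomial (Fin 2) L, p ≠ 0 → ¬ IsUnit p → 1 ≤ p.totalDegree := by
    intro p hp0 hp
    by_contra h
    have h0 : p.totalDegree = 0 := by omega
    rw [totalDegree_eq_zero_iff_eq_C] at h0
    apply hp
    rw [h0]
    have h1 : coeff 0 p ≠ 0 := by
      intro h2; rw [h2, C_0] at h0; exact hp0 h0
    exact (isUnit_iff_ne_zero.2 h1).map C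
  have ha1 := hpos a ha0 ha
  have hb1 := hpos b hb0 hb
  -- the zeros of `a`
  have key : ∀ p : MvPolynomial (Fin 2) L, p ≠ 0 → p.totalDegree < F.totalDegree →
      ∃ P : MvPolynomial (Fin 2) k, (∀ x : Fin 2 → k, eval (algebraMap k L ∘ x) p = 0 → eval x P = 0) ∧
        ¬ F ∣ P ∧ P.totalDegree ≤ D := by
    intro p hp0 hp
    obtain ⟨m, hm⟩ : ∃ m, coeff m p ≠ 0 := by
      by_contra! h
      exact hp0 (MvPolynomial.ext _ _ h)
    obtain ⟨l, hl⟩ := Module.Projective.exists_dual_eq_one k (x := coeff m p) hm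
    have hP0 : lam l p ≠ 0 := by
      intro h
      have := congrArg (coeff m) h
      rw [coeff_lam, hl, coeff_zero] at this
      exact one_ne_zero this
    have hPdeg : (lam l p).totalDegree ≤ p.totalDegree := by
      refine Finset.sup_mono ?_
      intro n hn
      rw [mem_support_iff, coeff_lam] at hn
      rw [mem_support_iff]
      intro h
      rw [h, map_zero] at hn
      exact hn rfl
    refine ⟨lam l p, ?_, ?_, by omega⟩
    · intro x hx
      have h1 : eval x (lam l p) = l (eval (algebraMap k L ∘ x) p) := by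
        rw [eval_eq, eval_eq, map_sum]
        have hsub : (lam l p).support ⊆ p.support := by
          intro n hn
          rw [mem_support_iff, coeff_lam] at hn
          rw [mem_support_iff]
          intro h
          rw [h, map_zero] at hn
          exact hn rfl
        rw [Finset.sum_subset hsub]
        · refine Finset.sum_congr rfl fun n _ => ?_
          rw [coeff_lam]
          have h2 : ∏ i ∈ n.support, (algebraMap k L ∘ x) i ^ n i =
              algebraMap k L (∏ i ∈ n.support, x i ^ n i) := by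
            rw [map_prod]
            simp
          rw [h2, mul_comm (coeff n p), ← Algebra.smul_def, map_smul, smul_eq_mul, mul_comm]
        · intro n _ hn
          rw [notMem_support_iff] at hn
          rw [hn, zero_mul]
      rw [h1, hx, map_zero]
    · intro hdvd
      obtain ⟨q, hq⟩ := hdvd
      have hq0 : q ≠ 0 := by rintro rfl; rw [mul_zero] at hq; exact hP0 hq
      have := totalDegree_mul_of_isDomain hF.ne_zero hq0
      rw [← hq] at this
      omega
  obtain ⟨P, hP1, hP2, hP3⟩ := key a ha0 (by omega)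
  obtain ⟨Q, hQ1, hQ2, hQ3⟩ := key b hb0 (by omega)
  have h1 : {x : Fin 2 → k | eval x F = 0} ⊆
      {x | eval x F = 0 ∧ eval x P = 0} ∪ {x | eval x F = 0 ∧ eval x Q = 0} := by
    intro x hx
    have h2 : eval (algebraMap k L ∘ x) (map (algebraMap k L) F) = 0 := by
      rw [eval_map, ← eval₂_comp, show eval x F = 0 from hx, map_zero]
    rw [hab, map_mul] at h2
    rcases mul_eq_zero.1 h2 with h3 | h3
    · exact Or.inl ⟨hx, hP1 x h3⟩
    · exact Or.inr ⟨hx, hQ1 x h3⟩
  have h2 := (Set.ncard_le_ncard h1 (Set.toFinite _)).trans (Set.ncard_union_le _ _)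
  have h3 := card_common_le hF hP2 D hFD hP3
  have h4 := card_common_le hF hQ2 D hFD hQ3
  have h5 : nz F = {x : Fin 2 → k | eval x F = 0}.ncard := rfl
  have h6 : Nat.card {x : Fin 2 → k // eval x F = 0 ∧ eval x P = 0} =
    {x : Fin 2 → k | eval x F = 0 ∧ eval x P = 0}.ncard := rfl
  have h7 : Nat.card {x : Fin 2 → k // eval x F = 0 ∧ eval x Q = 0} =
    {x : Fin 2 → k | eval x F = 0 ∧ eval x Q = 0}.ncard := rfl
  unfold bz
  omega

/-- A curve without absolutely irreducible component has few points. -/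
theorem nz_le_of_no_AI (D : ℕ) : ∀ (n : ℕ) (G : MvPolynomial (Fin 2) k), G ≠ 0 → G.totalDegree ≤ n →
    n ≤ D → (∀ F, F ∣ G → ¬ AI F) → nz G ≤ n * (2 * bz D) := by
  intro n
  induction n with
  | zero =>
    intro G hG0 hG _ _
    have h0 : G.totalDegree = 0 := by omega
    rw [totalDegree_eq_zero_iff_eq_C] at h0
    have h1 : coeff 0 G ≠ 0 := by
      intro h2; rw [h2, C_0] at h0; exact hG0 h0
    have : IsEmpty {x : Fin 2 → k // eval x G = 0} := by
      refine ⟨fun ⟨x, hx⟩ => h1 ?_⟩
      rwa [h0, eval_C] at hx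
    unfold nz
    rw [Nat.card_of_isEmpty]
    exact Nat.zero_le _
  | succ n ih =>
    intro G hG0 hG hn hA
    by_cases hu : IsUnit G
    · obtain ⟨c, hc, hcG⟩ := isUnit_iff_eq_C_of_isReduced.1 hu
      have : IsEmpty {x : Fin 2 → k // eval x G = 0} := by
        refine ⟨fun ⟨x, hx⟩ => hc.ne_zero ?_⟩
        rwa [hcG, eval_C] at hx
      unfold nz
      rw [Nat.card_of_isEmpty]
      exact Nat.zero_le _
    · obtain ⟨F, hF, H, rfl⟩ := WfDvdMonoid.exists_irreducible_factor hu hG0
      have hF0 := hF.ne_zero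
      have hH0 : H ≠ 0 := right_ne_zero_of_mul hG0
      have hdeg := totalDegree_mul_of_isDomain hF0 hH0
      have h1 := pos_of_irreducible F hF
      have h2 := nz_le_of_not_AI hF (hA F (dvd_mul_right _ _)) D (by omega)
      have h3 := ih H hH0 (by omega) (by omega) (fun F' h => hA F' (h.mul_left _))
      calc nz (F * H) ≤ nz F + nz H := nz_mul_le F H
        _ ≤ 2 * bz D + n * (2 * bz D) := add_le_add h2 h3
        _ = (n + 1) * (2 * bz D) := by ring

omit [Finite k] in
theorem nz_pow (F : MvPolynomial (Fin 2) k) (e : ℕ) (he : e ≠ 0) : nz (F ^ e) = nz F := by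
  unfold nz
  refine Nat.card_congr (Equiv.subtypeEquivRight fun x => ?_)
  rw [map_pow, pow_eq_zero_iff he]

end

theorem mono_deg {a b : ℕ} (ha : 1 ≤ a) (hab : a ≤ b) :
    ((a : ℝ) - 1) * (a - 2) ≤ ((b : ℝ) - 1) * (b - 2) := by
  by_cases h : a + b < 3
  · have h1 : a = 1 := by omega
    have h2 : b = 1 := by omega
    subst h1; subst h2; rfl
  · have h1 : (3 : ℝ) ≤ a + b := by exact_mod_cast (not_lt.1 h)
    have h2 : (a : ℝ) ≤ b := by exact_mod_cast hab
    nlinarith

/-- **The dichotomy for plane curves.** -/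
theorem dicho (D : ℕ) : ∃ A q0 : ℝ, 0 ≤ A ∧ ∀ (k : Type u) [Field k] [Finite k],
    q0 ≤ Nat.card k → ∀ G : MvPolynomial (Fin 2) k, G.totalDegree ≤ D →
    |(nz G : ℝ) - Nat.card k| ≤ ((D : ℝ) - 1) * (D - 2) * Real.sqrt (Nat.card k) + A ∨
    (Nat.card k : ℝ) / 2 ≤ |(nz G : ℝ) - Nat.card k| := by
  classical
  obtain ⟨A0, hA0, hpc⟩ := sharp_pc.{u} D
  set c1 : ℝ := ((D : ℝ) - 1) * (D - 2) with hc1
  set c2 : ℝ := 2 * A0 + bz D + D * (2 * bz D) with hc2
  have hc20 : 0 ≤ c2 := by positivity
  refine ⟨A0 + D * (2 * bz D), 64 * c1 ^ 2 + 4 * c2 + 2, by positivity, ?_⟩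
  intro k _ _ hq G hGD
  set q : ℝ := (Nat.card k : ℝ) with hqdef
  have hq0 : 0 ≤ q := Nat.cast_nonneg _
  have hq2 : 2 ≤ q := by nlinarith [sq_nonneg c1]
  have hs : Real.sqrt q ^ 2 = q := Real.sq_sqrt hq0
  have hs0 : 0 ≤ Real.sqrt q := Real.sqrt_nonneg _
  have hsc : 8 * c1 ≤ Real.sqrt q := by
    apply Real.le_sqrt_of_sq_le
    nlinarith
  have hbig : 2 * c1 * Real.sqrt q ≤ q / 4 := by nlinarith
  have hbig2 : c2 ≤ q / 4 := by nlinarith [sq_nonneg c1]
  have hAIbound : ∀ F : MvPolynomial (Fin 2) k, F.totalDegree ≤ D → AI F →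
      |(nz F : ℝ) - q| ≤ c1 * Real.sqrt q + A0 := by
    intro F hFD hF
    have h1 := hpc k F hFD hF
    have h2 := pos_of_irreducible F (irreducible_of_map hF)
    have h3 := mono_deg h2 hFD
    refine h1.trans ?_
    gcongr
  by_cases hG0 : G = 0
  · right
    have h1 : (nz G : ℝ) = q ^ 2 := by
      have h2 : nz G = Nat.card (Fin 2 → k) := by
        unfold nz
        refine Nat.card_congr (Equiv.subtypeUnivEquiv fun x => ?_)
        rw [hG0, map_zero]
      rw [h2, Nat.card_pi]
      simp [hqdef]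
    rw [h1, abs_of_nonneg (by nlinarith)]
    nlinarith
  by_cases hA : ∃ F, F ∣ G ∧ AI F
  · obtain ⟨F, hFG, hF⟩ := hA
    have hFk := irreducible_of_map hF
    have hFD : F.totalDegree ≤ D := by
      obtain ⟨q, rfl⟩ := hFG
      rw [totalDegree_mul_of_isDomain (left_ne_zero_of_mul hG0) (right_ne_zero_of_mul hG0)] at hGD
      omega
    obtain ⟨H, hGeq, hFH⟩ := (FiniteMultiplicity.of_not_isUnit hFk.not_isUnit hG0).exists_eq_pow_mul_and_not_dvd
    generalize multiplicity F G = e at hGeq
    subst hGeq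
    have he : e ≠ 0 := by
      rintro rfl
      rw [pow_zero, one_mul] at hFG
      exact hFH hFG
    have hH0 : H ≠ 0 := right_ne_zero_of_mul hG0
    have hFe0 : F ^ e ≠ 0 := left_ne_zero_of_mul hG0
    have hHD : H.totalDegree ≤ D := by
      rw [totalDegree_mul_of_isDomain hFe0 hH0] at hGD
      omega
    have hb1 := hAIbound F hFD hF
    by_cases hA2 : ∃ F', F' ∣ H ∧ AI F'
    · right
      obtain ⟨F', hF'H, hF'⟩ := hA2
      have hF'D : F'.totalDegree ≤ D := by
        obtain ⟨q, rfl⟩ := hF'H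
        rw [totalDegree_mul_of_isDomain (left_ne_zero_of_mul hH0) (right_ne_zero_of_mul hH0)] at hHD
        omega
      have hb2 := hAIbound F' hF'D hF'
      have hnd : ¬ F ∣ F' := fun h => hFH (h.trans hF'H)
      have h1 := card_common_le hFk hnd D hFD hF'D
      have h2 := le_nz_of_dvd hFG (hF'H.mul_left (F ^ e))
      have h3 : (nz F : ℝ) + nz F' ≤ nz (F ^ e * H) + bz D := by
        have : nz F + nz F' ≤ nz (F ^ e * H) + bz D := h2.trans (Nat.add_le_add_left h1 _)
        exact_mod_cast this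
      rw [abs_le] at hb1 hb2
      have hbD : (0 : ℝ) ≤ D * (2 * bz D) := by positivity
      have h4 : q / 2 ≤ (nz (F ^ e * H) : ℝ) - q := by linarith [hb1.1, hb2.1]
      exact h4.trans (le_abs_self _)
    · left
      push Not at hA2
      have h1 := nz_le_of_no_AI D D H hH0 hHD le_rfl hA2
      have h2 : nz (F ^ e * H) ≤ nz F + nz H := by
        rw [← nz_pow F e he]; exact nz_mul_le _ _
      have h3 : nz F ≤ nz (F ^ e * H) := nz_mono hFG
      have h4 : (nz (F ^ e * H) : ℝ) ≤ nz F + D * (2 * bz D) := by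
        have : nz (F ^ e * H) ≤ nz F + D * (2 * bz D) := h2.trans (Nat.add_le_add_left h1 _)
        exact_mod_cast this
      have h5 : (nz F : ℝ) ≤ nz (F ^ e * H) := by exact_mod_cast h3
      have hbD : (0 : ℝ) ≤ D * (2 * bz D) := by positivity
      rw [abs_le] at hb1 ⊢
      constructor <;> linarith [hb1.1, hb1.2]
  · right
    push Not at hA
    have h1 := nz_le_of_no_AI D D G hG0 hGD le_rfl hA
    have h2 : (nz G : ℝ) ≤ D * (2 * bz D) := by exact_mod_cast h1
    have h3 : (0 : ℝ) ≤ nz G := Nat.cast_nonneg _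
    have hbz : (0 : ℝ) ≤ bz D := Nat.cast_nonneg _
    rw [abs_sub_comm, abs_of_nonneg (by linarith)]
    linarith

end K467.Dicho
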