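import Groth.Prelude.Def_Frob
import Groth.Prelude.Def_FinFr
import Mathlib.FieldTheory.Finite.Basic
import Mathlib.FieldTheory.IsAlgClosed.AlgebraicClosure
import Mathlib.FieldTheory.Normal.Basic
import Mathlib.AlgebraicGeometry.AlgClosed.Basic
import Groth.Agent.MiscA.WCCount

/-!
# Absolute `q`-Frobenius, and points of `X` over an algebraic closure of a finite field

* `qFrob X p a`: the `p^a`-power absolute Frobenius; `eq_qFrob`: a morphism that is the identity on points and the
  `p^a`-th power on sections is `qFrob`.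
* `exists_pow_eq`: two `k`-embeddings `L → K` of a finite extension of a finite field differ by a power of Frobenius.
-/

set_option autoImplicit false
universe u

open CategoryTheory CategoryTheory.Limits AlgebraicGeometry FrobSch

namespace K467.FrobPts

section qFrob

variable (X : Scheme.{u}) (p : ℕ) [Fact p.Prime] [IsCharP X p]

/-- The absolute `p^a`-Frobenius. -/
noncomputable def qFrob : ℕ → (X ⟶ X)
  | 0 => 𝟙 X
  | a + 1 => qFrob a ≫ frob X p

theorem qFrob_base (a : ℕ) : (qFrob X p a).base = 𝟙 _ := by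
  induction a with
  | zero => rfl
  | succ a ih => rw [qFrob, Scheme.Hom.comp_base, ih, frob_base]; rfl

theorem qFrob_apply (a : ℕ) (x : X) : qFrob X p a x = x := by
  change (qFrob X p a).base x = x
  rw [qFrob_base]; rfl

theorem le_preimage (a : ℕ) (U : X.Opens) : U ≤ (qFrob X p a) ⁻¹ᵁ U := by
  intro x hx
  change qFrob X p a x ∈ U
  rw [qFrob_apply]; exact hx

theorem frob_appLE (U : X.Opens) (e : U ≤ (frob X p) ⁻¹ᵁ U) (s : Γ(X, U)) :
    ((frob X p).appLE U U e).hom s = s ^ p := by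
  have h3 : ((frob X p).app U).hom s = s ^ p := frob_app X p U s
  rw [Scheme.Hom.app_eq_appLE] at h3
  exact h3

theorem qFrob_appLE (a : ℕ) (U : X.Opens) (s : Γ(X, U)) :
    ((qFrob X p a).appLE U U (le_preimage X p a U)).hom s = s ^ (p ^ a) := by
  induction a generalizing s with
  | zero =>
    have : (qFrob X p 0).appLE U U (le_preimage X p 0 U) = 𝟙 _ := by
      change (𝟙 X : X ⟶ X).appLE U U _ = 𝟙 _
      rw [Scheme.Hom.appLE, Scheme.Hom.id_app]
      exact (Category.id_comp _).trans (X.presheaf.map_id _)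
    rw [this]; simp
  | succ a ih =>
    have hU : U ≤ (frob X p) ⁻¹ᵁ U := le_refl U
    have e : (qFrob X p (a + 1)).appLE U U (le_preimage X p (a + 1) U) =
        (frob X p).appLE U U hU ≫ (qFrob X p a).appLE U U (le_preimage X p a U) := by
      rw [Scheme.Hom.appLE_comp_appLE]; rfl
    rw [e]
    refine (ih (((frob X p).appLE U U hU).hom s)).trans ?_
    rw [frob_appLE, ← pow_mul, pow_succ, mul_comm]

variable {X}

theorem qFrob_comp {Y : Scheme.{u}} [IsCharP Y p] (f : X ⟶ Y) (a : ℕ) :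
    qFrob X p a ≫ f = f ≫ qFrob Y p a := by
  induction a with
  | zero => simp [qFrob]
  | succ a ih => rw [qFrob, qFrob, Category.assoc, frob_comp, ← Category.assoc, ih, Category.assoc]

/-- A morphism which is the identity on points is determined by its action on sections. -/
theorem hom_ext_of_base {F G : X ⟶ X} (hF : F.base = 𝟙 _) (hG : G.base = 𝟙 _)
    (h : ∀ (U : X.Opens) (e₁ : U ≤ F ⁻¹ᵁ U) (e₂ : U ≤ G ⁻¹ᵁ U),
      F.appLE U U e₁ = G.appLE U U e₂) : F = G := by
  refine Scheme.Hom.ext (by rw [hF, hG]) (fun U => ?_)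
  have hle : ∀ (H : X ⟶ X), H.base = 𝟙 _ → H ⁻¹ᵁ U = U := by
    intro H hH
    ext x
    change H.base x ∈ U ↔ x ∈ U
    rw [hH]; rfl
  have h1 := h U (hle F hF).ge (hle G hG).ge
  have e2 : ∀ (H : X ⟶ X) (hH : H ⁻¹ᵁ U = U),
      H.app U = H.appLE U U hH.ge ≫ X.presheaf.map (homOfLE hH.le).op := by
    intro H hH
    rw [Scheme.Hom.appLE_map, Scheme.Hom.app_eq_appLE]
  rw [e2 F (hle F hF), e2 G (hle G hG), h1, Category.assoc, ← Functor.map_comp]
  rfl

theorem eq_qFrob (a : ℕ) (F : X ⟶ X) (hF : F.base = 𝟙 _) (hle : ∀ U : X.Opens, U ≤ F ⁻¹ᵁ U)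
    (hFapp : ∀ (U : X.Opens) (s : Γ(X, U)), (F.appLE U U (hle U)).hom s = s ^ (p ^ a)) :
    F = qFrob X p a := by
  refine hom_ext_of_base hF (qFrob_base X p a) (fun U e₁ e₂ => ?_)
  ext s
  exact (hFapp U s).trans (qFrob_appLE X p a U s).symm

end qFrob

theorem qFrob_Spec (K : Type u) [Field K] (p : ℕ) [Fact p.Prime] [CharP K p] (a : ℕ) (φ : K →+* K)
    (hφ : ∀ x, φ x = x ^ p ^ a) :
    qFrob (Spec (CommRingCat.of K)) p a = Spec.map (CommRingCat.ofHom φ) := by
  symm
  have key : (Spec.map (CommRingCat.ofHom φ)).appTop = (qFrob (Spec (CommRingCat.of K)) p a).appTop := by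
    have h1 : (Scheme.ΓSpecIso (CommRingCat.of K)).inv ≫ (Spec.map (CommRingCat.ofHom φ)).appTop =
        (Scheme.ΓSpecIso (CommRingCat.of K)).inv ≫ (qFrob (Spec (CommRingCat.of K)) p a).appTop := by
      rw [← Scheme.ΓSpecIso_inv_naturality]
      ext x
      change (Scheme.ΓSpecIso (CommRingCat.of K)).inv.hom (φ x) =
        (qFrob (Spec (CommRingCat.of K)) p a).appTop.hom ((Scheme.ΓSpecIso (CommRingCat.of K)).inv.hom x)
      rw [hφ, map_pow]
      have h3 := qFrob_appLE (Spec (CommRingCat.of K)) p a ⊤ ((Scheme.ΓSpecIso (CommRingCat.of K)).inv.hom x)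
      have h4 : (qFrob (Spec (CommRingCat.of K)) p a).appLE ⊤ ⊤ (le_preimage _ p a ⊤) =
        (qFrob (Spec (CommRingCat.of K)) p a).appTop :=
        (Scheme.Hom.app_eq_appLE (f := qFrob (Spec (CommRingCat.of K)) p a) (U := ⊤)).symm
      rw [h4] at h3
      exact h3.symm
    exact (cancel_epi _).mp h1
  exact ext_of_isAffine key

end K467.FrobPts
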