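import Groth.Agent.Zeta.K467.PoleDeg

/-!
# The genus of a plane curve

For an abstract complete curve `C : Crv k K 𝒳` with finite cohomology and `l(0) = 1`, and
`u, v ∈ K` with `[K : k(u)] ≤ D`, `1, v, …, v^{D-1}` independent over `k[u]` and a monic relation
`v^D + a_{D-1}(u) v^{D-1} + ⋯ + a_0(u) = 0`, `deg a_j ≤ D - j`:

* `genus_le`: `2 g ≤ (D - 1) (D - 2)` where `g = C.i 0`.
-/

set_option autoImplicit false
open WithZero Polynomial

namespace K467.Genus

open Groth.Agent.Models.FFLen Groth.Agent.Models.FFRR Groth.Agent.MiscA.WCPlace K467.PoleDeg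

universe u v w

section

variable {k : Type u} {K : Type v} {𝒳 : Type w} [Field k] [Field K] [Algebra k K] (C : Crv k K 𝒳)

theorem v_aeval_le_pow (P : 𝒳) {y : K} {B : ℤᵐ⁰} (hB : 1 ≤ B) (hy : C.v P y ≤ B) (q : k[X]) (n : ℕ)
    (hn : q.natDegree ≤ n) : C.v P (aeval y q) ≤ B ^ n := by
  rw [aeval_eq_sum_range]
  refine (C.v P).map_sum_le fun i hi => ?_
  rw [Algebra.smul_def, map_mul, map_pow]
  have hi' : i ≤ q.natDegree := Nat.lt_succ_iff.1 (Finset.mem_range.1 hi)
  calc C.v P (algebraMap k K (q.coeff i)) * C.v P y ^ i ≤ 1 * B ^ i :=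
        mul_le_mul' (C.v_const P _) (pow_le_pow_left₀ zero_le hy i)
    _ = B ^ i := one_mul _
    _ ≤ B ^ n := pow_le_pow_right₀ hB (hi'.trans hn)

theorem exp_pole {x : K} (hx : x ≠ 0) (P : 𝒳) : exp (pole C x P) = max 1 (C.v P x) := by
  rw [C.v_eq_exp hx, pole_apply]
  rcases le_total 0 (-(C.div x P)) with h1 | h1
  · rw [max_eq_left h1, max_eq_right]
    rwa [← exp_zero, exp_le_exp]
  · rw [max_eq_right h1, exp_zero, max_eq_left]
    rwa [← exp_zero, exp_le_exp]

/-- The valuation of a root of a polynomial `v^D + ∑_{j<D} a_j(u) v^j` with `deg a_j ≤ D - j`. -/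
theorem v_le_max (P : 𝒳) {u v : K} {D : ℕ} (a : ℕ → k[X])
    (hdeg : ∀ j < D, (a j).natDegree ≤ D - j)
    (hroot : v ^ D + ∑ j ∈ Finset.range D, aeval u (a j) * v ^ j = 0) :
    C.v P v ≤ max 1 (C.v P u) := by
  by_contra hlt
  push Not at hlt
  set B := max 1 (C.v P u) with hB
  have hB1 : 1 ≤ B := le_max_left _ _
  have hv1 : 1 < C.v P v := lt_of_le_of_lt hB1 hlt
  have h1 : v ^ D = - ∑ j ∈ Finset.range D, aeval u (a j) * v ^ j := eq_neg_of_add_eq_zero_left hroot
  have h2 : C.v P (v ^ D) < C.v P v ^ D := by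
    rw [h1, Valuation.map_neg]
    refine Valuation.map_sum_lt _ (pow_pos (zero_lt_one.trans hv1) _).ne' fun j hj => ?_
    have hj' : j < D := Finset.mem_range.1 hj
    rw [map_mul, map_pow]
    calc C.v P (aeval u (a j)) * C.v P v ^ j ≤ B ^ (D - j) * C.v P v ^ j := by
          gcongr
          exact v_aeval_le_pow C P hB1 (le_max_right _ _) _ _ (hdeg j hj')
      _ < C.v P v ^ (D - j) * C.v P v ^ j := by
          apply mul_lt_mul_of_pos_right
          · exact pow_lt_pow_left₀ hlt (zero_le) (by omega)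
          · exact pow_pos (zero_lt_one.trans hv1) _
      _ = C.v P v ^ D := by
          rw [← pow_add]
          congr 1
          omega
  rw [map_pow] at h2
  exact lt_irrefl _ h2

theorem sum_card (D m : ℕ) (hm : D ≤ m + 1) :
    2 * (∑ j : Fin D, (m + 1 - (j : ℕ)) : ℕ) + D * (D - 1) = 2 * (D * (m + 1)) := by
  rw [Fin.sum_univ_eq_sum_range (fun j => m + 1 - j) D]
  have h1 : ∑ j ∈ Finset.range D, (m + 1 - j) + ∑ j ∈ Finset.range D, j = D * (m + 1) := by
    rw [← Finset.sum_add_distrib]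
    rw [Finset.sum_congr rfl (fun j hj => ?_ : ∀ j ∈ Finset.range D, (m + 1 - j + j) = m + 1)]
    · simp
    · have := Finset.mem_range.1 hj
      omega
  have h2 := Finset.sum_range_id_mul_two D
  omega

/-- The genus bound. -/
theorem genus_le [Nonempty 𝒳] (hC : C.Fin) (h1 : C.l 0 = 1) {u v : K} (hu : Transcendental k u)
    [FiniteDimensional (IntermediateField.adjoin k {u}) K] (D : ℕ) (hD1 : 1 ≤ D)
    (hD : Module.finrank (IntermediateField.adjoin k {u}) K ≤ D)
    (hind : ∀ p : Fin D → k[X], ∑ j, aeval u (p j) * v ^ (j : ℕ) = 0 → p = 0)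
    (a : ℕ → k[X]) (hdeg : ∀ j < D, (a j).natDegree ≤ D - j)
    (hroot : v ^ D + ∑ j ∈ Finset.range D, aeval u (a j) * v ^ j = 0) :
    2 * (C.i 0 : ℤ) ≤ (D - 1) * (D - 2) := by
  classical
  have hu0 : u ≠ 0 := by
    rintro rfl
    exact hu isAlgebraic_zero
  set E := pole C u with hE
  have hEdeg : C.deg E ≤ D := (deg_pole_le C hC hu).trans (by exact_mod_cast hD)
  -- the number of monomials
  have hcount : ∀ m : ℕ, D ≤ m + 1 → (∑ j : Fin D, (m + 1 - (j : ℕ)) : ℕ) ≤ C.l (m • E) := by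
    intro m hm
    have := hC.finite_L (m • E)
    rw [← hC.finrank_L]
    have hmem : ∀ s : (Σ j : Fin D, Fin (m + 1 - (j : ℕ))),
        u ^ (s.2 : ℕ) * v ^ (s.1 : ℕ) ∈ C.L (m • E) := by
      rintro ⟨j, i⟩
      rw [Crv.mem_L]
      intro P
      have hb : exp ((m • E) P) = (max 1 (C.v P u)) ^ m := by
        rw [← exp_pole C hu0, ← exp_nsmul]
        rfl
      rw [hb, map_mul, map_pow, map_pow]
      have hij : (i : ℕ) + (j : ℕ) ≤ m := by
        have := i.2
        omega
      calc C.v P u ^ (i : ℕ) * C.v P v ^ (j : ℕ) ≤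
            (max 1 (C.v P u)) ^ (i : ℕ) * (max 1 (C.v P u)) ^ (j : ℕ) :=
            mul_le_mul' (pow_le_pow_left₀ zero_le (le_max_right _ _) _)
              (pow_le_pow_left₀ zero_le (v_le_max C P a hdeg hroot) _)
        _ = (max 1 (C.v P u)) ^ ((i : ℕ) + (j : ℕ)) := (pow_add _ _ _).symm
        _ ≤ _ := pow_le_pow_right₀ (le_max_left _ _) hij
    have hli : LinearIndependent k (fun s : (Σ j : Fin D, Fin (m + 1 - (j : ℕ))) =>
        (⟨u ^ (s.2 : ℕ) * v ^ (s.1 : ℕ), hmem s⟩ : C.L (m • E))) := by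
      have h2 : LinearIndependent k (fun s : (Σ j : Fin D, Fin (m + 1 - (j : ℕ))) =>
          u ^ (s.2 : ℕ) * v ^ (s.1 : ℕ)) := by
        rw [Fintype.linearIndependent_iff]
        intro g hg
        let p : Fin D → k[X] := fun j => ∑ i : Fin (m + 1 - (j : ℕ)), Polynomial.monomial (i : ℕ) (g ⟨j, i⟩)
        have hp : p = 0 := by
          apply hind
          rw [← hg, Fintype.sum_sigma]
          refine Finset.sum_congr rfl fun j _ => ?_
          simp only [p, map_sum, aeval_monomial, Finset.sum_mul]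
          refine Finset.sum_congr rfl fun i _ => ?_
          rw [Algebra.smul_def]
          ring
        rintro ⟨j, i⟩
        have h3 := congrArg (fun q : k[X] => q.coeff (i : ℕ)) (congrFun hp j)
        simp only [p, finsetSum_coeff, coeff_monomial, Pi.zero_apply, coeff_zero] at h3
        rw [Finset.sum_eq_single i] at h3
        · simpa using h3
        · intro b _ hb
          rw [if_neg]
          intro hbi
          exact hb (Fin.ext hbi)
        · intro hi
          exact absurd (Finset.mem_univ i) hi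
      exact LinearIndependent.of_comp (C.L (m • E)).subtype h2
    have h4 := hli.fintype_card_le_finrank
    rw [Fintype.card_sigma] at h4
    simpa using h4
  -- `deg E` is positive
  have hEpos : 0 < C.deg E := by
    have hE0 : (0 : 𝒳 →₀ ℤ) ≤ E := pole_nonneg C u
    by_contra hle
    have hEz : E = 0 := by
      by_contra hne
      exact hle (hC.deg_pos hE0 hne)
    have h2 := hcount (D + 1) (by omega)
    rw [hEz, smul_zero, h1] at h2
    have h3 : ((D + 1 + 1 - ((⟨0, hD1⟩ : Fin D) : ℕ)) : ℕ) ≤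
        (∑ j : Fin D, (D + 1 + 1 - (j : ℕ)) : ℕ) :=
      Finset.single_le_sum (f := fun j : Fin D => D + 1 + 1 - (j : ℕ)) (fun _ _ => Nat.zero_le _)
        (Finset.mem_univ _)
    simp only at h3
    omega
  obtain ⟨c, hc0, hc⟩ := hC.exists_bound
  obtain ⟨m, hm1, hm2⟩ : ∃ m : ℕ, D ≤ m + 1 ∧ c ≤ m := ⟨D + c.toNat, by omega, by omega⟩
  have hdm : C.deg (m • E) = m * C.deg E := by
    rw [map_nsmul, nsmul_eq_mul]
  have hi : C.i (m • E) = 0 := by
    apply hc
    rw [hdm]
    nlinarith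
  have hchi := hC.chi (m • E)
  rw [hi, h1, hdm] at hchi
  have h5 := hcount m hm1
  have h6 := sum_card D m hm1
  have h7 : (2 * (∑ j : Fin D, (m + 1 - (j : ℕ)) : ℕ) : ℤ) + D * (D - 1) = 2 * (D * (m + 1)) := by
    obtain ⟨D', rfl⟩ := Nat.exists_eq_add_of_le' hD1
    have h8 : D' + 1 - 1 = D' := by omega
    rw [h8] at h6
    have := congrArg (fun n : ℕ => (n : ℤ)) h6
    push_cast at this ⊢
    linarith
  have h9 : ((∑ j : Fin D, (m + 1 - (j : ℕ)) : ℕ) : ℤ) ≤ C.l (m • E) := by exact_mod_cast h5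
  have h10 : (C.l (m • E) : ℤ) = m * C.deg E + 1 - C.i 0 := by
    push_cast at hchi
    linarith
  have h11 : (m : ℤ) * C.deg E ≤ m * D := by
    have : (0 : ℤ) ≤ m := Int.natCast_nonneg m
    nlinarith
  nlinarith

end

end K467.Genus
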