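import Mathlib.Algebra.MvPolynomial.Equiv
import Mathlib.Algebra.MvPolynomial.SchwartzZippel
import Mathlib.Algebra.MvPolynomial.PDeriv
import Mathlib.RingTheory.MvPolynomial.Homogeneous
import Mathlib.RingTheory.MvPolynomial.Basic
import Mathlib.FieldTheory.Perfect
import Mathlib.FieldTheory.SeparablyGenerated

/-!
# Linear changes of variables making a polynomial monic
-/

set_option autoImplicit false
open MvPolynomial

namespace K467.LinNoether

universe u v

section

variable {k : Type u} [Field k] {s : ℕ}

theorem totalDegree_aeval_le {σ τ : Type*} (g : σ → MvPolynomial τ k)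
    (hg : ∀ i, (g i).totalDegree ≤ 1) (F : MvPolynomial σ k) :
    (aeval g F).totalDegree ≤ F.totalDegree := by
  classical
  rw [aeval_def, eval₂_eq]
  refine (totalDegree_finsetSum _ _).trans (Finset.sup_le fun m hm => ?_)
  refine (totalDegree_mul _ _).trans ?_
  have h1 : (algebraMap k (MvPolynomial τ k) (coeff m F)).totalDegree = 0 := totalDegree_C _
  rw [h1, zero_add]
  refine (totalDegree_finsetProd _ _).trans ?_
  refine le_trans (Finset.sum_le_sum (g := fun i => m i) fun i _ => ?_) (le_totalDegree hm)
  refine (totalDegree_pow _ _).trans ?_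
  have := hg i
  calc m i * (g i).totalDegree ≤ m i * 1 := by gcongr
    _ = m i := mul_one _

/-- The shear `x₀ ↦ x₀`, `x_{i+1} ↦ x_{i+1} + c_i x₀`. -/
noncomputable def shear (c : Fin s → k) : MvPolynomial (Fin (s + 1)) k →ₐ[k] MvPolynomial (Fin (s + 1)) k :=
  aeval (Fin.cases (X 0) (fun i => X i.succ + C (c i) * X 0))

@[simp] theorem shear_X_zero (c : Fin s → k) : shear c (X 0) = X 0 := by
  simp [shear]

@[simp] theorem shear_X_succ (c : Fin s → k) (i : Fin s) :
    shear c (X i.succ) = X i.succ + C (c i) * X 0 := by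
  simp [shear]

theorem shear_neg_shear (c : Fin s → k) (F : MvPolynomial (Fin (s + 1)) k) :
    shear (-c) (shear c F) = F := by
  have h : (shear (-c)).comp (shear c) = AlgHom.id k _ := by
    ext i
    refine Fin.cases ?_ (fun i => ?_) i
    · simp
    · rw [AlgHom.comp_apply, shear_X_succ, map_add, map_mul, shear_X_succ, shear_X_zero, ← algebraMap_eq,
        AlgHom.commutes]
      simp
  exact DFunLike.congr_fun h F

theorem shear_shear_neg (c : Fin s → k) (F : MvPolynomial (Fin (s + 1)) k) :
    shear c (shear (-c) F) = F := by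
  have := shear_neg_shear (-c) F
  rwa [neg_neg] at this

theorem totalDegree_shear_le (c : Fin s → k) (F : MvPolynomial (Fin (s + 1)) k) :
    (shear c F).totalDegree ≤ F.totalDegree := by
  refine totalDegree_aeval_le _ (fun i => ?_) F
  refine Fin.cases ?_ (fun i => ?_) i
  · simp
  · refine (totalDegree_add _ _).trans (max_le (by simp) ?_)
    refine (totalDegree_mul _ _).trans ?_
    simp

theorem totalDegree_shear (c : Fin s → k) (F : MvPolynomial (Fin (s + 1)) k) :
    (shear c F).totalDegree = F.totalDegree := by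
  refine le_antisymm (totalDegree_shear_le c F) ?_
  conv_lhs => rw [← shear_neg_shear c F]
  exact totalDegree_shear_le _ _

/-- The sheared polynomial as a polynomial in `x₀`. -/
noncomputable def uni (c : Fin s → k) (F : MvPolynomial (Fin (s + 1)) k) :
    Polynomial (MvPolynomial (Fin s) k) :=
  finSuccEquiv k s (shear c F)

theorem totalDegree_coeff_uni (c : Fin s → k) (F : MvPolynomial (Fin (s + 1)) k) (j : ℕ)
    (hj : (uni c F).coeff j ≠ 0) : ((uni c F).coeff j).totalDegree + j ≤ F.totalDegree := by
  rw [← totalDegree_shear c F]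
  exact totalDegree_coeff_finSuccEquiv_add_le _ _ hj

/-- Dehomogenized top degree part. -/
noncomputable def top (F : MvPolynomial (Fin (s + 1)) k) : MvPolynomial (Fin s) k :=
  aeval (Fin.cases (1 : MvPolynomial (Fin s) k) X) (homogeneousComponent F.totalDegree F)

theorem eval_top (c : Fin s → k) (F : MvPolynomial (Fin (s + 1)) k) :
    eval c (top F) = eval (Fin.cases 1 c) (homogeneousComponent F.totalDegree F) := by
  unfold top
  have h : (aeval c : MvPolynomial (Fin s) k →ₐ[k] k).comp (aeval (Fin.cases (1 : MvPolynomial (Fin s) k) X)) =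
      aeval (Fin.cases 1 c) := by
    ext i
    refine Fin.cases ?_ (fun i => ?_) i <;> simp
  have h2 := DFunLike.congr_fun h (homogeneousComponent F.totalDegree F)
  simpa [aeval_eq_eval] using h2

theorem coeff_uni_totalDegree (c : Fin s → k) (F : MvPolynomial (Fin (s + 1)) k) :
    (uni c F).coeff F.totalDegree = C (eval c (top F)) := by
  classical
  set D := F.totalDegree with hD
  have h0 : ((uni c F).coeff D).totalDegree = 0 := by
    by_cases h : (uni c F).coeff D = 0
    · rw [h, totalDegree_zero]
    · have := totalDegree_coeff_uni c F D h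
      omega
  have h1 : (uni c F).coeff D = C (eval 0 ((uni c F).coeff D)) := by
    rw [totalDegree_eq_zero_iff_eq_C] at h0
    conv_lhs => rw [h0]
    conv_rhs => rw [h0, eval_C]
  rw [h1]
  congr 1
  -- the univariate polynomial `F (T, c T)`
  have h2 : (uni c F).map (eval (0 : Fin s → k)) =
      aeval (fun i : Fin (s + 1) => Polynomial.C (Fin.cases (motive := fun _ => k) 1 c i) * Polynomial.X) F := by
    have h : ((Polynomial.mapRingHom (eval (0 : Fin s → k))).comp
        (finSuccEquiv k s : MvPolynomial (Fin (s + 1)) k →+* _)).comp (shear c : MvPolynomial (Fin (s + 1)) k →+* _) =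
        (aeval (fun i : Fin (s + 1) => Polynomial.C (Fin.cases (motive := fun _ => k) 1 c i) * Polynomial.X) :
          MvPolynomial (Fin (s + 1)) k →ₐ[k] Polynomial k) := by
      apply MvPolynomial.ringHom_ext
      · intro r
        simp [← algebraMap_eq]
        simp [finSuccEquiv_apply]
      · intro i
        refine Fin.cases ?_ (fun i => ?_) i
        · simp [finSuccEquiv_X_zero]
        · simp [finSuccEquiv_X_zero, finSuccEquiv_X_succ]
          simp [finSuccEquiv_apply]
    have h3 := DFunLike.congr_fun h F
    exact h3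
  have h3 : eval 0 ((uni c F).coeff D) = ((uni c F).map (eval (0 : Fin s → k))).coeff D := by
    rw [Polynomial.coeff_map]
  rw [h3, h2, eval_top, aeval_def, eval₂_eq, Polynomial.finsetSum_coeff, ← hD, homogeneousComponent_apply,
    map_sum, Finset.sum_filter]
  refine Finset.sum_congr rfl fun m hm => ?_
  have h4 : (algebraMap k (Polynomial k)) (coeff m F) *
      ∏ i ∈ m.support, (Polynomial.C (Fin.cases (motive := fun _ => k) 1 c i) * Polynomial.X) ^ m i =
      Polynomial.monomial m.degree (coeff m F * ∏ i ∈ m.support, (Fin.cases (motive := fun _ => k) 1 c i) ^ m i) := by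
    rw [Finset.prod_congr rfl (fun i _ => mul_pow _ _ _), Finset.prod_mul_distrib, Finset.prod_pow_eq_pow_sum,
      ← Polynomial.C_mul_X_pow_eq_monomial, map_mul, map_prod]
    simp only [map_pow]
    rw [mul_assoc]
    rfl
  rw [h4, Polynomial.coeff_monomial]
  split_ifs with h5
  · rw [eval_monomial]
    rfl
  · rfl

theorem natDegree_uni_le (c : Fin s → k) (F : MvPolynomial (Fin (s + 1)) k) :
    (uni c F).natDegree ≤ F.totalDegree := by
  rw [Polynomial.natDegree_le_iff_coeff_eq_zero]
  intro j hj
  by_contra h
  have := totalDegree_coeff_uni c F j h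
  omega

theorem natDegree_uni (c : Fin s → k) (F : MvPolynomial (Fin (s + 1)) k) (hc : eval c (top F) ≠ 0) :
    (uni c F).natDegree = F.totalDegree := by
  refine le_antisymm (natDegree_uni_le c F) ?_
  apply Polynomial.le_natDegree_of_ne_zero
  rw [coeff_uni_totalDegree]
  simpa using hc

/-- The monic polynomial in `x₀`. -/
noncomputable def mon (c : Fin s → k) (F : MvPolynomial (Fin (s + 1)) k) :
    Polynomial (MvPolynomial (Fin s) k) :=
  Polynomial.C (C (eval c (top F))⁻¹) * uni c F

theorem uni_eq (c : Fin s → k) (F : MvPolynomial (Fin (s + 1)) k) (hc : eval c (top F) ≠ 0) :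
    uni c F = Polynomial.C (C (eval c (top F))) * mon c F := by
  unfold mon
  rw [← mul_assoc, ← map_mul, ← map_mul, mul_inv_cancel₀ hc, map_one, map_one, one_mul]

theorem natDegree_mon (c : Fin s → k) (F : MvPolynomial (Fin (s + 1)) k) (hc : eval c (top F) ≠ 0) :
    (mon c F).natDegree = F.totalDegree := by
  unfold mon
  rw [Polynomial.natDegree_C_mul, natDegree_uni c F hc]
  simpa using hc

theorem monic_mon (c : Fin s → k) (F : MvPolynomial (Fin (s + 1)) k) (hc : eval c (top F) ≠ 0) :
    (mon c F).Monic := by
  rw [Polynomial.Monic, Polynomial.leadingCoeff, natDegree_mon c F hc]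
  unfold mon
  rw [Polynomial.coeff_C_mul, coeff_uni_totalDegree, ← map_mul, inv_mul_cancel₀ hc, map_one]

theorem totalDegree_coeff_mon (c : Fin s → k) (F : MvPolynomial (Fin (s + 1)) k) (j : ℕ)
    (hj : (mon c F).coeff j ≠ 0) : ((mon c F).coeff j).totalDegree + j ≤ F.totalDegree := by
  unfold mon at hj ⊢
  rw [Polynomial.coeff_C_mul] at hj ⊢
  have h1 := totalDegree_coeff_uni c F j (right_ne_zero_of_mul hj)
  have h2 : (C (eval c (top F))⁻¹ * (uni c F).coeff j).totalDegree ≤ ((uni c F).coeff j).totalDegree := by
    refine (totalDegree_mul _ _).trans ?_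
    rw [totalDegree_C, zero_add]
  omega

theorem top_ne_zero (F : MvPolynomial (Fin (s + 1)) k) (hF : F ≠ 0) : top F ≠ 0 := by
  classical
  obtain ⟨m, hm, hmD⟩ : ∃ m ∈ F.support, m.degree = F.totalDegree := by
    have h1 : F.support.Nonempty := by
      rw [Finset.nonempty_iff_ne_empty, ne_eq, support_eq_empty]; exact hF
    obtain ⟨m, hm, hm2⟩ := Finset.exists_mem_eq_sup F.support h1 (fun m => (m.sum fun _ e => e))
    exact ⟨m, hm, hm2.symm⟩
  set H := homogeneousComponent F.totalDegree F with hH
  have hcoef : coeff m H ≠ 0 := by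
    rw [hH, coeff_homogeneousComponent, if_pos hmD]
    exact mem_support_iff.1 hm
  have htop : top F = (finSuccEquiv k s H).eval 1 := by
    unfold top
    rw [← hH]
    have h : ((aeval (Fin.cases (1 : MvPolynomial (Fin s) k) X) :
          MvPolynomial (Fin (s+1)) k →ₐ[k] MvPolynomial (Fin s) k) :
          MvPolynomial (Fin (s+1)) k →+* MvPolynomial (Fin s) k) =
        (Polynomial.evalRingHom (1 : MvPolynomial (Fin s) k)).comp
          (finSuccEquiv k s : MvPolynomial (Fin (s + 1)) k →+* _) := by
      apply MvPolynomial.ringHom_ext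
      · intro r
        simp [finSuccEquiv_apply]
      · intro i
        refine Fin.cases ?_ (fun i => ?_) i
        · simp [finSuccEquiv_X_zero]
        · simp [finSuccEquiv_X_succ]
    exact DFunLike.congr_fun h H
  intro h0
  have h2 : coeff m.tail (top F) = coeff m H := by
    rw [htop, Polynomial.eval_eq_sum_range]
    simp only [one_pow, mul_one]
    rw [coeff_sum, Finset.sum_eq_single (m 0)]
    · rw [finSuccEquiv_coeff_coeff, Finsupp.cons_tail]
    · intro i _ hi
      rw [finSuccEquiv_coeff_coeff, hH, coeff_homogeneousComponent, if_neg]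
      intro h3
      apply hi
      rw [← hmD] at h3
      have h4 : (Finsupp.cons i m.tail).degree = i + m.tail.degree := by
        simp [Finsupp.degree_eq_sum, Fin.sum_univ_succ]
      have h5 : m.degree = m 0 + m.tail.degree := by
        simp [Finsupp.degree_eq_sum, Fin.sum_univ_succ, Finsupp.tail_apply]
      omega
    · intro h3
      have h4 : (finSuccEquiv k s H).coeff (m 0) = 0 := by
        apply Polynomial.coeff_eq_zero_of_natDegree_lt
        simpa using h3
      rw [h4, coeff_zero]
  rw [h0, coeff_zero] at h2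
  exact hcoef h2.symm

theorem totalDegree_top_le (F : MvPolynomial (Fin (s + 1)) k) :
    (top F).totalDegree ≤ F.totalDegree := by
  unfold top
  refine (totalDegree_aeval_le _ (fun i => ?_) _).trans
    (homogeneousComponent_isHomogeneous _ _).totalDegree_le
  refine Fin.cases ?_ (fun i => ?_) i <;> simp

theorem totalDegree_pderiv_lt {σ : Type*} {p : MvPolynomial σ k} (i : σ)
    (hp : pderiv i p ≠ 0) : (pderiv i p).totalDegree < p.totalDegree := by
  classical
  have hpos : 0 < p.totalDegree := by
    by_contra h
    have h2 : p.totalDegree = 0 := by omega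
    rw [totalDegree_eq_zero_iff_eq_C] at h2
    rw [h2, pderiv_C] at hp
    exact hp rfl
  rw [totalDegree, Finset.sup_lt_iff (by simpa using hpos)]
  intro s hs
  rw [mem_support_iff, coeff_pderiv] at hs
  have h1 : coeff (s + Finsupp.single i 1) p ≠ 0 := fun h => hs (by rw [h]; simp)
  have h2 := le_totalDegree (mem_support_iff.mpr h1)
  rw [Finsupp.sum_add_index' (by simp) (by simp), Finsupp.sum_single_index rfl] at h2
  omega

/-- An irreducible polynomial over a perfect field has a nonzero partial derivative. -/
theorem exists_pderiv_ne_zero [PerfectField k] {σ : Type*} {F : MvPolynomial σ k}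
    (hF : Irreducible F) : ∃ i, pderiv i F ≠ 0 := by
  classical
  by_contra! hcon
  obtain ⟨p, hp⟩ := CharP.exists k
  have hcoef : ∀ m ∈ F.support, ∀ i, ((m i : ℕ) : k) = 0 := by
    intro m hm i
    by_contra h
    have hi : m i ≠ 0 := by rintro h2; exact h (by rw [h2, Nat.cast_zero])
    have h1 := congrArg (coeff (m - Finsupp.single i 1)) (hcon i)
    rw [coeff_pderiv, coeff_zero] at h1
    have h2 : m - Finsupp.single i 1 + Finsupp.single i 1 = m :=
      tsub_add_cancel_of_le (Finsupp.single_le_iff.2 (Nat.one_le_iff_ne_zero.2 hi))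
    rw [h2] at h1
    rcases mul_eq_zero.1 h1 with h3 | h3
    · exact (mem_support_iff.1 hm) h3
    · apply h
      rw [Finsupp.tsub_apply, Finsupp.single_eq_same] at h3
      have h4 : ((m i : ℕ) : k) = ((m i - 1 : ℕ) : k) + 1 := by
        rw [← Nat.cast_succ]
        congr 1
        omega
      rw [h4]; exact h3
  have hnc : ∃ m ∈ F.support, ∃ i, m i ≠ 0 := by
    by_contra! h
    have h0 : ∀ m ∈ F.support, m = 0 := fun m hm => Finsupp.ext (h m hm)
    have h1 : F = C (coeff 0 F) := by
      ext m
      rw [coeff_C]
      split_ifs with h2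
      · rw [h2]
      · by_contra h3
        exact h2 (h0 m (mem_support_iff.2 h3)).symm
    have h2 : coeff 0 F ≠ 0 := by
      intro h3
      rw [h3, C_0] at h1
      exact hF.ne_zero h1
    apply hF.not_isUnit
    rw [h1]
    exact (isUnit_iff_ne_zero.2 h2).map C
  obtain ⟨m₀, hm₀, i₀, hi₀⟩ := hnc
  rcases (CharP.char_is_prime_or_zero k p) with hpp | hp0
  · have : Fact p.Prime := ⟨hpp⟩
    have hperf : PerfectRing k p := PerfectField.toPerfectRing p
    have hdvd : ∀ m ∈ F.support, ∀ i, p ∣ m i := fun m hm i =>
      (CharP.cast_eq_zero_iff k p _).1 (hcoef m hm i)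
    have hex : ∀ m : σ →₀ ℕ, ∃ m' : σ →₀ ℕ, m ∈ F.support → m = p • m' := by
      intro m
      by_cases hm : m ∈ F.support
      · refine ⟨m.mapRange (fun n => n / p) (Nat.zero_div p), fun _ => Finsupp.ext fun i => ?_⟩
        rw [Finsupp.smul_apply, Finsupp.mapRange_apply, smul_eq_mul, Nat.mul_div_cancel' (hdvd m hm i)]
      · exact ⟨0, fun h => absurd h hm⟩
    choose r hr using hex
    let G : MvPolynomial σ k := ∑ m ∈ F.support, monomial (r m) ((frobeniusEquiv k p).symm (coeff m F))
    have hG : G ^ p = F := by
      conv_rhs => rw [← support_sum_monomial_coeff F]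
      rw [← frobenius_def, map_sum]
      refine Finset.sum_congr rfl fun m hm => ?_
      rw [frobenius_def, monomial_pow, ← hr m hm]
      congr 1
      have := (frobeniusEquiv k p).apply_symm_apply (coeff m F)
      rwa [frobeniusEquiv_def] at this
    rw [← hG] at hF
    exact not_irreducible_pow hpp.ne_one hF
  · subst hp0
    have : CharZero k := CharP.charP_to_charZero k
    exact hi₀ (by exact_mod_cast hcoef m₀ hm₀ i₀)

/-- A good shear. -/
theorem exists_good {K : Type v} [Field K] [Algebra k K] [Finite k]
    (F : MvPolynomial (Fin (s + 1)) k) (hF : F ≠ 0) (w : Fin (s + 1) → K) (hw : ∃ i, w i ≠ 0)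
    (hq : F.totalDegree + 1 < Nat.card k) :
    ∃ c : Fin s → k, eval c (top F) ≠ 0 ∧ w 0 + ∑ i, algebraMap k K (c i) * w i.succ ≠ 0 := by
  classical
  cases nonempty_fintype k
  let Q : MvPolynomial (Fin s) K := C (w 0) + ∑ i, C (w (Fin.succ i)) * X i
  have hQeval : ∀ c : Fin s → K, eval c Q = w 0 + ∑ i, w (Fin.succ i) * c i := by
    intro c; simp [Q]
  have hQ : Q ≠ 0 := by
    intro h
    obtain ⟨i, hi⟩ := hw
    have h0 : ∀ c : Fin s → K, w 0 + ∑ i, w (Fin.succ i) * c i = 0 := by
      intro c; rw [← hQeval, h, map_zero]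
    have h1 : w 0 = 0 := by simpa using h0 0
    refine hi ?_
    refine Fin.cases h1 (fun j => ?_) i
    have := h0 (Pi.single j 1)
    rw [h1, zero_add, Finset.sum_eq_single j] at this
    · simpa using this
    · intro b _ hb; simp [hb]
    · intro h; exact absurd (Finset.mem_univ _) h
  have hQdeg : Q.totalDegree ≤ 1 := by
    refine (totalDegree_add _ _).trans (max_le (by simp) ?_)
    refine totalDegree_finsetSum_le fun i _ => ?_
    refine (totalDegree_mul _ _).trans ?_
    simp
  let P : MvPolynomial (Fin s) K := (top F).map (algebraMap k K) * Q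
  have hT : (top F).map (algebraMap k K) ≠ 0 := by
    rw [ne_eq, map_eq_zero_iff _ (map_injective _ (algebraMap k K).injective)]
    exact top_ne_zero F hF
  have hP : P ≠ 0 := mul_ne_zero hT hQ
  have hPdeg : P.totalDegree ≤ F.totalDegree + 1 := by
    refine (totalDegree_mul _ _).trans (add_le_add ?_ hQdeg)
    refine le_trans ?_ (totalDegree_top_le F)
    exact Finset.sup_mono (support_map_subset _ _)
  let S : Finset K := Finset.univ.image (algebraMap k K)
  have hS : S.card = Nat.card k := by
    rw [Finset.card_image_of_injective _ (algebraMap k K).injective, Nat.card_eq_fintype_card]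
    rfl
  by_contra! hcon
  have hz : ∀ f ∈ Fintype.piFinset (fun _ : Fin s => S), eval f P = 0 := by
    intro f hf
    rw [Fintype.mem_piFinset] at hf
    have : ∀ i, ∃ c : k, algebraMap k K c = f i := by
      intro i
      obtain ⟨c, -, hc⟩ := Finset.mem_image.1 (hf i)
      exact ⟨c, hc⟩
    choose c hc using this
    have hc' : f = algebraMap k K ∘ c := by
      funext i; exact (hc i).symm
    rw [map_mul, hQeval]
    by_cases h : eval c (top F) = 0
    · rw [hc', eval_map, ← eval₂_comp, h, map_zero, zero_mul]
    · have h2 := hcon c h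
      have h3 : w 0 + ∑ i, w (Fin.succ i) * f i = 0 := by
        rw [← h2]
        congr 1
        refine Finset.sum_congr rfl fun i _ => ?_
        rw [← hc i, mul_comm]
      rw [h3, mul_zero]
  have hsz := schwartz_zippel_totalDegree hP S
  rw [Finset.filter_true_of_mem hz, Fintype.card_piFinset_const] at hsz
  have hSpos : (0 : ℚ≥0) < (S.card : ℚ≥0) := by
    rw [hS]
    have : 0 < Nat.card k := by omega
    exact_mod_cast this
  rw [Nat.cast_pow, div_self (pow_pos hSpos _).ne', one_le_div hSpos] at hsz
  have h4 : S.card ≤ P.totalDegree := by exact_mod_cast hsz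
  omega

end

section eval

variable {k : Type u} [Field k] {s : ℕ} {K : Type v} [Field K] [Algebra k K]

/-- The new coordinates `y'_i = y_{i+1} - c_i y₀`. -/
def ynew (c : Fin s → k) (y : Fin (s + 1) → K) : Fin s → K :=
  fun i => y i.succ - algebraMap k K (c i) * y 0

/-- The sheared polynomial with coefficients evaluated at the new coordinates. -/
noncomputable def E (c : Fin s → k) (y : Fin (s + 1) → K) :
    MvPolynomial (Fin (s + 1)) k →+* Polynomial K :=
  (Polynomial.mapRingHom ((aeval (ynew c y) : MvPolynomial (Fin s) k →ₐ[k] K) :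
    MvPolynomial (Fin s) k →+* K)).comp
    ((finSuccEquiv k s : MvPolynomial (Fin (s + 1)) k →+* _).comp
      (shear c : MvPolynomial (Fin (s + 1)) k →+* _))

theorem E_apply (c : Fin s → k) (y : Fin (s + 1) → K) (F : MvPolynomial (Fin (s + 1)) k) :
    E c y F = (uni c F).map ((aeval (ynew c y) : MvPolynomial (Fin s) k →ₐ[k] K) :
      MvPolynomial (Fin s) k →+* K) := rfl

theorem E_C (c : Fin s → k) (y : Fin (s + 1) → K) (a : k) :
    E c y (C a) = Polynomial.C (algebraMap k K a) := by
  rw [E_apply, uni, ← algebraMap_eq, AlgHom.commutes, algebraMap_eq, finSuccEquiv_apply]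
  simp

theorem E_X_zero (c : Fin s → k) (y : Fin (s + 1) → K) : E c y (X 0) = Polynomial.X := by
  rw [E_apply, uni, shear_X_zero, finSuccEquiv_X_zero, Polynomial.map_X]

theorem E_X_succ (c : Fin s → k) (y : Fin (s + 1) → K) (i : Fin s) :
    E c y (X i.succ) = Polynomial.C (ynew c y i) + Polynomial.C (algebraMap k K (c i)) * Polynomial.X := by
  rw [← E_C c y (c i), ← E_X_zero c y, ← map_mul]
  rw [E_apply, E_apply, uni, uni, shear_X_succ, map_add, Polynomial.map_add, finSuccEquiv_X_succ]
  congr 1
  · simp
  · rw [map_mul, map_mul, shear_X_zero, ← algebraMap_eq, AlgHom.commutes, map_mul]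

theorem eval_E (c : Fin s → k) (y : Fin (s + 1) → K) (F : MvPolynomial (Fin (s + 1)) k) :
    (E c y F).eval (y 0) = aeval y F := by
  have h : (Polynomial.evalRingHom (y 0)).comp (E c y) =
      ((aeval y : MvPolynomial (Fin (s + 1)) k →ₐ[k] K) : MvPolynomial (Fin (s + 1)) k →+* K) := by
    apply MvPolynomial.ringHom_ext
    · intro a
      simp [E_C]
    · intro i
      refine Fin.cases ?_ (fun i => ?_) i
      · simp [E_X_zero]
      · simp [E_X_succ, ynew]
  exact DFunLike.congr_fun h F

theorem eval_derivative_E (c : Fin s → k) (y : Fin (s + 1) → K) (F : MvPolynomial (Fin (s + 1)) k) :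
    (E c y F).derivative.eval (y 0) =
      aeval y (pderiv 0 F) + ∑ i, algebraMap k K (c i) * aeval y (pderiv (Fin.succ i) F) := by
  classical
  induction F using MvPolynomial.induction_on with
  | C a => simp [E_C]
  | add p q hp hq =>
    simp only [map_add, Polynomial.eval_add, hp, hq, mul_add,
      Finset.sum_add_distrib]
    ring
  | mul_X p j hp =>
    rw [map_mul, Polynomial.derivative_mul, Polynomial.eval_add, Polynomial.eval_mul,
      Polynomial.eval_mul, hp, eval_E, eval_E, aeval_X]
    have hL : ∀ i, aeval y (pderiv i (p * X j)) =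
        aeval y (pderiv i p) * y j + aeval y p * aeval y (pderiv i (X j : MvPolynomial (Fin (s + 1)) k)) := by
      intro i
      rw [Derivation.leibniz, map_add, smul_eq_mul, smul_eq_mul, map_mul, map_mul, aeval_X]
      ring
    simp only [hL]
    have hX : (E c y (X j)).derivative.eval (y 0) =
        aeval y (pderiv 0 (X j : MvPolynomial (Fin (s + 1)) k)) +
        ∑ i, algebraMap k K (c i) * aeval y (pderiv (Fin.succ i) (X j : MvPolynomial (Fin (s + 1)) k)) := by
      refine Fin.cases ?_ (fun j => ?_) j
      · rw [E_X_zero, Polynomial.derivative_X, Polynomial.eval_one, pderiv_X_self, map_one,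
          Finset.sum_eq_zero, add_zero]
        intro i _
        rw [pderiv_X_of_ne (Fin.succ_ne_zero i).symm, map_zero, mul_zero]
      · rw [E_X_succ, Finset.sum_eq_single j]
        · rw [pderiv_X_of_ne (Fin.succ_ne_zero j), pderiv_X_self]
          simp
        · intro b _ hb
          rw [pderiv_X_of_ne, map_zero, mul_zero]
          intro h
          exact hb (Fin.succ_injective _ h).symm
        · intro h; exact absurd (Finset.mem_univ _) h
    rw [hX, add_mul, mul_add, Finset.sum_mul, Finset.mul_sum]
    simp only [mul_add, Finset.sum_add_distrib]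
    have e1 : ∀ i, algebraMap k K (c i) * (aeval y (pderiv (Fin.succ i) p) * y j) =
      algebraMap k K (c i) * aeval y (pderiv (Fin.succ i) p) * y j := fun i => by ring
    have e2 : ∀ i, algebraMap k K (c i) * (aeval y p * aeval y (pderiv (Fin.succ i) (X j : MvPolynomial (Fin (s + 1)) k))) =
      aeval y p * (algebraMap k K (c i) * aeval y (pderiv (Fin.succ i) (X j : MvPolynomial (Fin (s + 1)) k))) := fun i => by ring
    simp only [e1, e2]
    ring

/-- **The linear Noether normalization step.** -/
theorem exists_step [PerfectField k] [Finite k] (y : Fin (s + 1) → K) (F : MvPolynomial (Fin (s + 1)) k)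
    (hF0 : F ≠ 0) (hFy : aeval y F = 0)
    (hmin : ∀ G : MvPolynomial (Fin (s + 1)) k, G ≠ 0 → aeval y G = 0 → F.totalDegree ≤ G.totalDegree)
    (hq : F.totalDegree + 1 < Nat.card k) :
    ∃ c : Fin s → k, eval c (top F) ≠ 0 ∧ (E c y F).eval (y 0) = 0 ∧
      (E c y F).derivative.eval (y 0) ≠ 0 := by
  have hirr : Irreducible F :=
    irreducible_of_forall_totalDegree_le (a := y) (fun G h1 h2 => hmin G h1 h2) hF0 hFy
  obtain ⟨i, hi⟩ := exists_pderiv_ne_zero hirr
  have hw : ∃ i, aeval y (pderiv i F) ≠ 0 := by
    refine ⟨i, fun h => ?_⟩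
    have h1 := hmin _ hi h
    have h2 := totalDegree_pderiv_lt i hi
    omega
  obtain ⟨c, hc1, hc2⟩ := exists_good F hF0 (fun i => aeval y (pderiv i F)) hw hq
  refine ⟨c, hc1, by rw [eval_E, hFy], ?_⟩
  rw [eval_derivative_E]
  exact hc2

end eval

end K467.LinNoether
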