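import Groth.Agent.Zeta.K467.HilbDeg
import Mathlib.FieldTheory.SeparableClosure
import Mathlib.RingTheory.AlgebraicIndependent.TranscendenceBasis

/-!
# Noether normalization by linear forms over a finite field
-/

set_option autoImplicit false
open MvPolynomial

namespace K467.LinNorm

open LinNoether HilbDeg

universe u v

variable (k : Type u) [Field k] {L : Type v} [Field L] [Algebra k L] {N : ℕ}

/-- `y` is a system of linear forms in `b` over which `b` is integral and the field separable. -/
structure Norm (b : Fin N → L) {s : ℕ} (y : Fin s → L) : Prop where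
  mem : ∀ i, y i ∈ Submodule.span k (Set.range b)
  int : ∀ j, IsIntegral (Algebra.adjoin k (Set.range y)) (b j)
  sep : Algebra.IsSeparable (IntermediateField.adjoin k (Set.range y)) L

variable {k}

theorem norm_self (b : Fin N → L) (hb : IntermediateField.adjoin k (Set.range b) = ⊤) : Norm k b b where
  mem i := Submodule.subset_span ⟨i, rfl⟩
  int j := by
    have h : b j = algebraMap (Algebra.adjoin k (Set.range b)) L ⟨b j, Algebra.subset_adjoin ⟨j, rfl⟩⟩ := rfl
    rw [h]
    exact isIntegral_algebraMap
  sep := by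
    rw [hb]
    refine ⟨fun x => ?_⟩
    have h : x = algebraMap (⊤ : IntermediateField k L) L ⟨x, trivial⟩ := rfl
    rw [h]
    exact isSeparable_algebraMap _

/-- the coefficients of a polynomial pulled back from `k[y]` -/
theorem aeval_mem_adjoin {s : ℕ} (y : Fin s → L) (G : MvPolynomial (Fin s) k) :
    aeval y G ∈ Algebra.adjoin k (Set.range y) := by
  rw [Algebra.adjoin_range_eq_range_aeval]
  exact ⟨G, rfl⟩

theorem ynew_mem_span {s : ℕ} (c : Fin s → k) (y : Fin (s + 1) → L) (b : Fin N → L)
    (h : ∀ i, y i ∈ Submodule.span k (Set.range b)) (i : Fin s) :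
    ynew c y i ∈ Submodule.span k (Set.range b) := by
  unfold ynew
  rw [← Algebra.smul_def]
  exact sub_mem (h _) (Submodule.smul_mem _ _ (h _))

theorem exists_isIntegral {s : ℕ} (y : Fin (s + 1) → L) (F : MvPolynomial (Fin (s + 1)) k) (c : Fin s → k)
    (hc : eval c (top F) ≠ 0) (hF : (E c y F).eval (y 0) = 0) :
    IsIntegral (Algebra.adjoin k (Set.range (ynew c y))) (y 0) := by
  let A' := Algebra.adjoin k (Set.range (ynew c y))
  let θ : MvPolynomial (Fin s) k →+* A' :=
    ((aeval (ynew c y) : MvPolynomial (Fin s) k →ₐ[k] L).codRestrict A' (aeval_mem_adjoin _) :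
      MvPolynomial (Fin s) k →ₐ[k] A')
  refine ⟨(mon c F).map θ, (monic_mon c F hc).map _, ?_⟩
  rw [Polynomial.eval₂_map]
  have h1 : (algebraMap A' L).comp θ = ((aeval (ynew c y) : MvPolynomial (Fin s) k →ₐ[k] L) :
    MvPolynomial (Fin s) k →+* L) := rfl
  rw [h1]
  rw [E_apply, uni_eq c F hc, Polynomial.map_mul, Polynomial.eval_mul, ← Polynomial.eval₂_eq_eval_map,
    ← Polynomial.eval₂_eq_eval_map, mul_eq_zero] at hF
  refine hF.resolve_left ?_
  rw [Polynomial.eval₂_C]
  simpa using hc

theorem exists_isSeparable {s : ℕ} (y : Fin (s + 1) → L) (F : MvPolynomial (Fin (s + 1)) k) (c : Fin s → k)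
    (hF : (E c y F).eval (y 0) = 0) (hF' : (E c y F).derivative.eval (y 0) ≠ 0) :
    IsSeparable (IntermediateField.adjoin k (Set.range (ynew c y))) (y 0) := by
  let M := IntermediateField.adjoin k (Set.range (ynew c y))
  have hmem : ∀ G : MvPolynomial (Fin s) k, aeval (ynew c y) G ∈ M := fun G =>
    IntermediateField.algebra_adjoin_le_adjoin k _ (aeval_mem_adjoin _ G)
  let θ : MvPolynomial (Fin s) k →+* M :=
    ((aeval (ynew c y) : MvPolynomial (Fin s) k →ₐ[k] L).codRestrict M.toSubalgebra hmem :
      MvPolynomial (Fin s) k →ₐ[k] M.toSubalgebra)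
  let g : Polynomial M := (uni c F).map θ
  have h1 : (algebraMap M L).comp θ = ((aeval (ynew c y) : MvPolynomial (Fin s) k →ₐ[k] L) :
    MvPolynomial (Fin s) k →+* L) := rfl
  have hg : g.map (algebraMap M L) = E c y F := by
    rw [Polynomial.map_map, h1, E_apply]
  have hg0 : Polynomial.aeval (y 0) g = 0 := by
    rw [Polynomial.aeval_def, Polynomial.eval₂_eq_eval_map, hg, hF]
  have hg' : Polynomial.aeval (y 0) (Polynomial.derivative g) ≠ 0 := by
    rw [Polynomial.aeval_def, Polynomial.eval₂_eq_eval_map, ← Polynomial.derivative_map, hg]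
    exact hF'
  have hg00 : g ≠ 0 := by
    intro h
    rw [h] at hg'
    simp at hg'
  have hint : IsIntegral M (y 0) := (show IsAlgebraic M (y 0) from ⟨g, hg00, hg0⟩).isIntegral
  rw [IsSeparable, Polynomial.separable_iff_derivative_ne_zero (minpoly.irreducible hint)]
  intro h0
  obtain ⟨h, hh⟩ := minpoly.dvd M (y 0) hg0
  apply hg'
  rw [hh, Polynomial.derivative_mul, h0, zero_mul, zero_add, map_mul, minpoly.aeval, zero_mul]

theorem y_eq {s : ℕ} (c : Fin s → k) (y : Fin (s + 1) → L) (i : Fin s) :
    y i.succ = ynew c y i + algebraMap k L (c i) * y 0 := by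
  unfold ynew
  ring

/-- One step. -/
theorem step [PerfectField k] [Finite k] (b : Fin N → L) {s : ℕ} (y : Fin (s + 1) → L) (h : Norm k b y)
    (F : MvPolynomial (Fin (s + 1)) k)
    (hF0 : F ≠ 0) (hFy : aeval y F = 0)
    (hmin : ∀ G : MvPolynomial (Fin (s + 1)) k, G ≠ 0 → aeval y G = 0 → F.totalDegree ≤ G.totalDegree)
    (hq : F.totalDegree + 1 < Nat.card k) : ∃ y' : Fin s → L, Norm k b y' := by
  obtain ⟨c, hc, h1, h2⟩ := exists_step y F hF0 hFy hmin hq
  have hint := exists_isIntegral y F c hc h1
  have hsep := exists_isSeparable y F c h1 h2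
  refine ⟨ynew c y, fun i => ynew_mem_span c y b h.mem i, fun j => ?_, ?_⟩
  · let A := Algebra.adjoin k (Set.range y)
    let A' := Algebra.adjoin k (Set.range (ynew c y))
    have hle : A' ≤ A := by
      refine Algebra.adjoin_le ?_
      rintro _ ⟨i, rfl⟩
      unfold ynew
      exact sub_mem (Algebra.subset_adjoin ⟨_, rfl⟩)
        (mul_mem (Subalgebra.algebraMap_mem _ _) (Algebra.subset_adjoin ⟨_, rfl⟩))
    have hle2 : A ≤ (integralClosure A' L).restrictScalars k := by
      refine Algebra.adjoin_le ?_
      rintro _ ⟨i, rfl⟩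
      refine Fin.cases ?_ (fun i => ?_) i
      · exact hint
      · rw [y_eq c y i]
        refine add_mem ?_ (mul_mem (Subalgebra.algebraMap_mem _ _) hint)
        have h3 : ynew c y i = algebraMap A' L ⟨ynew c y i, Algebra.subset_adjoin ⟨i, rfl⟩⟩ := rfl
        rw [h3]
        exact isIntegral_algebraMap
    let _ : Algebra A' A := (Subalgebra.inclusion hle).toRingHom.toAlgebra
    have : IsScalarTower A' A L := IsScalarTower.of_algebraMap_eq fun _ => rfl
    have hii : Algebra.IsIntegral A' A := ⟨fun x => by
      have h3 : IsIntegral A' (algebraMap A L x) := hle2 x.2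
      exact (isIntegral_algebraMap_iff (B := L) (fun a b hab => Subtype.ext hab)).1 h3⟩
    exact isIntegral_trans (R := A') (A := A) (b j) (h.int j)
  · let M := IntermediateField.adjoin k (Set.range y)
    let M' := IntermediateField.adjoin k (Set.range (ynew c y))
    let E := IntermediateField.adjoin M' {y 0}
    have hE : Algebra.IsSeparable M' E :=
      (IntermediateField.isSeparable_adjoin_simple_iff_isSeparable M' L).2 hsep
    have hy0 : y 0 ∈ E := IntermediateField.mem_adjoin_simple_self M' (y 0)
    have hle : M ≤ E.restrictScalars k := by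
      refine IntermediateField.adjoin_le_iff.2 ?_
      rintro _ ⟨i, rfl⟩
      refine Fin.cases ?_ (fun i => ?_) i
      · exact hy0
      · rw [y_eq c y i]
        refine add_mem ?_ (mul_mem ?_ hy0)
        · have h3 : ynew c y i = algebraMap M' L ⟨ynew c y i, IntermediateField.subset_adjoin k _ ⟨i, rfl⟩⟩ := rfl
          rw [h3]
          exact E.algebraMap_mem _
        · exact (E.restrictScalars k).algebraMap_mem _
    have hs2 : Algebra.IsSeparable (E.restrictScalars k) L := by
      let _ : Algebra M (E.restrictScalars k) := (IntermediateField.inclusion hle).toRingHom.toAlgebra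
      have : IsScalarTower M (E.restrictScalars k) L := IsScalarTower.of_algebraMap_eq fun _ => rfl
      have := h.sep
      exact Algebra.isSeparable_tower_top_of_isSeparable M (E.restrictScalars k) L
    have hs3 : Algebra.IsSeparable E L := hs2
    exact Algebra.IsSeparable.trans M' E L

theorem isAlgebraic_of_norm {b : Fin N → L} {s : ℕ} {y : Fin s → L} (h : Norm k b y) :
    Algebra.IsAlgebraic (Algebra.adjoin k (Set.range y)) L := by
  open scoped IntermediateField.algebraAdjoinAdjoin in
  have := h.sep
  have h1 : Algebra.IsAlgebraic (IntermediateField.adjoin k (Set.range y)) L := inferInstance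
  exact (IsFractionRing.comap_isAlgebraic_iff (A := Algebra.adjoin k (Set.range y))
    (K := IntermediateField.adjoin k (Set.range y)) (C := L)).2 h1

theorem exists_rel {b : Fin N → L} {R d : ℕ} (hR : Algebra.trdeg k L = R) (hDB : DB k b R d)
    {s : ℕ} (y : Fin (s + 1) → L) (h : Norm k b y) (hdep : ¬ AlgebraicIndependent k y) :
    ∃ F : MvPolynomial (Fin (s + 1)) k, F ≠ 0 ∧ F.totalDegree ≤ d ∧ aeval y F = 0 := by
  classical
  have := isAlgebraic_of_norm h
  obtain ⟨u, hu, hbasis⟩ := exists_isTranscendenceBasis_subset (R := k) (Set.range y)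
  have hcard : Cardinal.mk u = R := by
    rw [← hR]
    exact hbasis.cardinalMk_eq_trdeg
  obtain ⟨e⟩ : Nonempty (Fin R ≃ u) := by
    rw [← Cardinal.lift_mk_eq'.{0, v}]
    simp [hcard]
  have hidx : ∀ i : Fin R, ∃ j : Fin (s + 1), y j = e i := fun i => hu (e i).2
  choose j hj using hidx
  have hjinj : Function.Injective j := by
    intro i i' hii
    apply e.injective
    apply Subtype.ext
    rw [← hj i, ← hj i', hii]
  have hind : AlgebraicIndependent k (fun i : Fin R => y (j i)) := by
    have h1 : (fun i : Fin R => y (j i)) = (fun x : u => (x : L)) ∘ e := by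
      funext i
      exact hj i
    rw [h1]
    exact hbasis.1.comp e e.injective
  have hns : ∃ j₀, j₀ ∉ Set.range j := by
    by_contra! hcon
    have hbij : Function.Bijective j := ⟨hjinj, fun x => hcon x⟩
    apply hdep
    have h2 := hind.comp (Equiv.ofBijective j hbij).symm (Equiv.injective _)
    have h3 : (fun i : Fin R => y (j i)) ∘ (Equiv.ofBijective j hbij).symm = y := by
      funext x
      simp only [Function.comp_apply]
      congr 1
      exact (Equiv.ofBijective j hbij).apply_symm_apply x
    rwa [h3] at h2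
  obtain ⟨j₀, hj₀⟩ := hns
  let g : Fin (R + 1) → Fin (s + 1) := Fin.cons j₀ j
  have hg : Function.Injective g := Fin.cons_injective_iff.2 ⟨hj₀, hjinj⟩
  obtain ⟨F, hF0, hFd, hF⟩ := hDB (y ∘ g) (fun i => h.mem _) hind
  refine ⟨rename g F, ?_, (totalDegree_rename_le g F).trans hFd, ?_⟩
  · rw [ne_eq, map_eq_zero_iff _ (rename_injective g hg)]
    exact hF0
  · rw [aeval_rename, hF]

/-- **Noether normalization by linear forms** over a finite field. -/
theorem exists_norm [Finite k] (b : Fin N → L) (hb : IntermediateField.adjoin k (Set.range b) = ⊤)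
    {R d : ℕ} (hR : Algebra.trdeg k L = R) (hDB : DB k b R d) (hq : d + 1 < Nat.card k) :
    ∃ y : Fin R → L, Norm k b y ∧ AlgebraicIndependent k y := by
  have key : ∀ s : ℕ, ∀ y : Fin s → L, Norm k b y → ∃ (s' : ℕ) (y' : Fin s' → L), Norm k b y' ∧
      AlgebraicIndependent k y' := by
    intro s
    induction s with
    | zero =>
      intro y hy
      exact ⟨0, y, hy, algebraicIndependent_empty_type_iff.2 (algebraMap k L).injective⟩
    | succ s ih =>
      intro y hy
      by_cases hdep : AlgebraicIndependent k y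
      · exact ⟨_, y, hy, hdep⟩
      obtain ⟨F, hF0, hFy, hmin⟩ := exists_min y hdep
      obtain ⟨G, hG0, hGd, hG⟩ := exists_rel hR hDB y hy hdep
      have h1 := hmin G hG0 hG
      obtain ⟨y', hy'⟩ := step b y hy F hF0 hFy hmin (by omega)
      exact ih y' hy'
  obtain ⟨s, y, hy, hind⟩ := key N b (norm_self b hb)
  have := isAlgebraic_of_norm hy
  have hbasis : IsTranscendenceBasis k y := hind.isTranscendenceBasis_iff_isAlgebraic.2 this
  have hs : s = R := by
    have h1 := hbasis.lift_cardinalMk_eq_trdeg
    rw [hR] at h1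
    simpa using h1
  subst hs
  exact ⟨y, hy, hind⟩

end K467.LinNorm
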