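import Groth.Agent.Zeta.K467.PlaneFibre

/-!
# Points of a plane curve and places of degree one
-/

set_option autoImplicit false
open WithZero Polynomial

namespace K467.PlaneCount

open Groth.Agent.Models.FFLen Groth.Agent.Models.FFRR Groth.Agent.MiscA.WCPlace
  Groth.Agent.MiscA.WCPlaceCrv Groth.Agent.MiscA.WCPlaceRes K467.PoleDeg K467.Genus
  K467.PlaneFibre K467.PlaneFibre.Model Groth.Agent.MiscA

universe u v

variable {k : Type u} {K : Type v} [Field k] [Field K] [Algebra k K] {u v : K} {D : ℕ} {G : k[X][X]}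
  (M : Model k K u v D G)

theorem sum_dg0_le_inf (T : Finset (Place k K)) (hT : ∀ P ∈ T, u ∉ P.1) :
    ∑ P ∈ T, (crv M.isSep).dg0 P ≤ D := by
  classical
  obtain ⟨t, ht⟩ := M.isSep
  have hne := nonempty_place M.isSep
  have hC := crv_fin M.isSep
  set C := crv M.isSep with hCdef
  have hu0 : u ≠ 0 := by
    rintro rfl
    exact M.tr isAlgebraic_zero
  have hfd := M.fin
  have h1 := deg_pole_le C hC M.tr
  have h2 : (∑ P ∈ T, Finsupp.single P (1 : ℤ)) ≤ pole C u := by
    intro P
    rw [Finsupp.finsetSum_apply]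
    by_cases hP : P ∈ T
    · rw [Finset.sum_eq_single P]
      · rw [Finsupp.single_eq_same]
        have h3 : 1 < C.v P u := by
          rw [← not_le]
          exact fun h => hT P hP ((ht.val_le_one_iff P _).1 h)
        have h5 := exp_pole C hu0 P
        rw [max_eq_right h3.le] at h5
        rw [← h5, ← exp_zero, exp_lt_exp] at h3
        exact h3
      · intro Q _ hQ
        exact Finsupp.single_eq_of_ne (Ne.symm hQ)
      · intro h; exact absurd hP h
    · rw [Finset.sum_eq_zero]
      · exact pole_nonneg C u P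
      · intro Q hQ
        exact Finsupp.single_eq_of_ne (fun h => hP (h ▸ hQ))
  have h3 := hC.deg_mono h2
  rw [map_sum] at h3
  have h4 : (∑ P ∈ T, C.deg (Finsupp.single P (1 : ℤ))) = ((∑ P ∈ T, C.dg0 P : ℕ) : ℤ) := by
    push_cast
    refine Finset.sum_congr rfl fun P _ => ?_
    rw [C.deg_single, one_mul]
  rw [h4] at h3
  have h5 := M.rank
  have h6 : ((∑ P ∈ T, C.dg0 P : ℕ) : ℤ) ≤ D := h3.trans (h1.trans (by exact_mod_cast h5))
  exact_mod_cast h6

theorem card_le_of_sum (p : Place k K → Prop)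
    (h : ∀ T : Finset (Place k K), (∀ P ∈ T, p P) → ∑ P ∈ T, (crv M.isSep).dg0 P ≤ D) :
    Finite {P : Place k K // p P} ∧ Nat.card {P : Place k K // p P} ≤ D := by
  classical
  have h0 : ∀ T : Finset (Place k K), (∀ P ∈ T, p P) → T.card ≤ D := by
    intro T hT
    have h2 : ∑ P ∈ T, 1 ≤ ∑ P ∈ T, (crv M.isSep).dg0 P :=
      Finset.sum_le_sum fun P _ => (crv_fin M.isSep).dg0_pos P
    rw [Finset.sum_const, smul_eq_mul, mul_one] at h2
    exact h2.trans (h T hT)
  have hfin : {P : Place k K | p P}.Finite := by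
    by_contra hinf
    obtain ⟨T, hT, hcard⟩ := Set.Infinite.exists_subset_card_eq hinf (D + 1)
    have := h0 T (fun P hP => hT hP)
    omega
  refine ⟨hfin, ?_⟩
  have h1 := h0 hfin.toFinset (fun P hP => (Set.Finite.mem_toFinset hfin).1 hP)
  have h2 : Nat.card {P : Place k K // p P} = hfin.toFinset.card := by
    have : Nat.card {P : Place k K // p P} = Set.ncard {P : Place k K | p P} := rfl
    rw [this, Set.ncard_eq_toFinset_card _ hfin]
  rw [h2]
  exact h1

/-- Degree one places, by the value of `u`. -/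
theorem card_places [Finite k] :
    Finite {P : Place k K // (crv M.isSep).dg0 P = 1} ∧
    ∃ n : ℕ, n ≤ D ∧ Nat.card {P : Place k K // (crv M.isSep).dg0 P = 1} =
      n + ∑ᶠ a : k, Nat.card {P : Place k K // P ∈ S k u a ∧ (crv M.isSep).dg0 P = 1} := by
  classical
  cases nonempty_fintype k
  obtain ⟨t, ht⟩ := M.isSep
  have hinf := card_le_of_sum M (fun P => u ∉ P.1) (fun T hT => sum_dg0_le_inf M T hT)
  have hfinS : ∀ a : k, Finite {P : Place k K // P ∈ S k u a ∧ (crv M.isSep).dg0 P = 1} := by
    intro a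
    have := M.finite_S a
    exact Set.Finite.subset this (fun P hP => hP.1)
  -- the decomposition
  have hne : ∀ {P : Place k K} {a b : k}, P ∈ S k u a → P ∈ S k u b → a = b := by
    intro P a b ha hb
    by_contra hab
    have h1 : P.val (algebraMap k K (b - a)) < 1 := by
      have h2 : algebraMap k K (b - a) = (u - algebraMap k K a) - (u - algebraMap k K b) := by
        rw [map_sub]; ring
      rw [h2]
      exact lt_of_le_of_lt (P.val.map_sub _ _) (max_lt ha hb)
    have h3 := (crv M.isSep).v_const_eq P (c := b - a) (sub_ne_zero.2 (Ne.symm hab))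
    rw [crv_v] at h3
    rw [h3] at h1
    exact lt_irrefl _ h1
  let f : {P : Place k K // u ∉ P.1 ∧ (crv M.isSep).dg0 P = 1} ⊕
      (Σ a : k, {P : Place k K // P ∈ S k u a ∧ (crv M.isSep).dg0 P = 1}) →
      {P : Place k K // (crv M.isSep).dg0 P = 1} := fun s =>
    match s with
    | Sum.inl P => ⟨P.1, P.2.2⟩
    | Sum.inr P => ⟨P.2.1, P.2.2.2⟩
  have hf : Function.Bijective f := by
    constructor
    · rintro (P | ⟨a, P⟩) (Q | ⟨b, Q⟩) h
      · have h1 : (f (Sum.inl P)).1 = (f (Sum.inl Q)).1 := congrArg Subtype.val h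
        congr 1
        exact Subtype.ext h1
      · have h1 : P.1 = Q.1 := congrArg Subtype.val h
        exfalso
        apply P.2.1
        rw [h1]
        exact M.u_mem b Q.2.1
      · have h1 : P.1 = Q.1 := congrArg Subtype.val h
        exfalso
        apply Q.2.1
        rw [← h1]
        exact M.u_mem a P.2.1
      · have h1 : P.1 = Q.1 := congrArg Subtype.val h
        have h2 : a = b := hne (P := P.1) P.2.1 (by rw [h1]; exact Q.2.1)
        subst h2
        congr 2
        exact Subtype.ext h1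
    · rintro ⟨P, hP⟩
      by_cases hu : u ∈ P.1
      · obtain ⟨c, hc⟩ := Groth.Agent.Models.FFBomb.exists_const_sub (crv_fin M.isSep) hP
          ((ht.val_le_one_iff P u).2 hu)
        exact ⟨Sum.inr ⟨c, P, hc, hP⟩, rfl⟩
      · exact ⟨Sum.inl ⟨P, hu, hP⟩, rfl⟩
  have hfin1 : Finite {P : Place k K // u ∉ P.1 ∧ (crv M.isSep).dg0 P = 1} :=
    Set.Finite.subset (s := {P : Place k K | u ∉ P.1}) hinf.1 (fun P hP => hP.1)
  have hfin2 : Finite (Σ a : k, {P : Place k K // P ∈ S k u a ∧ (crv M.isSep).dg0 P = 1}) :=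
    inferInstance
  refine ⟨Finite.of_surjective f hf.2, Nat.card {P : Place k K // u ∉ P.1 ∧ (crv M.isSep).dg0 P = 1},
    ?_, ?_⟩
  · have := hinf.1
    refine le_trans ?_ hinf.2
    exact Nat.card_le_card_of_injective
      (fun P : {P : Place k K // u ∉ P.1 ∧ (crv M.isSep).dg0 P = 1} =>
        (⟨P.1, P.2.1⟩ : {P : Place k K // u ∉ P.1}))
      (fun P Q h => Subtype.ext (congrArg (fun R : {P : Place k K // u ∉ P.1} => R.1) h))
  · rw [← Nat.card_congr (Equiv.ofBijective f hf), Nat.card_sum, Nat.card_sigma,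
      finsum_eq_sum_of_fintype]

theorem card_places_over_le (a : k) :
    Nat.card {P : Place k K // P ∈ S k u a ∧ (crv M.isSep).dg0 P = 1} ≤ D :=
  (card_le_of_sum M (fun P => P ∈ S k u a ∧ (crv M.isSep).dg0 P = 1)
    (fun T hT => M.sum_dg0_le a T fun P hP => (hT P hP).1)).2

include M in
theorem card_roots_le (a : k) :
    Nat.card {b : k // (G.map (evalRingHom a)).eval b = 0} ≤ D := by
  classical
  have h0 : G.map (evalRingHom a) ≠ 0 := (M.monic.map _).ne_zero
  have h1 : Nat.card {b : k // (G.map (evalRingHom a)).eval b = 0} =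
      (G.map (evalRingHom a)).roots.toFinset.card := by
    rw [← Nat.card_eq_finsetCard]
    refine Nat.card_congr (Equiv.subtypeEquivRight fun b => ?_)
    rw [Multiset.mem_toFinset, mem_roots h0]
    rfl
  rw [h1]
  refine (Multiset.toFinset_card_le _).trans ((card_roots' _).trans ?_)
  rw [M.monic.natDegree_map, M.natDegree]

/-- Points of the plane curve versus places of degree one. -/
theorem card_points_sub_card_places [Finite k] (Bad : Finset k)
    (hBad : ∀ a ∉ Bad, Squarefree (G.map (evalRingHom a))) :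
    |(Nat.card {p : k × k // (G.map (evalRingHom p.1)).eval p.2 = 0} : ℤ) -
      Nat.card {P : Place k K // (crv M.isSep).dg0 P = 1}| ≤ D + D * Bad.card := by
  classical
  cases nonempty_fintype k
  obtain ⟨-, n, hn, hN⟩ := card_places M
  let e : {p : k × k // (G.map (evalRingHom p.1)).eval p.2 = 0} ≃
      (Σ a : k, {b : k // (G.map (evalRingHom a)).eval b = 0}) :=
    { toFun := fun p => ⟨p.1.1, p.1.2, p.2⟩
      invFun := fun p => ⟨(p.1, p.2.1), p.2.2⟩
      left_inv := fun p => rfl
      right_inv := fun p => rfl }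
  rw [Nat.card_congr e, Nat.card_sigma, hN, finsum_eq_sum_of_fintype]
  push_cast
  have h1 : |(∑ a : k, (Nat.card {b : k // (G.map (evalRingHom a)).eval b = 0} : ℤ)) -
      ∑ a : k, (Nat.card {P : Place k K // P ∈ S k u a ∧ (crv M.isSep).dg0 P = 1} : ℤ)| ≤
      D * Bad.card := by
    rw [← Finset.sum_sub_distrib]
    have h2 : ∑ a : k, ((Nat.card {b : k // (G.map (evalRingHom a)).eval b = 0} : ℤ) -
        (Nat.card {P : Place k K // P ∈ S k u a ∧ (crv M.isSep).dg0 P = 1} : ℤ)) =
        ∑ a ∈ Bad, ((Nat.card {b : k // (G.map (evalRingHom a)).eval b = 0} : ℤ) -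
        (Nat.card {P : Place k K // P ∈ S k u a ∧ (crv M.isSep).dg0 P = 1} : ℤ)) := by
      symm
      apply Finset.sum_subset (Finset.subset_univ _)
      intro a _ ha
      rw [M.card_fibre a (hBad a ha), sub_self]
    rw [h2]
    refine (Finset.abs_sum_le_sum_abs _ _).trans ?_
    have h3 : ∀ a ∈ Bad, |((Nat.card {b : k // (G.map (evalRingHom a)).eval b = 0} : ℤ) -
        (Nat.card {P : Place k K // P ∈ S k u a ∧ (crv M.isSep).dg0 P = 1} : ℤ))| ≤ D := by
      intro a _
      have h4 : (Nat.card {b : k // (G.map (evalRingHom a)).eval b = 0} : ℤ) ≤ D := by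
        exact_mod_cast card_roots_le M a
      have h5 : (Nat.card {P : Place k K // P ∈ S k u a ∧ (crv M.isSep).dg0 P = 1} : ℤ) ≤ D := by
        exact_mod_cast card_places_over_le M a
      rw [abs_le]
      constructor <;> omega
    refine (Finset.sum_le_sum h3).trans ?_
    rw [Finset.sum_const, nsmul_eq_mul, mul_comm]
  have h6 : (n : ℤ) ≤ D := by exact_mod_cast hn
  rw [abs_le] at h1 ⊢
  constructor <;> linarith [h1.1, h1.2]

end K467.PlaneCount
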