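import Groth.Agent.Zeta.K467.Genus
import Groth.Agent.Cohder.HWMain
import Groth.Agent.MiscA.WCMain
import Mathlib.RingTheory.Polynomial.Resultant.Basic

/-!
# Places of the function field of a plane curve over a good point of the line

For `K = k(u, v)`, `G(u, v) = 0`, `G` monic in `v`, and `a : k` at which the discriminant of `G` does
not vanish, the places of degree one of `K` over `u = a` correspond to the roots of `G(a, T)` in `k`.
-/

set_option autoImplicit false
open WithZero Polynomial

namespace K467.PlaneFibre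

open Groth.Agent.Models.FFLen Groth.Agent.Models.FFRR Groth.Agent.MiscA.WCPlace
  Groth.Agent.MiscA.WCPlaceCrv Groth.Agent.MiscA.WCPlaceRes K467.PoleDeg K467.Genus

universe u v

/-- A plane model of a function field. -/
structure Model (k : Type u) (K : Type v) [Field k] [Field K] [Algebra k K] (u v : K) (D : ℕ)
    (G : k[X][X]) : Prop where
  tr : Transcendental k u
  fin : FiniteDimensional (IntermediateField.adjoin k {u}) K
  sep : Algebra.IsSeparable (IntermediateField.adjoin k {u}) K
  rank : Module.finrank (IntermediateField.adjoin k {u}) K ≤ D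
  monic : G.Monic
  natDegree : G.natDegree = D
  pos : 1 ≤ D
  coeff : ∀ j < D, (G.coeff j).natDegree ≤ D - j
  root : G.eval₂ ((aeval u : k[X] →ₐ[k] K) : k[X] →+* K) v = 0
  ind : ∀ p : Fin D → k[X], ∑ j, aeval u (p j) * v ^ (j : ℕ) = 0 → p = 0
  const : ∀ x : K, IsAlgebraic k x → x ∈ (algebraMap k K).range

variable {k : Type u} {K : Type v} [Field k] [Field K] [Algebra k K] {u v : K} {D : ℕ} {G : k[X][X]}

namespace Model

variable (M : Model k K u v D G)

include M in
theorem isSep : ∃ t : K, IsSep k K t := ⟨u, M.tr, M.fin, M.sep⟩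

include M in
theorem root' : v ^ D + ∑ j ∈ Finset.range D, aeval u (G.coeff j) * v ^ j = 0 := by
  have h := M.root
  rw [eval₂_eq_sum_range, M.natDegree, Finset.sum_range_succ] at h
  have h2 : G.coeff D = 1 := by
    rw [← M.natDegree]; exact M.monic
  rw [h2, map_one, one_mul, add_comm] at h
  exact h

/-- the evaluation at `(u, v)` -/
noncomputable def ev (u v : K) : k[X][X] →+* K :=
  eval₂RingHom ((aeval u : k[X] →ₐ[k] K) : k[X] →+* K) v

include M in
theorem dvd_of_ev_eq_zero {f : k[X][X]} (hf : ev u v f = 0) : G ∣ f := by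
  have h1 := modByMonic_add_div f G
  have h2 : ev u v (f %ₘ G) = 0 := by
    have h3 := congrArg (ev u v) h1
    rw [map_add, map_mul, hf] at h3
    have h4 : ev u v G = 0 := M.root
    rwa [h4, zero_mul, add_zero] at h3
  have hdeg : (f %ₘ G).degree < D := by
    rw [← M.natDegree, ← degree_eq_natDegree M.monic.ne_zero]
    exact degree_modByMonic_lt _ M.monic
  have h5 : (fun j : Fin D => (f %ₘ G).coeff j) = 0 := by
    apply M.ind
    rw [← h2]
    change _ = eval₂ _ _ _
    rw [eval₂_eq_sum_range' _ (n := D) ?_]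
    · rw [Finset.sum_range]
      rfl
    · by_cases h0 : f %ₘ G = 0
      · rw [h0, natDegree_zero]; exact M.pos
      · rw [natDegree_lt_iff_degree_lt h0]; exact hdeg
  have h6 : f %ₘ G = 0 := by
    ext1 j
    by_cases hj : j < D
    · exact congrFun h5 ⟨j, hj⟩
    · rw [coeff_eq_zero_of_degree_lt, coeff_zero]
      refine hdeg.trans_le ?_
      exact_mod_cast (not_lt.1 hj)
  exact (modByMonic_eq_zero_iff_dvd M.monic).1 h6

/-- Places over the closed point of the curve with given residue. -/
theorem exists_place (M : Model k K u v D G) (a : k) (m : k[X]) (hm : Irreducible m)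
    (hmG : m ∣ G.map (evalRingHom a)) :
    ∃ P : Place k K, P.val (u - algebraMap k K a) < 1 ∧ P.val (aeval v m) < 1 := by
  classical
  obtain ⟨t, ht⟩ := M.isSep
  have : Fact (Irreducible m) := ⟨hm⟩
  let ψ : k[X][X] →+* AdjoinRoot m :=
    eval₂RingHom ((AdjoinRoot.of m).comp (evalRingHom a)) (AdjoinRoot.root m)
  have hψC : ∀ p : k[X], ψ (C p) = AdjoinRoot.of m (p.eval a) := by
    intro p
    simp [ψ]
  have hψmap : ∀ f : k[X][X], ψ f = AdjoinRoot.mk m (f.map (evalRingHom a)) := by
    intro f
    have h : ψ = (AdjoinRoot.mk m).comp (mapRingHom (evalRingHom a)) := by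
      apply Polynomial.ringHom_ext
      · intro p
        rw [hψC]
        simp
      · simp [ψ]
    rw [h]
    rfl
  let φ : k[X][X] →+* K := ev u v
  have hker : RingHom.ker φ ≤ RingHom.ker ψ := by
    intro f hf
    obtain ⟨q, rfl⟩ := M.dvd_of_ev_eq_zero hf
    rw [RingHom.mem_ker, map_mul, hψmap G, AdjoinRoot.mk_eq_zero.2 hmG, zero_mul]
  let I : Ideal φ.range := (RingHom.ker ψ).map φ.rangeRestrict
  have hI : I ≠ ⊤ := by
    intro hI
    have h1 := Ideal.comap_map_of_surjective φ.rangeRestrict φ.rangeRestrict_surjective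
      (RingHom.ker ψ)
    have h2 : (RingHom.ker ψ).map φ.rangeRestrict = ⊤ := hI
    rw [h2, Ideal.comap_top] at h1
    have h3 : Ideal.comap φ.rangeRestrict ⊥ ≤ RingHom.ker ψ := by
      intro f hf
      apply hker
      rw [Ideal.mem_comap, Ideal.mem_bot] at hf
      have := congrArg Subtype.val hf
      exact this
    rw [sup_eq_left.2 h3] at h1
    have h4 : (1 : k[X][X]) ∈ RingHom.ker ψ := by
      rw [← h1]
      trivial
    rw [RingHom.mem_ker, map_one] at h4
    exact one_ne_zero h4
  obtain ⟨B, hB, hIB⟩ := Ideal.image_subset_nonunits_valuationSubring I hI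
  have hmem : ∀ f : k[X][X], φ f ∈ B := fun f => hB ⟨f, rfl⟩
  have hnon : ∀ f : k[X][X], ψ f = 0 → φ f ∈ B.nonunits := by
    intro f hf
    apply hIB
    exact ⟨φ.rangeRestrict f, Ideal.mem_map_of_mem _ hf, rfl⟩
  have hφC : ∀ p : k[X], φ (C p) = aeval u p := by
    intro p
    simp [φ, ev]
  have hua : φ (C (X - C a)) = u - algebraMap k K a := by
    rw [hφC, map_sub, aeval_X, aeval_C]
  have hne : u - algebraMap k K a ≠ 0 := by
    intro h
    apply M.tr
    rw [sub_eq_zero.1 h]
    exact isAlgebraic_algebraMap a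
  have hua' : u - algebraMap k K a ∈ B.nonunits := by
    rw [← hua]
    apply hnon
    rw [hψC]
    simp
  have hφm : φ (m.map (C : k →+* k[X])) = aeval v m := by
    change eval₂ _ _ _ = _
    rw [eval₂_map, aeval_def]
    congr 1
    ext c
    simp
  have hm' : aeval v m ∈ B.nonunits := by
    rw [← hφm]
    apply hnon
    rw [hψmap, Polynomial.map_map]
    have : (evalRingHom a).comp (C : k →+* k[X]) = RingHom.id k := by
      ext c; simp
    rw [this, Polynomial.map_id, AdjoinRoot.mk_self]
  have hBtop : B ≠ ⊤ := by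
    rintro rfl
    rw [ValuationSubring.mem_nonunits_iff_or] at hua'
    rcases hua' with h | h
    · exact hne h
    · exact h (ValuationSubring.mem_top _)
  let P : Place k K := ⟨B, hBtop, fun c => by
    have := hmem (C (C c))
    rwa [hφC, aeval_C] at this⟩
  have key : ∀ x : K, x ∈ B.nonunits → P.val x < 1 := by
    intro x hx
    by_cases hx0 : x = 0
    · rw [hx0, map_zero]; exact zero_lt_one
    rw [ValuationSubring.mem_nonunits_iff_or] at hx
    have h2 := hx.resolve_left hx0
    have h3 : ¬ P.val x⁻¹ ≤ 1 := fun h => h2 ((ht.val_le_one_iff P _).1 h)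
    rw [not_le, map_inv₀] at h3
    exact (one_lt_inv₀ (by rw [zero_lt_iff]; simpa using hx0)).1 h3
  exact ⟨P, key _ hua', key _ hm'⟩

section fibre

variable (M : Model k K u v D G) (a : k)

/-- The places over `u = a`. -/
def S (k : Type u) {K : Type v} [Field k] [Field K] [Algebra k K] (u : K) (a : k) : Set (Place k K) :=
  {P | P.val (u - algebraMap k K a) < 1}

include M in
theorem sub_ne_zero' : u - algebraMap k K a ≠ 0 := by
  intro h
  apply M.tr
  rw [sub_eq_zero.1 h]
  exact isAlgebraic_algebraMap a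

theorem adjoin_eq : IntermediateField.adjoin k {(u - algebraMap k K a)⁻¹} =
    IntermediateField.adjoin k {u} := by
  rw [adjoin_inv]
  apply le_antisymm
  · rw [IntermediateField.adjoin_simple_le_iff]
    exact sub_mem (IntermediateField.mem_adjoin_simple_self k u)
      (IntermediateField.algebraMap_mem _ a)
  · rw [IntermediateField.adjoin_simple_le_iff]
    have h1 := add_mem (IntermediateField.mem_adjoin_simple_self k (u - algebraMap k K a))
      (IntermediateField.algebraMap_mem (IntermediateField.adjoin k {u - algebraMap k K a}) a)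
    simpa using h1

include M in
theorem tr_inv_sub : Transcendental k (u - algebraMap k K a)⁻¹ := by
  intro h
  apply M.tr
  have h1 := h.inv
  rw [inv_inv] at h1
  have h2 := h1.add (isAlgebraic_algebraMap (A := K) a)
  simpa using h2

theorem sum_dg0_le (T : Finset (Place k K)) (hT : ∀ P ∈ T, P ∈ S k u a) :
    ∑ P ∈ T, (crv M.isSep).dg0 P ≤ D := by
  classical
  have hne := nonempty_place M.isSep
  have hC := crv_fin M.isSep
  set C := crv M.isSep with hCdef
  set x := (u - algebraMap k K a)⁻¹ with hx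
  have hx0 : x ≠ 0 := inv_ne_zero (M.sub_ne_zero' a)
  have htr : Transcendental k x := M.tr_inv_sub a
  have hfd : FiniteDimensional (IntermediateField.adjoin k {x}) K := by
    rw [hx, adjoin_eq a]; exact M.fin
  have h1 := deg_pole_le C hC htr
  rw [hx, adjoin_eq a, ← hx] at h1
  have h2 : (∑ P ∈ T, Finsupp.single P (1 : ℤ)) ≤ pole C x := by
    intro P
    rw [Finsupp.finsetSum_apply]
    by_cases hP : P ∈ T
    · rw [Finset.sum_eq_single P]
      · rw [Finsupp.single_eq_same]
        have h3 : 1 < C.v P x := by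
          have h4 : P.val (u - algebraMap k K a) < 1 := hT P hP
          rw [hx, map_inv₀]
          refine (one_lt_inv₀ ?_).2 h4
          rw [zero_lt_iff]
          simpa using M.sub_ne_zero' a
        have h5 := exp_pole C hx0 P
        rw [max_eq_right h3.le] at h5
        rw [← h5, ← exp_zero, exp_lt_exp] at h3
        exact h3
      · intro Q _ hQ
        exact Finsupp.single_eq_of_ne (Ne.symm hQ)
      · intro h; exact absurd hP h
    · rw [Finset.sum_eq_zero]
      · exact pole_nonneg C x P
      · intro Q hQ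
        exact Finsupp.single_eq_of_ne (fun h => hP (h ▸ hQ))
  have h3 := hC.deg_mono h2
  rw [map_sum] at h3
  have h4 : (∑ P ∈ T, C.deg (Finsupp.single P (1 : ℤ))) = ((∑ P ∈ T, C.dg0 P : ℕ) : ℤ) := by
    push_cast
    refine Finset.sum_congr rfl fun P _ => ?_
    rw [C.deg_single, one_mul]
  rw [h4] at h3
  have h5 := M.rank
  have h6 : ((∑ P ∈ T, C.dg0 P : ℕ) : ℤ) ≤ D := h3.trans (h1.trans (by exact_mod_cast h5))
  exact_mod_cast h6

include M in
theorem finite_S : (S k u a).Finite := by
  by_contra hinf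
  obtain ⟨T, hT, hcard⟩ := Set.Infinite.exists_subset_card_eq hinf (D + 1)
  have h1 := M.sum_dg0_le a T (fun P hP => hT hP)
  have h2 : ∑ P ∈ T, 1 ≤ ∑ P ∈ T, (crv M.isSep).dg0 P :=
    Finset.sum_le_sum fun P _ => (crv_fin M.isSep).dg0_pos P
  rw [Finset.sum_const, hcard, smul_eq_mul, mul_one] at h2
  omega

include M in
theorem v_mem {P : Place k K} (hu : u ∈ P.1) : v ∈ P.1 := by
  obtain ⟨t, ht⟩ := M.isSep
  rw [← ht.val_le_one_iff]
  have h1 := v_le_max (crv M.isSep) P (fun j => G.coeff j) M.coeff M.root'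
  refine h1.trans (max_le le_rfl ?_)
  exact (ht.val_le_one_iff P _).2 hu

include M in
theorem u_mem {P : Place k K} (hP : P ∈ S k u a) : u ∈ P.1 := by
  obtain ⟨t, ht⟩ := M.isSep
  have h1 : u - algebraMap k K a ∈ P.1 := (ht.val_le_one_iff P _).1 (le_of_lt hP)
  have h2 := P.1.add_mem _ _ h1 (P.2.2 a)
  simpa using h2

/-- The residue of `v`. -/
noncomputable def vres (P : Place k K) (hv : v ∈ P.1) : IsLocalRing.ResidueField P.1 :=
  IsLocalRing.residue P.1 ⟨v, hv⟩

include M in
theorem aeval_vres {P : Place k K} (hP : P ∈ S k u a) (hv : v ∈ P.1) :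
    aeval (vres P hv) (G.map (evalRingHom a)) = 0 := by
  obtain ⟨t, ht⟩ := M.isSep
  have hu := M.u_mem a hP
  let θ : k[X][X] →+* P.1 :=
    eval₂RingHom ((aeval (⟨u, hu⟩ : P.1) : k[X] →ₐ[k] P.1) : k[X] →+* P.1) ⟨v, hv⟩
  have hθ : ∀ f, ((θ f : P.1) : K) = ev u v f := by
    intro f
    have h : (P.1.subtype).comp θ = ev u v := by
      apply Polynomial.ringHom_ext
      · intro p
        simp only [θ, ev, RingHom.comp_apply, coe_eval₂RingHom, eval₂_C]
        change ((aeval (⟨u, hu⟩ : P.1) p : P.1) : K) = aeval u p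
        have h2 := (aeval_algebraMap_apply K (⟨u, hu⟩ : P.1) p)
        exact h2.symm
      · simp [θ, ev]
    exact RingHom.congr_fun h f
  have hθG : θ G = 0 := by
    apply Subtype.ext
    rw [hθ]
    exact M.root
  have hua : IsLocalRing.residue P.1 ⟨u, hu⟩ = algebraMap k _ a := by
    have h1 : (⟨u, hu⟩ : P.1) - algebraMap k P.1 a ∈ IsLocalRing.maximalIdeal P.1 := by
      rw [mem_maximalIdeal_iff ht]
      exact hP
    rw [← IsLocalRing.residue_eq_zero_iff, map_sub, sub_eq_zero] at h1
    exact h1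
  have h3 : (IsLocalRing.residue P.1).comp θ =
      ((aeval (vres P hv) : k[X] →ₐ[k] _) : k[X] →+* _).comp (mapRingHom (evalRingHom a)) := by
    apply Polynomial.ringHom_ext
    · intro p
      simp only [θ, RingHom.comp_apply, coe_eval₂RingHom, eval₂_C, coe_mapRingHom, map_C,
        coe_evalRingHom]
      change IsLocalRing.residue P.1 (aeval (⟨u, hu⟩ : P.1) p) = aeval _ (C (p.eval a))
      rw [aeval_C]
      have h4 : IsLocalRing.residue P.1 (aeval (⟨u, hu⟩ : P.1) p) =
          aeval (IsLocalRing.residue P.1 ⟨u, hu⟩) p := by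
        exact (aeval_algebraMap_apply (IsLocalRing.ResidueField P.1) (⟨u, hu⟩ : P.1) p).symm
      rw [h4, hua, aeval_algebraMap_apply, aeval_def, eval₂_eq_eval_map]
      simp
    · simp [θ, vres]
  have h5 := RingHom.congr_fun h3 G
  rw [RingHom.comp_apply, hθG, map_zero] at h5
  exact h5.symm

open UniqueFactorizationMonoid in
/-- Degree one places over a good point `u = a` are the roots of `G(a, T)`. -/
theorem card_fibre (hsq : Squarefree (G.map (evalRingHom a))) :
    Nat.card {P : Place k K // P ∈ S k u a ∧ (crv M.isSep).dg0 P = 1} =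
      Nat.card {b : k // (G.map (evalRingHom a)).eval b = 0} := by
  classical
  obtain ⟨t, ht⟩ := M.isSep
  set g := G.map (evalRingHom a) with hg
  have hgm : g.Monic := M.monic.map _
  have hgD : g.natDegree = D := by rw [hg, M.monic.natDegree_map, M.natDegree]
  have hg0 : g ≠ 0 := hgm.ne_zero
  let T : Finset k[X] := (normalizedFactors g).toFinset
  have hTmem : ∀ m, m ∈ T ↔ Irreducible m ∧ m.Monic ∧ m ∣ g := by
    intro m
    rw [Multiset.mem_toFinset, Polynomial.mem_normalizedFactors_iff hg0]
  have hTsum : ∑ m ∈ T, m.natDegree = D := by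
    have h1 := leadingCoeff_mul_prod_normalizedFactors g
    rw [hgm.leadingCoeff, map_one, one_mul] at h1
    have h2 : ∏ m ∈ T, m = g := by
      rw [← h1]
      have h3 := (squarefree_iff_nodup_normalizedFactors hg0).1 hsq
      change (Multiset.map (fun m => m) (normalizedFactors g).toFinset.val).prod = _
      rw [Multiset.toFinset_val, Multiset.map_id', Multiset.Nodup.dedup h3]
    rw [← hgD, ← h2]
    rw [natDegree_prod_of_monic]
    intro m hm
    exact ((hTmem m).1 hm).2.1
  -- a place for each factor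
  have hex : ∀ m : T, ∃ P : Place k K, P ∈ S k u a ∧ P.val (aeval v m.1) < 1 := by
    intro m
    have h1 := (hTmem m.1).1 m.2
    exact M.exists_place a m.1 h1.1 h1.2.2
  choose s hs1 hs2 using hex
  have hv : ∀ m : T, v ∈ (s m).1 := fun m => M.v_mem (M.u_mem a (hs1 m))
  have hmin : ∀ m : T, minpoly k (vres (s m) (hv m)) = m.1 := by
    intro m
    have h1 := (hTmem m.1).1 m.2
    symm
    apply minpoly.eq_of_irreducible_of_monic h1.1 _ h1.2.1
    have h2 : aeval (⟨v, hv m⟩ : (s m).1) m.1 ∈ IsLocalRing.maximalIdeal (s m).1 := by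
      rw [mem_maximalIdeal_iff ht]
      have h3 : ((aeval (⟨v, hv m⟩ : (s m).1) m.1 : (s m).1) : K) = aeval v m.1 :=
        (aeval_algebraMap_apply K (⟨v, hv m⟩ : (s m).1) m.1).symm
      rw [h3]
      exact hs2 m
    rw [← IsLocalRing.residue_eq_zero_iff] at h2
    have h4 : IsLocalRing.residue (s m).1 (aeval (⟨v, hv m⟩ : (s m).1) m.1) =
        aeval (IsLocalRing.residue (s m).1 ⟨v, hv m⟩) m.1 :=
      (aeval_algebraMap_apply (IsLocalRing.ResidueField (s m).1) (⟨v, hv m⟩ : (s m).1) m.1).symm
    rw [h4] at h2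
    exact h2
  let mp : Place k K → k[X] := fun P => if h : v ∈ P.1 then minpoly k (vres P h) else 0
  have hmp : ∀ m : T, mp (s m) = m.1 := by
    intro m
    rw [← hmin m]
    exact dif_pos (hv m)
  have hsinj : Function.Injective s := by
    intro m m' h
    apply Subtype.ext
    rw [← hmp m, ← hmp m', h]
  have hdegle : ∀ m : T, m.1.natDegree ≤ (crv M.isSep).dg0 (s m) := by
    intro m
    rw [dg0_eq_finrank, ← hmin m]
    have := finite_residueField M.isSep (s m)
    exact minpoly.natDegree_le _
  let Sf : Finset (Place k K) := (M.finite_S a).toFinset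
  have hSf : ∀ P, P ∈ Sf ↔ P ∈ S k u a := fun P => Set.Finite.mem_toFinset _
  have hI : T.attach.image s ⊆ Sf := by
    intro P hP
    obtain ⟨m, -, rfl⟩ := Finset.mem_image.1 hP
    exact (hSf _).2 (hs1 m)
  have hsum1 : ∑ P ∈ Sf, (crv M.isSep).dg0 P ≤ D := M.sum_dg0_le a Sf fun P hP => (hSf P).1 hP
  have hsum2 : ∑ P ∈ T.attach.image s, (crv M.isSep).dg0 P =
      ∑ m ∈ T.attach, (crv M.isSep).dg0 (s m) :=
    Finset.sum_image fun m _ m' _ h => hsinj h
  have hsum3 : ∑ m ∈ T.attach, m.1.natDegree = D := by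
    rw [← hTsum]
    exact Finset.sum_attach T (fun m => m.natDegree)
  have hsum4 : ∑ m ∈ T.attach, m.1.natDegree ≤ ∑ m ∈ T.attach, (crv M.isSep).dg0 (s m) :=
    Finset.sum_le_sum fun m _ => hdegle m
  have hsum5 : ∑ P ∈ T.attach.image s, (crv M.isSep).dg0 P ≤ ∑ P ∈ Sf, (crv M.isSep).dg0 P :=
    Finset.sum_le_sum_of_subset hI
  have hEq : ∀ m : T, m.1.natDegree = (crv M.isSep).dg0 (s m) := by
    have h1 := (Finset.sum_eq_sum_iff_of_le (s := T.attach) (f := fun m => m.1.natDegree)
      (g := fun m => (crv M.isSep).dg0 (s m)) fun m _ => hdegle m).1 (by omega)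
    exact fun m => h1 m (Finset.mem_attach _ _)
  have hsurj : ∀ P ∈ S k u a, ∃ m : T, s m = P := by
    intro P hP
    by_contra hcon
    have hPI : P ∉ T.attach.image s := by
      intro h
      obtain ⟨m, -, hm⟩ := Finset.mem_image.1 h
      exact hcon ⟨m, hm⟩
    have h1 : insert P (T.attach.image s) ⊆ Sf := by
      intro Q hQ
      rcases Finset.mem_insert.1 hQ with rfl | hQ
      · exact (hSf _).2 hP
      · exact hI hQ
    have h2 := Finset.sum_le_sum_of_subset (f := fun P => (crv M.isSep).dg0 P) h1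
    rw [Finset.sum_insert hPI] at h2
    have h3 := (crv_fin M.isSep).dg0_pos P
    omega
  -- the bijection
  have hXC : ∀ b : k, g.eval b = 0 → (X - C b : k[X]) ∈ T := by
    intro b hb
    rw [hTmem]
    exact ⟨irreducible_X_sub_C b, monic_X_sub_C b, dvd_iff_isRoot.2 hb⟩
  symm
  refine Nat.card_congr (Equiv.ofBijective
    (fun b : {b : k // g.eval b = 0} => (⟨s ⟨X - C b.1, hXC b.1 b.2⟩, hs1 _, by
      rw [← hEq, natDegree_X_sub_C]⟩ :
      {P : Place k K // P ∈ S k u a ∧ (crv M.isSep).dg0 P = 1})) ⟨?_, ?_⟩)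
  · rintro ⟨b, hb⟩ ⟨b', hb'⟩ h
    have h1 := hsinj (congrArg Subtype.val h)
    have h2 : (X - C b : k[X]) = X - C b' := congrArg Subtype.val h1
    have h3 : (C b : k[X]) = C b' := sub_right_injective h2
    exact Subtype.ext (C_injective h3)
  · rintro ⟨P, hP, hP1⟩
    obtain ⟨m, rfl⟩ := hsurj P hP
    have h1 := (hTmem m.1).1 m.2
    have h2 : m.1.natDegree = 1 := by rw [hEq, hP1]
    have h3 : m.1 = X + C (m.1.coeff 0) := h1.2.1.eq_X_add_C h2
    have h4 : m.1 = X - C (-(m.1.coeff 0)) := by rw [map_neg, sub_neg_eq_add]; exact h3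
    refine ⟨⟨-(m.1.coeff 0), ?_⟩, ?_⟩
    · have h5 := h1.2.2
      rw [h4] at h5
      exact dvd_iff_isRoot.1 h5
    · apply Subtype.ext
      change s _ = s m
      congr 1
      exact Subtype.ext h4.symm

end fibre

end Model

end K467.PlaneFibre
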