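import Groth.Agent.Zeta.K467.PlaneCount
import Groth.Agent.Zeta.K467.LinNoether
import Groth.Agent.Zeta.K467.AbsIrr
import Groth.Agent.Zeta.K467.ResDeg
import Mathlib.FieldTheory.SeparableClosure
import Mathlib.FieldTheory.PrimitiveElement

/-!
# The plane model of an absolutely irreducible plane curve
-/

set_option autoImplicit false
open Polynomial

namespace K467.PlaneModel

open K467.LinNoether K467.AbsIrr K467.PlaneFibre

universe u v

section simple

variable {k : Type u} {K : Type v} [Field k] [Field K] [Algebra k K]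

/-- A simple extension given by a simple root of a polynomial. -/
theorem simple_ext (L : IntermediateField k K) (v : K) (htop : IntermediateField.adjoin L {v} = ⊤)
    (g : L[X]) (hg : aeval v g = 0) (hg' : aeval v (derivative g) ≠ 0) (D : ℕ) (hD : g.natDegree ≤ D) :
    FiniteDimensional L K ∧ Algebra.IsSeparable L K ∧ Module.finrank L K ≤ D := by
  have hg0 : g ≠ 0 := by
    rintro rfl
    simp at hg'
  have halg : IsAlgebraic L v := ⟨g, hg0, hg⟩
  have hint : IsIntegral L v := halg.isIntegral
  have hsep : IsSeparable L v := by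
    rw [IsSeparable, separable_iff_derivative_ne_zero (minpoly.irreducible hint)]
    intro h0
    obtain ⟨h, hh⟩ := minpoly.dvd L v hg
    apply hg'
    rw [hh, derivative_mul, h0, zero_mul, zero_add, map_mul, minpoly.aeval, zero_mul]
  have e : IntermediateField.adjoin L {v} ≃ₗ[L] K :=
    ((IntermediateField.equivOfEq htop).trans IntermediateField.topEquiv).toLinearEquiv
  have e' : IntermediateField.adjoin L {v} ≃ₐ[L] K :=
    (IntermediateField.equivOfEq htop).trans IntermediateField.topEquiv
  refine ⟨?_, ?_, ?_⟩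
  · have := IntermediateField.adjoin.finiteDimensional hint
    exact Module.Finite.equiv e
  · have : Algebra.IsSeparable L (IntermediateField.adjoin L {v}) :=
      (IntermediateField.isSeparable_adjoin_simple_iff_isSeparable L K).2 hsep
    exact Algebra.IsSeparable.of_algHom L _ e'.symm.toAlgHom
  · rw [← e.finrank_eq, IntermediateField.adjoin.finrank hint]
    exact (natDegree_le_of_dvd (minpoly.dvd L v hg) hg0).trans hD

end simple

section

variable {k : Type u} [Field k]

/-- `MvPolynomial (Fin 1) k → k[X]` -/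
noncomputable def e1 (k : Type u) [Field k] : MvPolynomial (Fin 1) k →ₐ[k] k[X] :=
  MvPolynomial.aeval (fun _ => X)

theorem natDegree_e1_le (p : MvPolynomial (Fin 1) k) : (e1 k p).natDegree ≤ p.totalDegree := by
  have := MvPolynomial.aeval_natDegree_le (m := p.totalDegree) (n := 1) p le_rfl (fun _ : Fin 1 => (X : k[X]))
    (fun _ => natDegree_X_le)
  rwa [mul_one] at this

/-- `k[X] → MvPolynomial (Fin 1) k` -/
noncomputable def e1inv (k : Type u) [Field k] : k[X] →ₐ[k] MvPolynomial (Fin 1) k :=
  aeval (MvPolynomial.X 0)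

theorem e1_e1inv (p : k[X]) : e1 k (e1inv k p) = p := by
  have h : (e1 k).comp (e1inv k) = AlgHom.id k _ := by
    ext
    simp [e1, e1inv]
  exact DFunLike.congr_fun h p

theorem e1inv_e1 (p : MvPolynomial (Fin 1) k) : e1inv k (e1 k p) = p := by
  have h : (e1inv k).comp (e1 k) = AlgHom.id k _ := by
    ext i
    fin_cases i
    simp [e1, e1inv]
  exact DFunLike.congr_fun h p

end

section model

variable {k : Type u} [Field k] (F : MvPolynomial (Fin 2) k)

/-- the plane model -/
noncomputable def GG (c : Fin 1 → k) : k[X][X] := (mon c F).map (e1 k : MvPolynomial (Fin 1) k →+* k[X])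

variable (c : Fin 1 → k) (hc : MvPolynomial.eval c (top F) ≠ 0)

include hc in
theorem monic_GG : (GG F c).Monic := (monic_mon c F hc).map _

include hc in
theorem natDegree_GG : (GG F c).natDegree = F.totalDegree := by
  rw [GG, (monic_mon c F hc).natDegree_map, natDegree_mon c F hc]

theorem coeff_GG (j : ℕ) : ((GG F c).coeff j).natDegree ≤ F.totalDegree - j := by
  rw [GG, coeff_map]
  by_cases h : (mon c F).coeff j = 0
  · rw [h, map_zero, natDegree_zero]; exact Nat.zero_le _
  · have := totalDegree_coeff_mon c F j h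
    have h2 := natDegree_e1_le ((mon c F).coeff j)
    change (e1 k _).natDegree ≤ _
    omega

/-- evaluation of the plane model -/
theorem aeval_ynew_eq {K : Type v} [Field K] [Algebra k K] (y : Fin 2 → K) :
    ((MvPolynomial.aeval (ynew c y) : MvPolynomial (Fin 1) k →ₐ[k] K) : MvPolynomial (Fin 1) k →+* K) =
    ((aeval (ynew c y 0) : k[X] →ₐ[k] K) : k[X] →+* K).comp (e1 k : MvPolynomial (Fin 1) k →+* k[X]) := by
  apply MvPolynomial.ringHom_ext
  · intro r
    simp [e1]
  · intro i
    fin_cases i
    simp [e1]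

theorem eval₂_GG {K : Type v} [Field K] [Algebra k K] (y : Fin 2 → K) :
    (GG F c).eval₂ ((aeval (ynew c y 0) : k[X] →ₐ[k] K) : k[X] →+* K) (y 0) =
      algebraMap k K (MvPolynomial.eval c (top F))⁻¹ * MvPolynomial.aeval y F := by
  rw [GG, eval₂_map, ← aeval_ynew_eq, ← eval_map, mon, Polynomial.map_mul, eval_mul, ← eval_E c y F, E_apply]
  congr 1
  simp

include hc in
theorem eval_GG_eq_zero_iff (y : Fin 2 → k) :
    ((GG F c).map (evalRingHom (ynew c y 0))).eval (y 0) = 0 ↔ MvPolynomial.eval y F = 0 := by
  have h := eval₂_GG F c y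
  have h2 : ((aeval (ynew c y 0) : k[X] →ₐ[k] k) : k[X] →+* k) = evalRingHom (ynew c y 0) := by
    ext <;> simp
  rw [h2, ← eval_map] at h
  rw [h, mul_eq_zero]
  have h3 : algebraMap k k (MvPolynomial.eval c (top F))⁻¹ ≠ 0 := by
    simpa using hc
  rw [or_iff_right h3, MvPolynomial.aeval_eq_eval]

include hc in
/-- Points of the plane model and points of the curve. -/
theorem card_points [Finite k] :
    Nat.card {p : k × k // ((GG F c).map (evalRingHom p.1)).eval p.2 = 0} =
      Nat.card {x : Fin 2 → k // MvPolynomial.eval x F = 0} := by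
  let e : k × k ≃ (Fin 2 → k) :=
    { toFun := fun p => ![p.2, p.1 + c 0 * p.2]
      invFun := fun x => (x 1 - c 0 * x 0, x 0)
      left_inv := fun p => by ext <;> simp
      right_inv := fun x => by
        ext i
        fin_cases i <;> simp }
  refine Nat.card_congr (e.subtypeEquiv fun p => ?_)
  rw [← eval_GG_eq_zero_iff F c hc]
  have h1 : ynew c (e p) 0 = p.1 := by simp [ynew, e]
  have h2 : e p 0 = p.2 := by simp [e]
  rw [h1, h2]

/-- The two coordinates. -/
theorem ynew_mem {K : Type v} [Field K] [Algebra k K] (y : Fin 2 → K)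
    (L : IntermediateField k K) (h0 : ynew c y 0 ∈ L) :
    y 1 ∈ IntermediateField.adjoin L {y 0} := by
  have h1 : y 1 = ynew c y 0 + algebraMap k K (c 0) * y 0 := by simp [ynew]
  rw [h1]
  refine add_mem ?_ (mul_mem ?_ (IntermediateField.mem_adjoin_simple_self _ _))
  · exact (IntermediateField.adjoin L {y 0}).algebraMap_mem ⟨_, h0⟩
  · exact (IntermediateField.adjoin L {y 0}).algebraMap_mem ⟨_, L.algebraMap_mem (c 0)⟩

theorem mem_of_coords [hp : (Ideal.span {F} : Ideal (MvPolynomial (Fin 2) k)).IsPrime]
    (S : Subfield (FF F)) (hk : ∀ a : k, algebraMap k (FF F) a ∈ S) (hy : ∀ i, yy F i ∈ S) (x : FF F) : x ∈ S := by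
  obtain ⟨A, B, hB, hAB⟩ := exists_frac F x
  have hmem : ∀ A : MvPolynomial (Fin 2) k, MvPolynomial.aeval (yy F) A ∈ S := by
    intro A
    induction A using MvPolynomial.induction_on with
    | C a => rw [MvPolynomial.aeval_C]; exact hk a
    | add p q hp hq => rw [map_add]; exact add_mem hp hq
    | mul_X p i hp => rw [map_mul, MvPolynomial.aeval_X]; exact mul_mem hp (hy i)
  have hB0 : MvPolynomial.aeval (yy F) B ≠ 0 := by
    rw [ne_eq, aeval_yy_eq_zero_iff]; exact hB
  rw [eq_div_of_mul_eq hB0 hAB]
  exact div_mem (hmem A) (hmem B)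

theorem adjoin_top [hp : (Ideal.span {F} : Ideal (MvPolynomial (Fin 2) k)).IsPrime] :
    IntermediateField.adjoin (IntermediateField.adjoin k {ynew c (yy F) 0}) {yy F 0} = ⊤ := by
  rw [eq_top_iff]
  intro x _
  refine mem_of_coords F (IntermediateField.adjoin
    (IntermediateField.adjoin k {ynew c (yy F) 0}) {yy F 0}).toSubfield ?_ ?_ x
  · intro a
    have h1 : algebraMap k (FF F) a ∈ IntermediateField.adjoin k {ynew c (yy F) 0} :=
      IntermediateField.algebraMap_mem _ a
    exact (IntermediateField.adjoin (IntermediateField.adjoin k {ynew c (yy F) 0}) {yy F 0}).algebraMap_mem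
      ⟨_, h1⟩
  · intro i
    fin_cases i
    · exact IntermediateField.mem_adjoin_simple_self _ _
    · exact ynew_mem c (yy F) _ (IntermediateField.mem_adjoin_simple_self _ _)

include hc in
/-- Linear independence of powers of `v`. -/
theorem ind [hp : (Ideal.span {F} : Ideal (MvPolynomial (Fin 2) k)).IsPrime]
    (p : Fin F.totalDegree → k[X])
    (h : ∑ j, aeval (ynew c (yy F) 0) (p j) * yy F 0 ^ (j : ℕ) = 0) : p = 0 := by
  classical
  let f : (MvPolynomial (Fin 1) k)[X] := ∑ j, C (e1inv k (p j)) * X ^ (j : ℕ)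
  let H : MvPolynomial (Fin 2) k := shear (-c) ((MvPolynomial.finSuccEquiv k 1).symm f)
  have hH : uni c H = f := by
    unfold uni
    rw [shear_shear_neg]
    exact (MvPolynomial.finSuccEquiv k 1).apply_symm_apply f
  have h1 : MvPolynomial.aeval (yy F) H = 0 := by
    rw [← eval_E c, E_apply, hH, ← h]
    simp only [f, Polynomial.map_sum, Polynomial.map_mul, Polynomial.map_pow, map_C, map_X,
      eval_finsetSum, eval_mul, eval_pow, eval_X, eval_C]
    refine Finset.sum_congr rfl fun j _ => ?_
    rw [aeval_ynew_eq]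
    congr 1
    change aeval _ (e1 k (e1inv k (p j))) = _
    rw [e1_e1inv]
  rw [aeval_yy_eq_zero_iff] at h1
  have h2 : uni c F ∣ f := by
    obtain ⟨q, hq⟩ := h1
    refine ⟨uni c q, ?_⟩
    rw [← hH, hq]
    unfold uni
    rw [map_mul, map_mul]
  have h3 : f = 0 := by
    by_contra h0
    have h4 := Polynomial.natDegree_le_of_dvd h2 h0
    rw [natDegree_uni c F hc] at h4
    have hD : 0 < F.totalDegree := by
      by_contra hD
      have : IsEmpty (Fin F.totalDegree) := by
        rw [Nat.eq_zero_of_not_pos hD]; infer_instance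
      apply h0
      simp [f]
    have h5 : f.natDegree < F.totalDegree := by
      rw [Polynomial.natDegree_lt_iff_degree_lt h0]
      refine (Polynomial.degree_sum_le _ _).trans_lt ?_
      rw [Finset.sup_lt_iff (WithBot.bot_lt_coe _)]
      intro j _
      refine (Polynomial.degree_C_mul_X_pow_le _ _).trans_lt ?_
      exact_mod_cast j.2
    omega
  funext j
  have h4 : f.coeff j = e1inv k (p j) := by
    simp only [f, finsetSum_coeff, coeff_C_mul, coeff_X_pow]
    rw [Finset.sum_eq_single j]
    · simp
    · intro b _ hb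
      rw [if_neg, mul_zero]
      intro h
      exact hb (Fin.ext h.symm)
    · intro h; exact absurd (Finset.mem_univ _) h
  rw [h3, coeff_zero] at h4
  have h5 := congrArg (e1 k) h4
  rw [map_zero, e1_e1inv] at h5
  exact h5.symm

/-- the minimal relation property -/
theorem min_degree [(Ideal.span {F} : Ideal (MvPolynomial (Fin 2) k)).IsPrime]
    (G : MvPolynomial (Fin 2) k) (hG0 : G ≠ 0) (hG : MvPolynomial.aeval (yy F) G = 0) :
    F.totalDegree ≤ G.totalDegree := by
  rw [aeval_yy_eq_zero_iff] at hG
  obtain ⟨q, rfl⟩ := hG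
  have h1 : F ≠ 0 := left_ne_zero_of_mul hG0
  have h2 : q ≠ 0 := right_ne_zero_of_mul hG0
  rw [MvPolynomial.totalDegree_mul_of_isDomain h1 h2]
  exact Nat.le_add_right _ _

theorem pos_of_irreducible (hF : Irreducible F) : 1 ≤ F.totalDegree := by
  by_contra h
  have h0 : F.totalDegree = 0 := by omega
  rw [MvPolynomial.totalDegree_eq_zero_iff_eq_C] at h0
  have h1 : MvPolynomial.coeff 0 F ≠ 0 := by
    intro h2
    rw [h2, MvPolynomial.C_0] at h0
    exact hF.ne_zero h0
  apply hF.not_isUnit
  rw [h0]
  exact (isUnit_iff_ne_zero.2 h1).map MvPolynomial.C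

open scoped IntermediateField.algebraAdjoinAdjoin in
theorem linearIndependent_adjoin_of_ind [hp : (Ideal.span {F} : Ideal (MvPolynomial (Fin 2) k)).IsPrime]
    (hind : ∀ p : Fin F.totalDegree → k[X],
      ∑ j, aeval (ynew c (yy F) 0) (p j) * yy F 0 ^ (j : ℕ) = 0 → p = 0) :
    LinearIndependent (IntermediateField.adjoin k {ynew c (yy F) 0})
      (fun j : Fin F.totalDegree => yy F 0 ^ (j : ℕ)) := by
  rw [← LinearIndependent.iff_fractionRing (Algebra.adjoin k {ynew c (yy F) 0})
    (IntermediateField.adjoin k {ynew c (yy F) 0}), Fintype.linearIndependent_iff]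
  intro g hg
  have hp : ∀ i, ∃ p : k[X], aeval (ynew c (yy F) 0) p = (g i : FF F) := by
    intro i
    have h1 : (g i : FF F) ∈ (aeval (ynew c (yy F) 0) : k[X] →ₐ[k] FF F).range := by
      rw [← Algebra.adjoin_singleton_eq_range_aeval]
      exact (g i).2
    exact h1
  choose p hp using hp
  have h2 : p = 0 := by
    apply hind
    rw [← hg]
    refine Finset.sum_congr rfl fun i _ => ?_
    rw [hp, Algebra.smul_def]
    rfl
  intro i
  apply Subtype.ext
  rw [← hp i, h2]
  simp

/-- Absolutely irreducible plane curves over a finite field with sufficiently many elements have a plane model. -/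
theorem exists_model [Finite k]
    (hF : Irreducible (MvPolynomial.map (algebraMap k (AlgebraicClosure k)) F))
    (hq : F.totalDegree + 1 < Nat.card k) :
    letI := isPrime F (irreducible_of_map hF)
    ∃ c : Fin 1 → k, MvPolynomial.eval c (top F) ≠ 0 ∧
      Model k (FF F) (ynew c (yy F) 0) (yy F 0) F.totalDegree (GG F c) ∧
      resultant (GG F c) (derivative (GG F c)) F.totalDegree (F.totalDegree - 1) ≠ 0 := by
  have hFk := irreducible_of_map hF
  have hp := isPrime F hFk
  obtain ⟨c, hc, hroot, hder⟩ := exists_step (yy F) F hFk.ne_zero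
    ((aeval_yy_eq_zero_iff F F).2 dvd_rfl) (fun G h1 h2 => min_degree F G h1 h2) hq
  have hD := pos_of_irreducible F hFk
  let L := IntermediateField.adjoin k {ynew c (yy F) 0}
  let u : L := ⟨ynew c (yy F) 0, IntermediateField.mem_adjoin_simple_self _ _⟩
  let φ : k[X] →+* L := ((aeval u : k[X] →ₐ[k] L) : k[X] →+* L)
  have hφ : (algebraMap L (FF F)).comp φ =
      ((aeval (ynew c (yy F) 0) : k[X] →ₐ[k] FF F) : k[X] →+* FF F) := by
    apply Polynomial.ringHom_ext
    · intro a
      simp only [φ, RingHom.comp_apply, RingHom.coe_coe, aeval_C]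
      rfl
    · simp only [φ, RingHom.comp_apply, RingHom.coe_coe, aeval_X]
      rfl
  let g : L[X] := (GG F c).map φ
  have hgm : g.Monic := (monic_GG F c hc).map φ
  have hgE : g.map (algebraMap L (FF F)) =
      C (algebraMap k (FF F) (MvPolynomial.eval c (top F))⁻¹) * E c (yy F) F := by
    rw [Polynomial.map_map, hφ, GG, Polynomial.map_map, ← aeval_ynew_eq, mon, Polynomial.map_mul, E_apply,
      Polynomial.map_C]
    congr 2
    exact MvPolynomial.aeval_C _ _
  have hne : algebraMap k (FF F) (MvPolynomial.eval c (top F))⁻¹ ≠ 0 := by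
    rw [ne_eq, FaithfulSMul.algebraMap_eq_zero_iff]
    exact inv_ne_zero hc
  have hg : aeval (yy F 0) g = 0 := by
    rw [aeval_def, ← eval_map, hgE, eval_mul, hroot, mul_zero]
  have hg' : aeval (yy F 0) (derivative g) ≠ 0 := by
    rw [aeval_def, ← eval_map, ← derivative_map, hgE, derivative_C_mul, eval_mul, eval_C]
    exact mul_ne_zero hne hder
  have hgD : g.natDegree ≤ F.totalDegree := by
    rw [(monic_GG F c hc).natDegree_map, natDegree_GG F c hc]
  obtain ⟨h1, h2, h3⟩ := simple_ext L (yy F 0) (adjoin_top F c) g hg hg' F.totalDegree hgD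
  have hind := ind F c hc
  have htr : Transcendental k (ynew c (yy F) 0) := by
    rintro ⟨P, hP0, hP⟩
    have h4 := hind (fun j => if (j : ℕ) = 0 then P else 0) (by
      rw [Finset.sum_eq_single (⟨0, hD⟩ : Fin F.totalDegree)]
      · simp [hP]
      · intro b _ hb
        have : (b : ℕ) ≠ 0 := fun h => hb (Fin.ext h)
        simp [this]
      · intro h; exact absurd (Finset.mem_univ _) h)
    have h5 := congrFun h4 ⟨0, hD⟩
    simp only [if_pos, Pi.zero_apply] at h5
    exact hP0 h5
  have hM : Model k (FF F) (ynew c (yy F) 0) (yy F 0) F.totalDegree (GG F c) :=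
    { tr := htr
      fin := h1
      sep := h2
      rank := h3
      monic := monic_GG F c hc
      natDegree := natDegree_GG F c hc
      pos := hD
      coeff := fun j _ => coeff_GG F c j
      root := by
        rw [eval₂_GG, (aeval_yy_eq_zero_iff F F).2 dvd_rfl, mul_zero]
      ind := hind
      const := fun x hx => by
        obtain ⟨a, ha⟩ := mem_range_of_isAlgebraic F (L := AlgebraicClosure k) hF x hx
        exact ⟨a, ha⟩ }
  refine ⟨c, hc, hM, ?_⟩
  apply ResDeg.disc_ne_zero _ (monic_GG F c hc) _ (natDegree_GG F c hc) hD φ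
  -- `g` is the minimal polynomial
  have hint : IsIntegral L (yy F 0) := ⟨g, hgm, hg⟩
  have hrank : F.totalDegree ≤ Module.finrank L (FF F) := by
    have h4 := linearIndependent_adjoin_of_ind F c hind
    have h5 := h4.fintype_card_le_finrank
    rwa [Fintype.card_fin] at h5
  have hmin : (minpoly L (yy F 0)).natDegree = Module.finrank L (FF F) := by
    rw [← IntermediateField.adjoin.finrank hint]
    have e : IntermediateField.adjoin L {yy F 0} ≃ₗ[L] FF F :=
      ((IntermediateField.equivOfEq (adjoin_top F c)).trans IntermediateField.topEquiv).toLinearEquiv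
    exact e.finrank_eq
  have hgeq : g = minpoly L (yy F 0) := by
    refine (Polynomial.eq_of_monic_of_dvd_of_natDegree_le (minpoly.monic hint) hgm
      (minpoly.dvd L _ hg) ?_)
    rw [hmin]
    exact hgD.trans hrank
  change g.Separable
  rw [hgeq]
  exact Algebra.IsSeparable.isSeparable L (yy F 0)

end model

end K467.PlaneModel
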