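import Groth.Agent.Models.FFRR3
import Groth.Agent.MiscA.WCPlaceRes

/-!
# The degree of the divisor of poles of a function

For an abstract complete curve `C : Crv k K X` with `C.Fin` (finite cohomology):

* `deg_pole_le`: `deg (x)_∞ ≤ [K : k(x)]`.
-/

set_option autoImplicit false
open WithZero Polynomial

namespace K467.PoleDeg

open Groth.Agent.Models.FFLen Groth.Agent.Models.FFRR Groth.Agent.MiscA.WCPlace

universe u v w

section

variable {k : Type u} {K : Type v} {𝒳 : Type w} [Field k] [Field K] [Algebra k K] (C : Crv k K 𝒳)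

/-- The divisor of poles. -/
noncomputable def pole (x : K) : 𝒳 →₀ ℤ := (-(C.div x)) ⊔ 0

theorem pole_apply (x : K) (P : 𝒳) : pole C x P = max (-(C.div x P)) 0 := rfl

theorem pole_nonneg (x : K) : 0 ≤ pole C x := le_sup_right

theorem le_pole {x : K} (hx : x ≠ 0) (P : 𝒳) : C.v P x ≤ exp (pole C x P) := by
  rw [C.v_eq_exp hx, exp_le_exp, pole_apply]
  exact le_max_left _ _

theorem eq_of_pole_pos {x : K} (hx : x ≠ 0) (P : 𝒳) (h : 0 < pole C x P) :
    C.v P x = exp (pole C x P) := by
  rw [C.v_eq_exp hx]
  rw [pole_apply] at h ⊢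
  congr 1
  rcases le_total 0 (-(C.div x P)) with h1 | h1
  · rw [max_eq_left h1]
  · rw [max_eq_right h1] at h
    exact absurd h (lt_irrefl _)

theorem v_aeval_le_one (P : 𝒳) {y : K} (hy : C.v P y ≤ 1) (q : k[X]) : C.v P (aeval y q) ≤ 1 := by
  rw [aeval_eq_sum_range]
  refine (C.v P).map_sum_le fun i _ => ?_
  rw [Algebra.smul_def, map_mul, map_pow]
  exact mul_le_one' (C.v_const P _) (pow_le_one' hy i)

/-- Elements of `L(M)` independent modulo `L(M - (x)_∞)` are independent over `k[x⁻¹]`. -/
theorem coeff_eq_zero {x : K} (hx : x ≠ 0) (M : 𝒳 →₀ ℤ) {ι : Type*} [Fintype ι] (f : ι → K)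
    (hf : ∀ i, f i ∈ C.L M)
    (hind : ∀ c : ι → k, ∑ i, c i • f i ∈ C.L (M - pole C x) → c = 0) (n : ℕ) :
    ∀ p : ι → k[X], (∀ i, (p i).degree < n) → ∑ i, aeval x⁻¹ (p i) * f i = 0 → p = 0 := by
  induction n with
  | zero =>
    intro p hp _
    funext i
    have h0 := hp i
    by_contra hne
    rw [Polynomial.degree_eq_natDegree hne] at h0
    norm_cast at h0
  | succ n ih =>
    intro p hp hsum
    have hdecomp : ∀ i, p i = X * (p i).divX + Polynomial.C ((p i).coeff 0) := fun i =>
      ((p i).X_mul_divX_add).symm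
    have h1 : ∑ i, (p i).coeff 0 • f i = - (x⁻¹ * ∑ i, aeval x⁻¹ (p i).divX * f i) := by
      rw [eq_neg_iff_add_eq_zero, Finset.mul_sum, ← Finset.sum_add_distrib, ← hsum]
      refine Finset.sum_congr rfl fun i _ => ?_
      conv_rhs => rw [hdecomp i]
      rw [map_add, map_mul, aeval_X, aeval_C, Algebra.smul_def]
      ring
    have h2 : ∑ i, (p i).coeff 0 • f i ∈ C.L (M - pole C x) := by
      have h3 : ∑ i, (p i).coeff 0 • f i ∈ C.L M :=
        sum_mem fun i _ => (C.L M).smul_mem _ (hf i)
      rw [Crv.mem_L] at h3 ⊢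
      intro P
      have h0' : 0 ≤ pole C x P := pole_nonneg C x P
      rcases h0'.eq_or_lt with h0 | h0
      · rw [Finsupp.sub_apply, ← h0]
        simpa using h3 P
      · rw [h1, Valuation.map_neg, map_mul, map_inv₀, eq_of_pole_pos C hx P h0, Finsupp.sub_apply,
          sub_eq_neg_add, exp_add, exp_neg]
        gcongr
        have hy : C.v P x⁻¹ ≤ 1 := by
          rw [map_inv₀, eq_of_pole_pos C hx P h0, ← exp_neg, ← exp_zero, exp_le_exp]
          omega
        refine (C.v P).map_sum_le fun i _ => ?_
        rw [map_mul]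
        calc C.v P (aeval x⁻¹ (p i).divX) * C.v P (f i) ≤ 1 * exp (M P) := by
              gcongr
              · exact v_aeval_le_one C P hy _
              · exact hf i P
          _ = exp (M P) := one_mul _
    have h4 := hind _ h2
    have h5 : ∀ i, p i = X * (p i).divX := by
      intro i
      conv_lhs => rw [hdecomp i]
      rw [congrFun h4 i]
      simp
    have h6 : (fun i => (p i).divX) = 0 := by
      apply ih
      · intro i
        have h7 := hp i
        by_cases hpi : (p i).divX = 0
        · rw [hpi, degree_zero]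
          exact WithBot.bot_lt_coe _
        · rw [h5 i, degree_mul, degree_X] at h7
          rw [Polynomial.degree_eq_natDegree hpi] at h7 ⊢
          norm_cast at h7 ⊢
          omega
      · have hy : (x⁻¹ : K) ≠ 0 := inv_ne_zero hx
        have h8 : x⁻¹ * ∑ i, aeval x⁻¹ (p i).divX * f i = 0 := by
          rw [← neg_eq_zero, ← h1]
          refine Finset.sum_eq_zero fun i _ => ?_
          rw [congrFun h4 i]
          simp
        exact (mul_eq_zero.1 h8).resolve_left hy
    funext i
    rw [h5 i, congrFun h6 i]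
    simp

open scoped IntermediateField.algebraAdjoinAdjoin in
theorem card_le {x : K} (hx : Transcendental k x) [FiniteDimensional (IntermediateField.adjoin k {x}) K]
    (M : 𝒳 →₀ ℤ) {ι : Type*} [Fintype ι] (f : ι → K)
    (hf : ∀ i, f i ∈ C.L M)
    (hind : ∀ c : ι → k, ∑ i, c i • f i ∈ C.L (M - pole C x) → c = 0) :
    Fintype.card ι ≤ Module.finrank (IntermediateField.adjoin k {x}) K := by
  have hx0 : x ≠ 0 := by
    rintro rfl
    exact hx isAlgebraic_zero
  have hfd : FiniteDimensional (IntermediateField.adjoin k {x⁻¹}) K := by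
    rw [adjoin_inv]; infer_instance
  have h1 : LinearIndependent (Algebra.adjoin k {x⁻¹}) f := by
    rw [Fintype.linearIndependent_iff]
    intro g hg
    have hp : ∀ i, ∃ p : k[X], aeval x⁻¹ p = (g i : K) := by
      intro i
      have h1 : (g i : K) ∈ (aeval x⁻¹ : k[X] →ₐ[k] K).range := by
        rw [← Algebra.adjoin_singleton_eq_range_aeval]
        exact (g i).2
      exact h1
    choose p hp using hp
    have h2 : p = 0 := by
      refine coeff_eq_zero C hx0 M f hf hind ((Finset.univ.sup fun i => (p i).natDegree) + 1) p ?_ ?_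
      · intro i
        refine lt_of_le_of_lt degree_le_natDegree ?_
        have := Finset.le_sup (f := fun i => (p i).natDegree) (Finset.mem_univ i)
        norm_cast
        exact Nat.lt_succ_of_le this
      · rw [← hg]
        refine Finset.sum_congr rfl fun i _ => ?_
        rw [hp, Algebra.smul_def]
        rfl
    intro i
    apply Subtype.ext
    rw [← hp i, h2]
    simp
  rw [LinearIndependent.iff_fractionRing (Algebra.adjoin k {x⁻¹})
    (IntermediateField.adjoin k {x⁻¹})] at h1
  have h3 := h1.fintype_card_le_finrank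
  rw [adjoin_inv] at h3
  exact h3

/-- The degree of the divisor of poles of `x` is at most `[K : k(x)]`. -/
theorem deg_pole_le [Nonempty 𝒳] (hC : C.Fin) {x : K} (hx : Transcendental k x)
    [FiniteDimensional (IntermediateField.adjoin k {x}) K] :
    C.deg (pole C x) ≤ Module.finrank (IntermediateField.adjoin k {x}) K := by
  classical
  obtain ⟨c, hc0, hc⟩ := hC.exists_bound
  obtain ⟨P₀⟩ := ‹Nonempty 𝒳›
  let N : 𝒳 →₀ ℤ := Finsupp.single P₀ c
  have hN : c ≤ C.deg N := by
    rw [C.deg_single]
    have := hC.dg0_pos P₀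
    nlinarith
  let M := N + pole C x
  have hMN : M - pole C x = N := by simp [M]
  have hNM : N ≤ M := by
    simp only [M, le_add_iff_nonneg_right]
    exact pole_nonneg C x
  have hiN : C.i N = 0 := hc N hN
  have hiM : C.i M = 0 := by
    have := hC.i_anti hNM
    omega
  have h1 := hC.chi N
  have h2 := hC.chi M
  have h3 : C.deg M = C.deg N + C.deg (pole C x) := map_add _ _ _
  have hl : (C.l M : ℤ) = C.l N + C.deg (pole C x) := by
    rw [hiN] at h1
    rw [hiM] at h2
    omega
  have : Nonempty 𝒳 := ⟨P₀⟩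
  have hfM := hC.finite_L M
  have hfN := hC.finite_L N
  obtain ⟨W, hW⟩ := Submodule.exists_isCompl (C.L N)
  let V : Submodule k K := C.L M ⊓ W
  have hVfin : Module.Finite k V := Submodule.finiteDimensional_of_le (inf_le_left : V ≤ C.L M)
  have hsup : C.L N ⊔ V = C.L M := by
    have h5 : C.L N ≤ C.L M := C.L_mono hNM
    rw [show V = W ⊓ C.L M from inf_comm _ _, ← sup_inf_assoc_of_le W h5, hW.sup_eq_top, top_inf_eq]
  have hinf : C.L N ⊓ V = ⊥ := by
    rw [eq_bot_iff]
    rintro y ⟨hy1, hy2⟩
    have : y ∈ C.L N ⊓ W := ⟨hy1, hy2.2⟩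
    rwa [hW.inf_eq_bot] at this
  have hrank := Submodule.finrank_sup_add_finrank_inf_eq (C.L N) V
  rw [hsup, hinf, finrank_bot, add_zero, hC.finrank_L, hC.finrank_L] at hrank
  have hV : (Module.finrank k V : ℤ) = C.deg (pole C x) := by omega
  let b := Module.finBasis k V
  have h6 := card_le C hx M (fun i => ((b i : V) : K)) (fun i => (b i).2.1) (by
    intro c hc
    rw [hMN] at hc
    have h7 : ((∑ i, c i • b i : V) : K) = ∑ i, c i • ((b i : V) : K) := by
      simp
    have h8 : ((∑ i, c i • b i : V) : K) ∈ C.L N ⊓ V := ⟨by rw [h7]; exact hc, (∑ i, c i • b i : V).2⟩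
    rw [hinf, Submodule.mem_bot] at h8
    have h9 : (∑ i, c i • b i : V) = 0 := Subtype.ext h8
    have h10 := Fintype.linearIndependent_iff.1 b.linearIndependent c h9
    funext i
    exact h10 i)
  rw [Fintype.card_fin] at h6
  omega

end

end K467.PoleDeg
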