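import Groth.Agent.Zeta.K467.AffUB
import Mathlib.FieldTheory.PrimitiveElement
import Mathlib.RingTheory.DedekindDomain.Different

/-!
# A primitive linear form
-/

set_option autoImplicit false
open MvPolynomial

namespace K467.Prim

open LinNoether HilbDeg LinNorm AffPts AffUB

universe u v

variable {k : Type u} [Field k] {L : Type v} [Field L] [Algebra k L] {N R : ℕ} {y : Fin R → L}
  {b : Fin N → L}

/-- the field `k(y)` -/
abbrev M (k : Type u) [Field k] {L : Type v} [Field L] [Algebra k L] {R : ℕ} (y : Fin R → L) :
    IntermediateField k L := IntermediateField.adjoin k (Set.range y)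

theorem adjoin_M_eq_top (hb : IntermediateField.adjoin k (Set.range b) = ⊤) :
    IntermediateField.adjoin (M k y) (Set.range b) = ⊤ := by
  rw [eq_top_iff]
  intro x _
  have h1 : IntermediateField.adjoin k (Set.range b) ≤
      (IntermediateField.adjoin (M k y) (Set.range b)).restrictScalars k := by
    rw [IntermediateField.adjoin_le_iff]
    exact IntermediateField.subset_adjoin _ _
  rw [hb] at h1
  exact h1 (IntermediateField.mem_top (x := x))

theorem finiteDimensional (hb : IntermediateField.adjoin k (Set.range b) = ⊤) (hN : Norm k b y) :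
    FiniteDimensional (M k y) L := by
  have := hN.sep
  have h1 : FiniteDimensional (M k y) (IntermediateField.adjoin (M k y) (Set.range b)) := by
    apply IntermediateField.finiteDimensional_adjoin
    intro x _
    exact (Algebra.IsSeparable.isSeparable (M k y) x).isIntegral
  rw [adjoin_M_eq_top hb] at h1
  exact Module.Finite.equiv (IntermediateField.topEquiv (F := M k y) (E := L)).toLinearEquiv

theorem natDegree_minpoly_le (hy : AlgebraicIndependent k y) (hN : Norm k b y) {d : ℕ} (hDB : DB k b R d)
    {z : L} (hz : z ∈ Submodule.span k (Set.range b)) : (minpoly (M k y) z).natDegree ≤ d := by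
  have hzi := isIntegral_of_span hN hz
  open scoped IntermediateField.algebraAdjoinAdjoin in
  have h1 : minpoly (M k y) z ∣ (minpoly (Algebra.adjoin k (Set.range y)) z).map
      (algebraMap (Algebra.adjoin k (Set.range y)) (M k y)) := by
    apply minpoly.dvd
    rw [Polynomial.aeval_map_algebraMap, minpoly.aeval]
  have h2 := Polynomial.natDegree_le_of_dvd h1 ((minpoly.monic hzi).map _).ne_zero
  refine h2.trans ((Polynomial.natDegree_map_le).trans ?_)
  rw [← natDegree_mp hy hzi]
  exact natDegree_mp_le hy hzi hDB hN.mem hz

/-- The degree is at most `d` and there is a primitive linear form. -/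
theorem exists_primitive [Finite k] (hb : IntermediateField.adjoin k (Set.range b) = ⊤)
    (hy : AlgebraicIndependent k y) (hN : Norm k b y) {d : ℕ} (hDB : DB k b R d)
    (hq : (d + 1) * (d + 1) < Nat.card k) :
    ∃ z ∈ Submodule.span k (Set.range b), IntermediateField.adjoin (M k y) {z} = ⊤ := by
  classical
  have hfd := finiteDimensional hb hN
  have hsep := hN.sep
  let Ω := AlgebraicClosure L
  let Emb := L →ₐ[M k y] Ω
  let P : Emb → (Fin N → Ω) := fun σ j => σ (b j)
  have hP : Function.Injective P := by
    intro σ τ h
    have h1 : (σ.comp (⊤ : IntermediateField (M k y) L).val) = τ.comp (⊤ : IntermediateField (M k y) L).val := by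
      apply IntermediateField.algHom_ext_of_eq_adjoin (M k y) (adjoin_M_eq_top hb).symm
      rintro x ⟨j, rfl⟩
      exact congrFun h j
    ext x
    exact DFunLike.congr_fun h1 (⟨x, IntermediateField.mem_top⟩ : (⊤ : IntermediateField (M k y) L))
  have hlin : ∀ (σ : Emb) (c : Fin N → k), σ (∑ j, c j • b j) = ∑ j, c j • P σ j := by
    intro σ c
    rw [map_sum]
    refine Finset.sum_congr rfl fun j _ => ?_
    rw [← algebraMap_smul (M k y) (c j) (b j), map_smul, algebraMap_smul]
  have hspan : ∀ c : Fin N → k, ∑ j, c j • b j ∈ Submodule.span k (Set.range b) := fun c =>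
    sum_mem fun j _ => Submodule.smul_mem _ _ (Submodule.subset_span ⟨j, rfl⟩)
  -- conjugates of a separating form
  have key : ∀ T : Finset Emb, T.card ≤ d + 1 → ∃ c : Fin N → k,
      Set.InjOn (fun σ : Emb => σ (∑ j, c j • b j)) (T : Set Emb) := by
    intro T hT
    obtain ⟨c, hc⟩ := exists_sep (Ω := Ω) (k := k) (T.image P) (by
      rw [Finset.card_image_of_injective _ hP]
      exact lt_of_le_of_lt (Nat.mul_le_mul hT hT) hq)
    refine ⟨c, fun σ hσ τ hτ h => ?_⟩
    apply hP
    refine hc (P σ) (Finset.mem_image_of_mem _ hσ) (P τ) (Finset.mem_image_of_mem _ hτ) ?_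
    rw [← hlin, ← hlin]
    exact h
  have hcount : ∀ (T : Finset Emb) (z : L), z ∈ Submodule.span k (Set.range b) →
      Set.InjOn (fun σ : Emb => σ z) (T : Set Emb) → T.card ≤ (minpoly (M k y) z).natDegree := by
    intro T z hz hinj
    have hzint : IsIntegral (M k y) z := (Algebra.IsSeparable.isSeparable (M k y) z).isIntegral
    have hsub : T.image (fun σ : Emb => σ z) ⊆ ((minpoly (M k y) z).map (algebraMap (M k y) Ω)).roots.toFinset := by
      intro x hx
      obtain ⟨σ, _, rfl⟩ := Finset.mem_image.1 hx
      rw [Multiset.mem_toFinset, Polynomial.mem_roots ((minpoly.monic hzint).map _).ne_zero, Polynomial.IsRoot,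
        Polynomial.eval_map, ← Polynomial.aeval_def, Polynomial.aeval_algHom_apply, minpoly.aeval, map_zero]
    have h1 := Finset.card_le_card hsub
    rw [Finset.card_image_of_injOn hinj] at h1
    exact h1.trans ((Multiset.toFinset_card_le _).trans ((Polynomial.card_roots' _).trans Polynomial.natDegree_map_le))
  have hcard : Fintype.card Emb = Module.finrank (M k y) L := AlgHom.card (M k y) L Ω
  have hle : Fintype.card Emb ≤ d := by
    by_contra hcon
    push Not at hcon
    obtain ⟨T, -, hT⟩ := Finset.exists_subset_card_eq
      (show d + 1 ≤ (Finset.univ : Finset Emb).card by rw [Finset.card_univ]; omega)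
    obtain ⟨c, hc⟩ := key T hT.le
    have h1 := hcount T _ (hspan c) hc
    have h2 := natDegree_minpoly_le hy hN hDB (hspan c)
    omega
  obtain ⟨c, hc⟩ := key Finset.univ (by rw [Finset.card_univ]; omega)
  refine ⟨_, hspan c, ?_⟩
  have h1 := hcount Finset.univ _ (hspan c) hc
  rw [Finset.card_univ, hcard] at h1
  rw [Field.primitive_element_iff_minpoly_natDegree_eq]
  exact le_antisymm (minpoly.natDegree_le _) h1

end K467.Prim
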