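import Groth.Agent.Lefpen.H720.HomPt
import Groth.Agent.Etrest.EtExtStalk
import Groth.Agent.Ega2.H291.ProjClosed
import Groth.Prelude.Def_SgaExt
import Mathlib.RingTheory.MvPolynomial.Ideal

/-!
# Field-valued points of closed subschemes of projective space
-/

set_option autoImplicit false
universe u

open CategoryTheory AlgebraicGeometry Limits TopologicalSpace Opposite

namespace K467.ProjPt

open Groth.Agent Groth.Agent.Lefpen.H720.AffPt Groth.Agent.Sga5 Groth.Agent.VarietyB.ProjHom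
open HomogeneousLocalization

variable {N : ℕ} {k K : Type u} [Field k] [Field K] [Algebra k K]

/-- The affine coordinates in the chart `D_+(T_i)` of the vector `v`. -/
def aff (i : Fin (N + 1)) (v : Fin (N + 1) → K) : Fin N → K := fun l => v (i.succAbove l) / v i

/-- evaluation -/
noncomputable def ev (k : Type u) {K : Type u} [Field k] [Field K] [Algebra k K] {N : ℕ}
    (v : Fin (N + 1) → K) : MvPolynomial (Fin (N + 1)) k →+* K :=
  (MvPolynomial.aeval v : MvPolynomial (Fin (N + 1)) k →ₐ[k] K).toRingHom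

theorem ev_apply (v : Fin (N + 1) → K) (P : MvPolynomial (Fin (N + 1)) k) :
    ev k v P = MvPolynomial.aeval v P := rfl

variable (k) in
/-- The point with homogeneous coordinates `v`, seen in the chart `D_+(T_i)`. -/
noncomputable def hpt (i : Fin (N + 1)) (v : Fin (N + 1) → K) :
    Spec (CommRingCat.of K) ⟶ CohB1.ProjSpace N k := apt i (aff i v)

theorem isUnit_ev {i : Fin (N + 1)} {v : Fin (N + 1) → K} (hv : v i ≠ 0) :
    IsUnit (ev k v (MvPolynomial.X i)) := by
  have h : ev k v (MvPolynomial.X i) = v i := by simp [ev]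
  rw [h]
  exact isUnit_iff_ne_zero.mpr hv

theorem ev_X (v : Fin (N + 1) → K) (i : Fin (N + 1)) : ev k v (MvPolynomial.X i) = v i := by simp [ev]

theorem ev_C (v : Fin (N + 1) → K) (r : k) : ev k v (MvPolynomial.C r) = algebraMap k K r := by simp [ev]

theorem aeval_aff_comp {i : Fin (N + 1)} {v : Fin (N + 1) → K} (hv : v i ≠ 0) :
    (MvPolynomial.aeval (aff i v) : MvPolynomial (Fin N) k →ₐ[k] K).toRingHom.comp
      (ProjChart.chartEquiv N k i).symm.toRingHom =
      awayLift (CohB1.polyGrading N k) (ev k v) (MvPolynomial.X i) (isUnit_ev hv) := by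
  have key : (MvPolynomial.aeval (aff i v) : MvPolynomial (Fin N) k →ₐ[k] K).toRingHom =
      (awayLift (CohB1.polyGrading N k) (ev k v) (MvPolynomial.X i) (isUnit_ev hv)).comp
        (ProjChart.ofPoly N k i) := by
    apply MvPolynomial.ringHom_ext
    · intro r
      simp only [RingHom.comp_apply, AlgHom.toRingHom_eq_coe, RingHom.coe_coe, MvPolynomial.algHom_C]
      rw [ProjChart.ofPoly, MvPolynomial.coe_eval₂Hom, MvPolynomial.eval₂_C]
      have h1 : ProjChart.chartC N k i r = Away.mk _ (ProjChart.X_mem N k i) 0 (MvPolynomial.C r)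
          (by simp) := by
        apply HomogeneousLocalization.val_injective
        rw [ProjChart.val_chartC, HomogeneousLocalization.Away.val_mk]
        rw [← Localization.mk_one_eq_algebraMap]
        congr 1
      rw [h1]
      have h2 := awayLift_mk (CohB1.polyGrading N k) (ev k v) (isUnit_ev hv)
        (ProjChart.X_mem N k i) 0 (MvPolynomial.C r) (by simp)
      rw [pow_zero, mul_one, ev_C] at h2
      rw [h2]
    · intro l
      simp only [RingHom.comp_apply, AlgHom.toRingHom_eq_coe, RingHom.coe_coe, MvPolynomial.aeval_X]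
      rw [ProjChart.ofPoly, MvPolynomial.coe_eval₂Hom, MvPolynomial.eval₂_X, ProjChart.coord]
      have h2 := awayLift_mk (CohB1.polyGrading N k) (ev k v) (isUnit_ev hv)
        (ProjChart.X_mem N k i) 1 (MvPolynomial.X (i.succAbove l))
        (by simpa using ProjChart.X_mem N k (i.succAbove l))
      rw [pow_one, ev_X, ev_X] at h2
      rw [aff, ← h2, mul_div_cancel_right₀ _ hv]
  rw [key]
  ext x
  obtain ⟨p, rfl⟩ := (ProjChart.chartEquiv N k i).surjective x
  simp only [RingHom.comp_apply]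
  have h3 : (ProjChart.chartEquiv N k i).symm.toRingHom ((ProjChart.chartEquiv N k i) p) = p :=
    (ProjChart.chartEquiv N k i).symm_apply_apply p
  rw [h3]
  rfl

theorem hpt_eq_away {i : Fin (N + 1)} {v : Fin (N + 1) → K} (hv : v i ≠ 0) :
    hpt k i v = Spec.map (CommRingCat.ofHom (awayLift (CohB1.polyGrading N k) (ev k v)
      (MvPolynomial.X i) (isUnit_ev hv))) ≫
        Proj.awayι (CohB1.polyGrading N k) (MvPolynomial.X i) (ProjChart.X_mem N k i) Nat.one_pos := by
  rw [hpt, apt, ProjSmooth.chart, ← aeval_aff_comp hv]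
  refine (Category.assoc _ _ _).symm.trans ?_
  rw [← Spec.map_comp, ← CommRingCat.ofHom_comp]
  rfl

/-- Independence of the chart. -/
theorem hpt_indep {i j : Fin (N + 1)} {v : Fin (N + 1) → K} (hi : v i ≠ 0) (hj : v j ≠ 0) :
    hpt k i v = hpt k j v := by
  rw [hpt_eq_away hi, hpt_eq_away hj]
  exact Lefpen.H720.HomPt.SpecMap_awayLift_awayι _ _ _ _ _ _ _ _

theorem aff_smul (i : Fin (N + 1)) (v : Fin (N + 1) → K) {c : K} (hc : c ≠ 0) :
    aff i (c • v) = aff i v := by
  funext l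
  simp only [aff, Pi.smul_apply, smul_eq_mul]
  rw [mul_div_mul_left _ _ hc]

/-- The image of the point `v` lies in `D_+(F)` iff `F(v) ≠ 0`. -/
theorem hpt_mem_basicOpen {i : Fin (N + 1)} {v : Fin (N + 1) → K} (hv : v i ≠ 0) {d : ℕ} (hd : 0 < d)
    {F : MvPolynomial (Fin (N + 1)) k} (hF : F ∈ CohB1.polyGrading N k d) (x : Spec (CommRingCat.of K)) :
    (hpt k i v) x ∈ Proj.basicOpen (CohB1.polyGrading N k) F ↔ MvPolynomial.aeval v F ≠ 0 := by
  have h1 : (hpt k i v) ⁻¹ᵁ Proj.basicOpen (CohB1.polyGrading N k) F =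
      Spec.map (CommRingCat.ofHom (awayLift (CohB1.polyGrading N k) (ev k v)
      (MvPolynomial.X i) (isUnit_ev hv))) ⁻¹ᵁ
      PrimeSpectrum.basicOpen (Away.isLocalizationElem (ProjChart.X_mem N k i) hF) := by
    rw [hpt_eq_away hv]
    refine (Scheme.Hom.comp_preimage _ _ _).trans ?_
    exact congrArg (fun U => Spec.map (CommRingCat.ofHom (awayLift (CohB1.polyGrading N k) (ev k v)
      (MvPolynomial.X i) (isUnit_ev hv))) ⁻¹ᵁ U)
      (Proj.awayι_preimage_basicOpen (CohB1.polyGrading N k) (ProjChart.X_mem N k i) Nat.one_pos hF hd)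
  have h2 : (hpt k i v) x ∈ Proj.basicOpen (CohB1.polyGrading N k) F ↔
      x ∈ (hpt k i v) ⁻¹ᵁ Proj.basicOpen (CohB1.polyGrading N k) F := Iff.rfl
  rw [h2, h1]
  have h3 : x ∈ Spec.map (CommRingCat.ofHom (awayLift (CohB1.polyGrading N k) (ev k v)
      (MvPolynomial.X i) (isUnit_ev hv))) ⁻¹ᵁ
      PrimeSpectrum.basicOpen (Away.isLocalizationElem (ProjChart.X_mem N k i) hF) ↔
      awayLift (CohB1.polyGrading N k) (ev k v) (MvPolynomial.X i) (isUnit_ev hv)
        (Away.isLocalizationElem (ProjChart.X_mem N k i) hF) ∉ (x : PrimeSpectrum K).asIdeal := Iff.rfl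
  rw [h3]
  have hx : (x : PrimeSpectrum K).asIdeal = ⊥ := (Ideal.eq_bot_or_top _).resolve_right
    (x : PrimeSpectrum K).isPrime.ne_top
  rw [hx, Ideal.mem_bot]
  have h4 := awayLift_mk (CohB1.polyGrading N k) (ev k v) (isUnit_ev hv) (ProjChart.X_mem N k i) d
    (F ^ 1) (by convert! SetLike.pow_mem_graded 1 hF using 2; simp)
  have h5 : awayLift (CohB1.polyGrading N k) (ev k v) (MvPolynomial.X i) (isUnit_ev hv)
        (Away.isLocalizationElem (ProjChart.X_mem N k i) hF) * v i ^ d = MvPolynomial.aeval v F := by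
    rw [ev_X] at h4
    refine h4.trans ?_
    rw [pow_one]
    rfl
  rw [← h5]
  constructor
  · intro h
    exact mul_ne_zero h (pow_ne_zero _ hv)
  · intro h h0
    exact h (by rw [h0, zero_mul])

/-- Two vectors giving the same point are proportional. -/
theorem exists_smul_of_hpt_eq {i j : Fin (N + 1)} {v w : Fin (N + 1) → K} (hv : v i ≠ 0) (hw : w j ≠ 0)
    (h : hpt k i v = hpt k j w) : ∃ c : K, c ≠ 0 ∧ w = c • v := by
  have hwi : w i ≠ 0 := by
    have h1 := (hpt_mem_basicOpen (k := k) hv Nat.one_pos (ProjChart.X_mem N k i) default).2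
      (by rw [MvPolynomial.aeval_X]; exact hv)
    rw [h, hpt_mem_basicOpen hw Nat.one_pos (ProjChart.X_mem N k i), MvPolynomial.aeval_X] at h1
    exact h1
  rw [hpt_indep hw hwi] at h
  have h1 : aff i v = aff i w := apt_injective i h
  refine ⟨w i / v i, div_ne_zero hwi hv, ?_⟩
  funext l
  obtain rfl | ⟨m, rfl⟩ := Fin.eq_self_or_eq_succAbove i l
  · simp only [Pi.smul_apply, smul_eq_mul]
    field_simp
  · have h2 := congrFun h1 m
    simp only [aff] at h2
    simp only [Pi.smul_apply, smul_eq_mul]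
    rw [div_mul_eq_mul_div, mul_div_assoc, h2]
    field_simp

theorem hpt_smul {i j : Fin (N + 1)} {v : Fin (N + 1) → K} {c : K} (hc : c ≠ 0) (hi : v i ≠ 0)
    (hj : (c • v) j ≠ 0) : hpt k j (c • v) = hpt k i v := by
  have hj' : v j ≠ 0 := by
    intro h
    apply hj
    simp [h]
  rw [hpt_indep hi hj', hpt, hpt, aff_smul j v hc]

theorem aeval_smul {d : ℕ} {P : MvPolynomial (Fin (N + 1)) k} (hP : P.IsHomogeneous d) (c : K)
    (v : Fin (N + 1) → K) : MvPolynomial.aeval (c • v) P = c ^ d * MvPolynomial.aeval v P := by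
  classical
  rw [MvPolynomial.aeval_def, MvPolynomial.aeval_def, MvPolynomial.eval₂_eq, MvPolynomial.eval₂_eq,
    Finset.mul_sum]
  refine Finset.sum_congr rfl fun s hs => ?_
  rw [hP.degree_eq_sum_deg_support hs]
  simp only [Pi.smul_apply, smul_eq_mul, mul_pow, Finset.prod_mul_distrib]
  rw [Finset.prod_pow_eq_pow_sum]
  ring

section closed

open Groth.Agent.Ega2.H291.ProjClosed Groth.Agent.Ega2.H291.QuotGr

theorem mem_range_iff' {R A : Type u} [CommRing R] [CommRing A] [Algebra R A] {𝒜 : ℕ → Submodule R A}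
    [GradedAlgebra 𝒜] {ι : Type*} [Finite ι] (f : ι → A) (hf : ∀ i, f i ∈ 𝒜 1)
    (hcov : (HomogeneousIdeal.irrelevant 𝒜).toIdeal ≤ Ideal.span (Set.range f)) {Z : Scheme.{u}}
    (i : Z ⟶ Proj 𝒜) [IsClosedImmersion i] (x : Proj 𝒜) :
    x ∈ Set.range i ↔ idl f hf i.ker ≤ (ProjectiveSpectrum.asHomogeneousIdeal (𝒜 := 𝒜) x).toIdeal := by
  obtain ⟨e, he⟩ := exists_iso f hf hcov i
  have h1 := Sga5.ProjSurj.mem_range_map_iff (hf := irrelevant_le f hf i.ker)
    (degSurj_mkHom f hf i.ker) x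
  have h2 : RingHom.ker ((mkHom 𝒜 (idl f hf i.ker)) : A →+* A ⧸ idl f hf i.ker) = idl f hf i.ker := Ideal.mk_ker
  have h3 : Set.range i = Set.range (Proj.map (mkHom 𝒜 (idl f hf i.ker)) (irrelevant_le f hf i.ker)) := by
    ext z
    constructor
    · rintro ⟨y, rfl⟩
      exact ⟨e.hom y, by rw [← Scheme.Hom.comp_apply, he]⟩
    · rintro ⟨y, rfl⟩
      refine ⟨e.inv y, ?_⟩
      have : e.inv ≫ i = Proj.map (mkHom 𝒜 (idl f hf i.ker)) (irrelevant_le f hf i.ker) := by
        rw [Iso.inv_comp_eq]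
        exact he.symm
      rw [← this]
      rfl
  rw [h3]
  refine h1.trans ?_
  rw [h2]

variable {X : Scheme.{u}} (ι : X ⟶ CohB1.ProjSpace N k)

/-- The homogeneous ideal of a closed subscheme of projective space. -/
noncomputable def hI : Ideal (MvPolynomial (Fin (N + 1)) k) :=
  idl (𝒜 := CohB1.polyGrading N k) (ι := Fin (N + 1)) (fun i => MvPolynomial.X i)
    (fun i => ProjChart.X_mem N k i) (Scheme.Hom.ker (Y := Proj (CohB1.polyGrading N k)) ι)

theorem hI_isHomogeneous : (hI ι).IsHomogeneous (CohB1.polyGrading N k) := idl_isHomogeneous _ _ _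

theorem irrelevant_le_span : (HomogeneousIdeal.irrelevant (CohB1.polyGrading N k)).toIdeal ≤
    Ideal.span (Set.range (fun i : Fin (N + 1) => (MvPolynomial.X i : MvPolynomial (Fin (N + 1)) k))) := by
  intro p hp
  change p ∈ MvPolynomial.idealOfVars (Fin (N + 1)) k
  rw [← pow_one (MvPolynomial.idealOfVars _ _), MvPolynomial.mem_pow_idealOfVars_iff']
  intro m hm
  obtain rfl : m = 0 := by
    rw [Nat.lt_one_iff, Finsupp.degree_eq_zero_iff] at hm
    exact hm
  have h0 : (DirectSum.decompose (CohB1.polyGrading N k) p 0 : MvPolynomial (Fin (N + 1)) k) =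
      MvPolynomial.homogeneousComponent 0 p := MvPolynomial.decomposition.decompose'_apply p 0
  have h1 := (HomogeneousIdeal.mem_irrelevant_iff _ _).mp hp
  rw [GradedRing.proj_apply, h0] at h1
  have h2 := congrArg (MvPolynomial.coeff 0) h1
  simpa using h2

theorem mem_range_iff [IsClosedImmersion ι] (x : Proj (CohB1.polyGrading N k)) :
    x ∈ Set.range ι ↔ hI ι ≤ (ProjectiveSpectrum.asHomogeneousIdeal (𝒜 := CohB1.polyGrading N k) x).toIdeal := by
  have hcl : @IsClosedImmersion X (Proj (CohB1.polyGrading N k)) ι := ‹IsClosedImmersion ι›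
  exact mem_range_iff' (𝒜 := CohB1.polyGrading N k) (ι := Fin (N + 1)) (fun i => MvPolynomial.X i)
    (fun i => ProjChart.X_mem N k i) irrelevant_le_span (Z := X) ι x

theorem component_mem (F : MvPolynomial (Fin (N + 1)) k) (hF : F ∈ hI ι) (d : ℕ) :
    MvPolynomial.homogeneousComponent d F ∈ hI ι := by
  have h0 : (DirectSum.decompose (CohB1.polyGrading N k) F d : MvPolynomial (Fin (N + 1)) k) =
      MvPolynomial.homogeneousComponent d F := MvPolynomial.decomposition.decompose'_apply F d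
  rw [← h0]
  exact hI_isHomogeneous ι d hF

theorem component_zero (h1 : (1 : MvPolynomial (Fin (N + 1)) k) ∉ hI ι) (F : MvPolynomial (Fin (N + 1)) k)
    (hF : F ∈ hI ι) : MvPolynomial.homogeneousComponent 0 F = 0 := by
  have h2 := component_mem ι F hF 0
  rw [MvPolynomial.homogeneousComponent_zero] at h2 ⊢
  by_contra hne
  apply h1
  have hc : MvPolynomial.coeff 0 F ≠ 0 := fun h => hne (by rw [h, MvPolynomial.C_0])
  have h3 := (hI ι).mul_mem_left (MvPolynomial.C (MvPolynomial.coeff 0 F)⁻¹) h2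
  rw [← MvPolynomial.C_mul, inv_mul_cancel₀ hc, MvPolynomial.C_1] at h3
  exact h3

theorem mem_ideal_iff {i : Fin (N + 1)} {v : Fin (N + 1) → K} (hv : v i ≠ 0) {d : ℕ} (hd : 0 < d)
    {F : MvPolynomial (Fin (N + 1)) k} (hF : F ∈ CohB1.polyGrading N k d) (x : Spec (CommRingCat.of K)) :
    F ∈ (ProjectiveSpectrum.asHomogeneousIdeal (𝒜 := CohB1.polyGrading N k) ((hpt k i v) x)).toIdeal ↔
      MvPolynomial.aeval v F = 0 := by
  have h := hpt_mem_basicOpen hv hd hF x
  have h2 : (hpt k i v) x ∈ Proj.basicOpen (CohB1.polyGrading N k) F ↔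
      F ∉ (ProjectiveSpectrum.asHomogeneousIdeal (𝒜 := CohB1.polyGrading N k) ((hpt k i v) x)).toIdeal := Iff.rfl
  rw [h2] at h
  exact not_iff_not.1 h

theorem forall_aeval_iff (h1 : (1 : MvPolynomial (Fin (N + 1)) k) ∉ hI ι) {i : Fin (N + 1)}
    {v : Fin (N + 1) → K} (hv : v i ≠ 0) (x : Spec (CommRingCat.of K)) :
    hI ι ≤ (ProjectiveSpectrum.asHomogeneousIdeal (𝒜 := CohB1.polyGrading N k) ((hpt k i v) x)).toIdeal ↔
      ∀ F ∈ hI ι, MvPolynomial.aeval v F = 0 := by
  constructor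
  · intro h F hF
    rw [← MvPolynomial.sum_homogeneousComponent F, map_sum]
    refine Finset.sum_eq_zero fun d _ => ?_
    rcases Nat.eq_zero_or_pos d with rfl | hd
    · rw [component_zero ι h1 F hF, map_zero]
    · rw [← mem_ideal_iff hv hd (MvPolynomial.homogeneousComponent_mem d F) x]
      exact h (component_mem ι F hF d)
  · intro h F hF
    rw [← MvPolynomial.sum_homogeneousComponent F]
    refine sum_mem fun d _ => ?_
    rcases Nat.eq_zero_or_pos d with rfl | hd
    · rw [component_zero ι h1 F hF]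
      exact zero_mem _
    · rw [mem_ideal_iff hv hd (MvPolynomial.homogeneousComponent_mem d F) x]
      exact h _ (component_mem ι F hF d)

variable [IsClosedImmersion ι]

theorem one_notMem [Nonempty X] : (1 : MvPolynomial (Fin (N + 1)) k) ∉ hI ι := by
  intro h
  obtain ⟨x⟩ := ‹Nonempty X›
  have h1 := (mem_range_iff ι (ι x)).1 ⟨x, rfl⟩ h
  exact (ProjectiveSpectrum.isPrime (𝒜 := CohB1.polyGrading N k) (ι x)).ne_top ((Ideal.eq_top_iff_one _).2 h1)

variable (K)

/-- `K`-points -/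
abbrev XK : Type u := { g : Spec (CommRingCat.of K) ⟶ X //
  g ≫ (ι ≫ CohB1.ProjSpace.toSpec N k) = Spec.map (CommRingCat.ofHom (algebraMap k K)) }

/-- Nonzero zeros of the ideal. -/
abbrev Z : Type u := { v : Fin (N + 1) → K // v ≠ 0 ∧ ∀ F ∈ hI ι, MvPolynomial.aeval v F = 0 }

variable {K}

theorem exists_pt [Nonempty X] (v : Fin (N + 1) → K) (hv : v ≠ 0) (h0 : ∀ F ∈ hI ι, MvPolynomial.aeval v F = 0) :
    ∃ x : XK K ι, ∀ i, v i ≠ 0 → x.1 ≫ ι = hpt k i v := by
  obtain ⟨i, hi⟩ := Function.ne_iff.mp hv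
  have hi : v i ≠ 0 := hi
  have h1 := (forall_aeval_iff ι (one_notMem ι) hi default).2 h0
  obtain ⟨z, hz⟩ := (mem_range_iff ι _).2 h1
  obtain ⟨g, hg, -⟩ := Etrest.EtExtStalk.exists_fac_of_mem_range ι (hpt k i v) z hz.symm
  refine ⟨⟨g, ?_⟩, fun j hj => ?_⟩
  · rw [← Category.assoc, hg, hpt, apt_toSpec]
  · exact hg.trans (hpt_indep hi hj)

/-- The point attached to a nonzero zero. -/
noncomputable def F [Nonempty X] (z : Z K ι) : XK K ι := (exists_pt ι z.1 z.2.1 z.2.2).choose

theorem F_spec [Nonempty X] (z : Z K ι) (i : Fin (N + 1)) (hi : z.1 i ≠ 0) :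
    (F ι z).1 ≫ ι = hpt k i z.1 := (exists_pt ι z.1 z.2.1 z.2.2).choose_spec i hi

theorem F_eq_iff [Nonempty X] (z z' : Z K ι) : F ι z = F ι z' ↔ ∃ c : K, c ≠ 0 ∧ z'.1 = c • z.1 := by
  obtain ⟨i, hi⟩ := Function.ne_iff.mp z.2.1
  obtain ⟨j, hj⟩ := Function.ne_iff.mp z'.2.1
  have hi : z.1 i ≠ 0 := hi
  have hj : z'.1 j ≠ 0 := hj
  constructor
  · intro h
    have h1 := F_spec ι z i hi
    have h2 := F_spec ι z' j hj
    rw [h] at h1
    exact exists_smul_of_hpt_eq hi hj (h1.symm.trans h2)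
  · rintro ⟨c, hc, h⟩
    apply Subtype.ext
    rw [← cancel_mono ι, F_spec ι z i hi, F_spec ι z' j hj]
    have hj' : (c • z.1) j ≠ 0 := by rw [← h]; exact hj
    rw [h]
    exact (hpt_smul hc hi hj').symm

theorem F_surjective [Nonempty X] : Function.Surjective (F (K := K) ι) := by
  rintro ⟨g, hg⟩
  have hg' : (g ≫ ι) ≫ CohB1.ProjSpace.toSpec N k =
      Spec.map (CommRingCat.ofHom (algebraMap k K)) := by rw [Category.assoc]; exact hg
  obtain ⟨j, a, ha⟩ := exists_eq_apt _ hg'
  let v : Fin (N + 1) → K := Fin.insertNth (α := fun _ => K) j 1 a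
  have hvj : v j = 1 := by simp [v]
  have haff : aff j v = a := by
    funext l
    simp [aff, v]
  have hvj' : v j ≠ 0 := by rw [hvj]; exact one_ne_zero
  have hv : v ≠ 0 := by
    intro h
    rw [h] at hvj'
    exact hvj' rfl
  have hpt' : g ≫ ι = hpt k j v := by rw [ha, hpt, haff]
  have h0 : ∀ F ∈ hI ι, MvPolynomial.aeval v F = 0 := by
    rw [← forall_aeval_iff ι (one_notMem ι) hvj' default, ← mem_range_iff ι, ← hpt']
    exact ⟨g default, rfl⟩
  refine ⟨⟨v, hv, h0⟩, ?_⟩
  apply Subtype.ext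
  rw [← cancel_mono ι, F_spec ι ⟨v, hv, h0⟩ j hvj', hpt']

theorem smul_zero' {v : Fin (N + 1) → K} (h1 : (1 : MvPolynomial (Fin (N + 1)) k) ∉ hI ι)
    (h0 : ∀ F ∈ hI ι, MvPolynomial.aeval v F = 0) (c : K) (F : MvPolynomial (Fin (N + 1)) k) (hF : F ∈ hI ι) :
    MvPolynomial.aeval (c • v) F = 0 := by
  rw [← MvPolynomial.sum_homogeneousComponent F, map_sum]
  refine Finset.sum_eq_zero fun d _ => ?_
  rw [aeval_smul (MvPolynomial.homogeneousComponent_isHomogeneous d F), h0 _ (component_mem ι F hF d), mul_zero]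

theorem card_Z [Nonempty X] [Finite K] : Nat.card (Z K ι) = Nat.card (XK K ι) * (Nat.card K - 1) := by
  classical
  obtain ⟨s, hs⟩ := (F_surjective (K := K) ι).hasRightInverse
  have hscale : ∀ (c : Kˣ) (z : Z K ι), (c : K) • z.1 ≠ 0 ∧ ∀ F ∈ hI ι, MvPolynomial.aeval ((c : K) • z.1) F = 0 := by
    intro c z
    exact ⟨smul_ne_zero c.ne_zero z.2.1, smul_zero' ι (one_notMem ι) z.2.2 _⟩
  let f : XK K ι × Kˣ → Z K ι := fun p => ⟨(p.2 : K) • (s p.1).1, hscale p.2 (s p.1)⟩
  have hFf : ∀ p, F ι (f p) = p.1 := by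
    intro p
    have : F ι (s p.1) = F ι (f p) := (F_eq_iff ι _ _).mpr ⟨p.2, p.2.ne_zero, rfl⟩
    rw [← this, hs]
  have hf : Function.Bijective f := by
    constructor
    · rintro ⟨x, c⟩ ⟨x', c'⟩ h
      have h1 : x = x' := by
        have := congrArg (F ι) h
        rw [hFf, hFf] at this
        exact this
      subst h1
      have h2 : (c : K) • (s x).1 = (c' : K) • (s x).1 := congrArg Subtype.val h
      have h3 : (c : K) = c' := smul_left_injective K (s x).2.1 h2
      rw [Units.ext h3]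
    · intro z
      have h1 : F ι (s (F ι z)) = F ι z := hs _
      obtain ⟨c, hc, h2⟩ := (F_eq_iff ι _ _).mp h1
      exact ⟨⟨F ι z, Units.mk0 c hc⟩, Subtype.ext h2.symm⟩
  rw [← Nat.card_congr (Equiv.ofBijective f hf), Nat.card_prod, Nat.card_units]

/-- Zeros of the homogeneous ideal and points. -/
theorem card_zeros [Nonempty X] [Finite K] :
    Nat.card {v : Fin (N + 1) → K // ∀ F ∈ hI ι, MvPolynomial.aeval v F = 0} =
    SgaExt.pointCount (ι ≫ CohB1.ProjSpace.toSpec N k) K * (Nat.card K - 1) + 1 := by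
  classical
  have hZ := card_Z (K := K) ι
  change _ = Nat.card (XK K ι) * (Nat.card K - 1) + 1
  rw [← hZ]
  have h0 : ∀ F ∈ hI ι, MvPolynomial.aeval (0 : Fin (N + 1) → K) F = 0 := by
    intro F hF
    have h1 := component_zero ι (one_notMem ι) F hF
    rw [MvPolynomial.homogeneousComponent_zero] at h1
    have h2 : MvPolynomial.coeff 0 F = 0 := by
      rwa [← MvPolynomial.C_0, MvPolynomial.C_inj] at h1
    rw [MvPolynomial.aeval_zero, MvPolynomial.constantCoeff_eq, h2, map_zero]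
  let e : {v : Fin (N + 1) → K // ∀ F ∈ hI ι, MvPolynomial.aeval v F = 0} ≃ Option (Z K ι) :=
    { toFun := fun v => if h : v.1 = 0 then none else some ⟨v.1, h, v.2⟩
      invFun := fun z => z.elim ⟨0, h0⟩ (fun z => ⟨z.1, z.2.2⟩)
      left_inv := by
        rintro ⟨v, hv⟩
        by_cases h : v = 0
        · subst h; simp
        · simp [h]
      right_inv := by
        rintro (_ | ⟨z, hz⟩)
        · simp
        · simp [hz.1] }
  rw [Nat.card_congr e, Finite.card_option]

end closed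

end K467.ProjPt
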