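import Groth.Agent.Zeta.K467.PlaneModel

/-!
# The sharp bound for the number of points of an absolutely irreducible affine plane curve

`sharp_pc`: `|N - q| ≤ (D - 1) (D - 2) √q + A(d)` for an absolutely irreducible `F ∈ 𝔽_q[x, y]` of total
degree `D ≤ d`.
-/

set_option autoImplicit false
open Polynomial

namespace K467.SharpPC

open K467.LinNoether K467.AbsIrr K467.PlaneFibre K467.PlaneCount K467.PlaneModel
  Groth.Agent.Models.FFRR Groth.Agent.MiscA.WCPlace
  Groth.Agent.MiscA.WCPlaceCrv Groth.Agent.MiscA.WCPlaceRes Groth.Agent.MiscA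

universe u v

theorem hasse_weil {k : Type u} {K : Type v} [Field k] [Field K] [Algebra k K] {u v : K} {D : ℕ}
    {G : k[X][X]} (M : Model k K u v D G) [Finite k] :
    |(Nat.card {P : Place k K // (crv M.isSep).dg0 P = 1} : ℝ) - (Nat.card k + 1)| ≤
      ((D : ℝ) - 1) * (D - 2) * Real.sqrt (Nat.card k) := by
  have h0 := Groth.Agent.Cohder.HWMain.main M.const M.isSep
  obtain ⟨α, -, hα, -, hN⟩ := WCMain.exists_alphas M.isSep M.const h0 ((crv M.isSep).i 0) rfl
  have hN1 := hN 1 le_rfl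
  have h1 : ZetaAbsCount.N (crv M.isSep).dg0 1 = Nat.card {P : Place k K // (crv M.isSep).dg0 P = 1} := by
    simp [ZetaAbsCount.N]
  rw [h1] at hN1
  have hne := nonempty_place M.isSep
  have hl := l_zero_eq_one M.isSep M.const
  have hfd := M.fin
  have hg := Genus.genus_le (crv M.isSep) (crv_fin M.isSep) hl M.tr D M.pos M.rank M.ind
    (fun j => G.coeff j) M.coeff M.root'
  have hs : ‖∑ i, α i ^ 1‖ ≤ (2 * (crv M.isSep).i 0 : ℕ) * Real.sqrt (Nat.card k) := by
    refine (norm_sum_le _ _).trans ?_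
    have h2 : ∀ i ∈ (Finset.univ : Finset (Fin (2 * (crv M.isSep).i 0))), ‖α i ^ 1‖ ≤ Real.sqrt (Nat.card k) := by
      intro i _
      rw [pow_one, ← hα i, Real.sqrt_sq (norm_nonneg _)]
    refine (Finset.sum_le_sum h2).trans ?_
    simp
  have h3 : ((Nat.card {P : Place k K // (crv M.isSep).dg0 P = 1} : ℝ) - (Nat.card k + 1) : ℂ) =
      - ∑ i, α i ^ 1 := by
    have : ((Nat.card {P : Place k K // (crv M.isSep).dg0 P = 1} : ℕ) : ℂ) = (Nat.card k : ℂ) ^ 1 + 1 - ∑ i, α i ^ 1 := hN1
    push_cast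
    rw [this]
    ring
  have h4 : |(Nat.card {P : Place k K // (crv M.isSep).dg0 P = 1} : ℝ) - (Nat.card k + 1)| =
      ‖((Nat.card {P : Place k K // (crv M.isSep).dg0 P = 1} : ℝ) - (Nat.card k + 1) : ℂ)‖ := by
    rw [← Real.norm_eq_abs, ← Complex.norm_real]
    push_cast
    rfl
  rw [h4, h3, norm_neg]
  refine hs.trans ?_
  have h5 : ((2 * (crv M.isSep).i 0 : ℕ) : ℝ) ≤ ((D : ℝ) - 1) * (D - 2) := by
    exact_mod_cast hg
  gcongr

theorem nonneg_of_pos {D : ℕ} (hD : 1 ≤ D) : (0 : ℝ) ≤ ((D : ℝ) - 1) * (D - 2) := by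
  rcases Nat.lt_or_ge D 2 with h | h
  · have : D = 1 := by omega
    subst this; simp
  · have h1 : (2 : ℝ) ≤ D := by exact_mod_cast h
    nlinarith

theorem sharp_pc (d : ℕ) : ∃ A : ℝ, 0 ≤ A ∧ ∀ (k : Type u) [Field k] [Finite k]
    (F : MvPolynomial (Fin 2) k), F.totalDegree ≤ d →
    Irreducible (MvPolynomial.map (algebraMap k (AlgebraicClosure k)) F) →
    |(Nat.card {x : Fin 2 → k // MvPolynomial.eval x F = 0} : ℝ) - Nat.card k| ≤
      ((F.totalDegree : ℝ) - 1) * (F.totalDegree - 2) * Real.sqrt (Nat.card k) + A := by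
  refine ⟨((d : ℝ) + 1) ^ 2 + (d + d * ((2 * d) * d)) + 1, by positivity, ?_⟩
  intro k _ _ F hFd hF
  have hFk := irreducible_of_map hF
  have hD := pos_of_irreducible F hFk
  set D := F.totalDegree with hDdef
  have hDd : (D : ℝ) ≤ d := by exact_mod_cast hFd
  have hq0 : (0 : ℝ) ≤ Real.sqrt (Nat.card k) := Real.sqrt_nonneg _
  have hmain : (0 : ℝ) ≤ ((D : ℝ) - 1) * (D - 2) * Real.sqrt (Nat.card k) :=
    mul_nonneg (nonneg_of_pos hD) hq0
  by_cases hq : D + 1 < Nat.card k
  · have hp := isPrime F hFk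
    obtain ⟨c, hc, M, hR⟩ := exists_model F hF hq
    classical
    let R := resultant (GG F c) (derivative (GG F c)) D (D - 1)
    let Bad : Finset k := R.roots.toFinset
    have hBadcard : Bad.card ≤ (2 * D - 1) * D := by
      refine (Multiset.toFinset_card_le _).trans ((card_roots' _).trans ?_)
      refine ResDeg.degFun_natDegree.disc_le (GG F c) D hD D fun i => ?_
      exact (coeff_GG F c i).trans (Nat.sub_le _ _)
    have hBad : ∀ a ∉ Bad, Squarefree ((GG F c).map (evalRingHom a)) := by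
      intro a ha
      have h1 : evalRingHom a R ≠ 0 := by
        intro h2
        apply ha
        rw [Multiset.mem_toFinset, mem_roots hR]
        exact h2
      exact (ResDeg.squarefree_of_disc_ne_zero (GG F c) (monic_GG F c hc) D (natDegree_GG F c hc) hD
        (evalRingHom a) h1).squarefree
    have h1 := card_points_sub_card_places M Bad hBad
    rw [PlaneModel.card_points F c hc] at h1
    have h2 := hasse_weil M
    have h3 : |(Nat.card {x : Fin 2 → k // MvPolynomial.eval x F = 0} : ℝ) -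
      Nat.card {P : Place k (FF F) // (crv M.isSep).dg0 P = 1}| ≤ D + D * Bad.card := by
      exact_mod_cast h1
    have h4 : (D : ℝ) + D * Bad.card ≤ d + d * ((2 * d) * d) := by
      have h5 : (Bad.card : ℝ) ≤ (2 * d) * d := by
        have h6 : Bad.card ≤ (2 * d) * d := hBadcard.trans (by
          apply Nat.mul_le_mul _ hFd
          omega)
        exact_mod_cast h6
      gcongr
    rw [abs_le] at h2 h3 ⊢
    have hd2 : (0 : ℝ) ≤ ((d : ℝ) + 1) ^ 2 := by positivity
    constructor <;> linarith [h2.1, h2.2, h3.1, h3.2]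
  · have hqd : (Nat.card k : ℝ) ≤ d + 1 := by
      have : Nat.card k ≤ d + 1 := by omega
      exact_mod_cast this
    have hN : (Nat.card {x : Fin 2 → k // MvPolynomial.eval x F = 0} : ℝ) ≤ (d + 1) ^ 2 := by
      have h1 : Nat.card {x : Fin 2 → k // MvPolynomial.eval x F = 0} ≤ Nat.card (Fin 2 → k) :=
        Nat.card_le_card_of_injective _ Subtype.val_injective
      have h2 : Nat.card (Fin 2 → k) = Nat.card k ^ 2 := by rw [Nat.card_pi]; simp
      rw [h2] at h1
      have h3 : (Nat.card {x : Fin 2 → k // MvPolynomial.eval x F = 0} : ℝ) ≤ (Nat.card k : ℝ) ^ 2 := by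
        exact_mod_cast h1
      refine h3.trans ?_
      gcongr
    have h0 : (0 : ℝ) ≤ (Nat.card {x : Fin 2 → k // MvPolynomial.eval x F = 0} : ℝ) := Nat.cast_nonneg _
    have hk0 : (0 : ℝ) ≤ (Nat.card k : ℝ) := Nat.cast_nonneg _
    have hd0 : (0 : ℝ) ≤ d + d * ((2 * d) * d) := by positivity
    have hd1 : (d : ℝ) + 1 ≤ (d + 1) ^ 2 := by nlinarith [(Nat.cast_nonneg d : (0 : ℝ) ≤ d)]
    rw [abs_le]
    constructor <;> linarith

end K467.SharpPC
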